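import Cfsg.Agent.Lib.QuadPair.RootSet

/-!
The components of the root subgroups of a quadratic pair under the rank one relation.
-/

set_option autoImplicit false

namespace CfsgLib.QuadPair

open Cfsg

universe u

variable {k : Type u} [Field k] {M : Type u} [AddCommGroup M] [Module k M] [FiniteDimensional k M]
variable {G : Subgroup (LinearMap.GeneralLinearGroup k M)} {d : ℕ}

/-- Two roots whose product is not nilpotent. -/
def Partner (G : Subgroup (LinearMap.GeneralLinearGroup k M)) (d : ℕ) (s t : Module.End k M) : Prop :=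
  Root G d s ∧ Root G d t ∧ ¬ IsNilpotent (t * s)

/-- Connected by a chain of partners. -/
abbrev Linked (G : Subgroup (LinearMap.GeneralLinearGroup k M)) (d : ℕ) : Module.End k M → Module.End k M → Prop :=
  Relation.ReflTransGen (Partner G d)

omit [FiniteDimensional k M] in
theorem Linked.symm {s t : Module.End k M} (h : Linked G d s t) : Linked G d t s := by
  induction h with
  | refl => exact .refl
  | tail _ hbc ih => exact .head ⟨hbc.2.1, hbc.1, fun e => hbc.2.2 (isNilpotent_swap e)⟩ ih

omit [FiniteDimensional k M] in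
theorem conjOp_comp (g h : LinearMap.GeneralLinearGroup k M) (x : Module.End k M) :
    conjOp g (conjOp h x) = conjOp (g * h) x := by
  simp [conjOp, mul_assoc]

omit [FiniteDimensional k M] in
theorem conjOp_pow (g : LinearMap.GeneralLinearGroup k M) (x : Module.End k M) (n : ℕ) :
    conjOp g (x ^ n) = conjOp g x ^ n := by
  induction n with
  | zero => simp [conjOp]
  | succ n ih => rw [pow_succ, pow_succ, conjOp_mul, ih]

omit [FiniteDimensional k M] in
theorem conjOp_one' (x : Module.End k M) : conjOp (1 : LinearMap.GeneralLinearGroup k M) x = x := by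
  simp [conjOp]

omit [FiniteDimensional k M] in
theorem conjOp_nilpotent (g : LinearMap.GeneralLinearGroup k M) {x : Module.End k M}
    (h : IsNilpotent x) : IsNilpotent (conjOp g x) := by
  obtain ⟨n, hn⟩ := h
  exact ⟨n, by rw [← conjOp_pow, hn, conjOp_zero]⟩

omit [FiniteDimensional k M] in
theorem Linked.conj {g : LinearMap.GeneralLinearGroup k M} (hg : g ∈ G) {s t : Module.End k M}
    (h : Linked G d s t) : Linked G d (conjOp g s) (conjOp g t) := by
  induction h with
  | refl => exact .refl
  | @tail b c _ hbc ih =>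
    refine ih.tail ⟨hbc.1.conj hg, hbc.2.1.conj hg, fun e => hbc.2.2 ?_⟩
    rw [← conjOp_mul] at e
    have := conjOp_nilpotent g⁻¹ e
    rwa [conjOp_comp, inv_mul_cancel, conjOp_one'] at this

variable (hk2 : ringChar k ≠ 2) (hk3 : Nat.card k ≠ 3) (hG : IsQuadraticPair G)
include hk2 hk3 hG

/-- A noncommuting unipotent pair and its commutator have a common partner. -/
theorem exists_common (hm : MinRank G d) {s t : Module.End k M} (hs : Root G d s) (ht : Root G d t)
    (hnil : IsNilpotent (t * s)) (hne : s * t - t * s ≠ 0) :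
    ∃ v, Partner G d s v ∧ Partner G d v (s * t - t * s) := by
  have h2 := Ring.two_ne_zero hk2
  have hP := commPair hm h2 hs ht hnil hne
  obtain ⟨q, hq⟩ := exists_opposite hk2 hk3 hG hm hP.root
  set x := s * t - t * s with hx
  obtain ⟨hγsq, hγF, hγg, -, -⟩ := level_one hm h2 hq hP.s_mem hs.sq hs.fam
  set γ := x * q * s * (q * x) with hγ
  have hγc : γ ∈ Cls G x := ⟨hγsq, hγF, hγg.1, hγg.2⟩
  obtain ⟨c, hc⟩ : ∃ c : k, γ + c • x ≠ 0 := by
    by_cases h1 : γ + (1 : k) • x = 0
    · refine ⟨2, fun h => hP.root.ne_zero hm ?_⟩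
      rw [one_smul] at h1
      rw [two_smul, ← add_assoc, h1, zero_add] at h
      exact h
    · exact ⟨1, h1⟩
  obtain ⟨f, hf, hfy⟩ := comm_surj hm h2 hs ht hnil hne hq
    (y := -(c • x)) (by simpa using Cls.smul (Cls.smul hP.root.mem_cls c) (-1 : k))
  have hfU : f ∈ uOps x := cls_subset_uOps' hm h2 hk3 hs ht hnil hne hf
  obtain ⟨g, hg⟩ := exists_elem hf.1
  have hgG : g ∈ G := fam_mem hf.2.1 hg
  have hfsf : f * s * f = 0 := u_mul_u_mul_u hfU hP.s_mem hfU
  have hcs : conjOp g s = s + c • x := by
    rw [conjOp_one_add hf.1 (c := 1) (by rw [one_smul]; exact hg), one_mul, hfsf, smul_zero,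
      sub_zero, one_smul, ← neg_sub, hfy, neg_neg]
  have hcx : conjOp g x = x := by
    rw [conjOp_one_add hf.1 (c := 1) (by rw [one_smul]; exact hg), hfU.2.1, hfU.1]
    simp
  set u := s + c • x with hu
  have hur : Root G d u := hcs ▸ hs.conj hgG
  set e := x * q with he
  set r := q * x with hr
  have hex : e * x = x := by rw [he, hq.sqs]
  have hxr : x * r = x := by rw [hr, ← mul_assoc, hq.sqs]
  have hrq : r * q = q := by rw [hr, hq.qsq]
  have heur : e * u * r = γ + c • x := by
    rw [hu, mul_add, add_mul, mul_smul_comm, smul_mul_assoc, hex, hxr]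
  have hyc : γ + c • x ∈ Cls G x := Cls.add hP.root.sq hγc (Cls.smul hP.root.mem_cls c)
  obtain ⟨hyr, -, hyK⟩ := Cls.root hm hP.root hyc hc
  have hrkeu : rk (e * u) = d := by
    have h1 : rk (e * u * r) = d := by rw [heur]; exact hyr.rank
    have h2' := rk_mul_le_left (e * u) r
    have h3 := rk_mul_le_right e u
    rw [hur.rank] at h3
    omega
  have hdisj1 : LinearMap.range u ⊓ LinearMap.ker q = ⊥ := by
    have h1 := rk_mul_add e u
    rw [hrkeu, hur.rank] at h1
    have h4 : LinearMap.range u ⊓ LinearMap.ker e = ⊥ := Submodule.finrank_eq_zero.1 (by omega)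
    rw [eq_bot_iff, ← h4]
    exact inf_le_inf_left _ (ker_le_ker_mul x q)
  have hdisj2 : LinearMap.range q ⊓ LinearMap.ker u = ⊥ := by
    rw [eq_bot_iff]
    rintro v ⟨⟨w, rfl⟩, hv⟩
    rw [Submodule.mem_bot]
    have hrv : r (q w) = q w := by rw [← Module.End.mul_apply, hrq]
    have h1 : q w ∈ LinearMap.ker (γ + c • x) := by
      rw [LinearMap.mem_ker, ← heur, Module.End.mul_apply, Module.End.mul_apply, hrv,
        LinearMap.mem_ker.1 hv, map_zero]
    rw [hyK, LinearMap.mem_ker] at h1
    rw [← hrv, hr, Module.End.mul_apply, h1, map_zero]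
  have hnn := (nonnil_iff hm h2 hk3 hur hq.right).2 ⟨hdisj1, hdisj2⟩
  have hgi := G.inv_mem hgG
  have hback : ∀ {y z : Module.End k M}, conjOp g y = z → y = conjOp g⁻¹ z := by
    intro y z h
    rw [← h, conjOp_comp, inv_mul_cancel, conjOp_one']
  refine ⟨conjOp g⁻¹ q, ⟨hs, hq.right.conj hgi, fun e' => hnn ?_⟩,
    ⟨hq.right.conj hgi, hP.root, fun e' => hq.nonnil hm ?_⟩⟩
  · have := conjOp_nilpotent g e'
    rwa [conjOp_mul, conjOp_comp, mul_inv_cancel, conjOp_one', hcs] at this
  · have := conjOp_nilpotent g (isNilpotent_swap e')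
    rwa [conjOp_mul, conjOp_comp, mul_inv_cancel, conjOp_one', hcx] at this

/-- A root is linked to the nonzero members of its class. -/
theorem linked_cls (hm : MinRank G d) {s s' : Module.End k M} (hs : Root G d s)
    (hs' : s' ∈ Cls G s) (h0 : s' ≠ 0) : Linked G d s s' := by
  obtain ⟨q, hq⟩ := exists_opposite hk2 hk3 hG hm hs
  obtain ⟨hr, -, -⟩ := Cls.root hm hs hs' h0
  have hn := hq.nonnil hm
  refine .head ⟨hs, hq.right, hn⟩ (.single ⟨hq.right, hr, fun e => hn ?_⟩)
  exact nilp_of_cls hm (Ring.two_ne_zero hk2) hk3 hr hq.right ((Cls.eq hm hs hs' h0).symm ▸ hs.mem_cls)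
    hq.right.mem_cls (isNilpotent_swap e)

/-- Roots in different components commute. -/
theorem comm_of_not_linked (hm : MinRank G d) {s t : Module.End k M} (hs : Root G d s) (ht : Root G d t)
    (h : ¬ Linked G d s t) : IsNilpotent (t * s) ∧ s * t = t * s := by
  have hnil : IsNilpotent (t * s) := by
    by_contra hn
    exact h (.single ⟨hs, ht, hn⟩)
  refine ⟨hnil, sub_eq_zero.1 ?_⟩
  by_contra hne
  refine h ?_
  have h2 := Ring.two_ne_zero hk2
  obtain ⟨v, hv1, hv2⟩ := exists_common hk2 hk3 hG hm hs ht hnil hne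
  have hne' : t * s - s * t ≠ 0 := fun e => hne (by rw [← neg_sub, e, neg_zero])
  obtain ⟨w, hw1, hw2⟩ := exists_common hk2 hk3 hG hm ht hs (isNilpotent_swap hnil) hne'
  have hxr := (commPair hm h2 hs ht hnil hne).root
  have hlink : Linked G d (s * t - t * s) (t * s - s * t) := by
    refine linked_cls hk2 hk3 hG hm hxr ?_ hne'
    simpa using Cls.smul hxr.mem_cls (-1 : k)
  exact ((Relation.ReflTransGen.head hv1 (.single hv2)).trans hlink).trans
    (Linked.symm (Relation.ReflTransGen.head hw1 (.single hw2)))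

/-- The linked classes of roots form a finite set. -/
theorem finite_components (hm : MinRank G d) :
    ∃ (r : ℕ) (rep : Fin r → Module.End k M), (∀ i, Root G d (rep i)) ∧
      (∀ i j, Linked G d (rep i) (rep j) → i = j) ∧
      ∀ s, Root G d s → ∃ i, Linked G d (rep i) s := by
  let S : Setoid {x : Module.End k M // Root G d x} :=
    ⟨fun a b => Linked G d a.1 b.1, ⟨fun _ => .refl, fun h => h.symm, fun h h' => h.trans h'⟩⟩
  let f : Quotient S → Module.End k M := fun c => c.out.1
  have hsep : ∀ c c', Linked G d (f c) (f c') → c = c' := fun c c' h => by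
    rw [← Quotient.out_eq c, ← Quotient.out_eq c']
    exact Quotient.sound h
  have hli : LinearIndependent k f := by
    classical
    rw [linearIndependent_iff']
    intro T g hsum i hi
    by_contra hgi
    obtain ⟨q, hq⟩ := exists_opposite hk2 hk3 hG hm i.out.2
    have hlq : Linked G d (f i) q := .single ⟨hq.left, hq.right, hq.nonnil hm⟩
    have hcom : ∀ j ∈ T.erase i, f j * q = q * f j := fun j hj =>
      (comm_of_not_linked hk2 hk3 hG hm j.out.2 hq.right fun h =>
        Finset.ne_of_mem_erase hj (hsep j i (h.trans hlq.symm))).2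
    rw [← Finset.add_sum_erase _ _ hi] at hsum
    have hi' : g i • f i = -∑ j ∈ T.erase i, g j • f j := eq_neg_of_add_eq_zero_left hsum
    have hfq : g i • (f i * q) = g i • (q * f i) := by
      rw [← smul_mul_assoc, ← mul_smul_comm, hi', neg_mul, mul_neg, Finset.sum_mul, Finset.mul_sum]
      congr 1
      refine Finset.sum_congr rfl fun j hj => ?_
      rw [smul_mul_assoc, mul_smul_comm, hcom j hj]
    have hfq' : f i * q = q * f i := smul_right_injective _ hgi hfq
    have h0 : f i = 0 := by
      refine Eq.trans (show f i = f i * q * f i from hq.sqs.symm) ?_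
      rw [hfq', mul_assoc, hq.left.sq, mul_zero]
    exact hq.left.ne_zero hm h0
  haveI : Finite (Quotient S) := hli.finite
  obtain ⟨r, ⟨e⟩⟩ := Finite.exists_equiv_fin (Quotient S)
  refine ⟨r, fun i => f (e.symm i), fun i => (e.symm i).out.2, fun i j h => e.symm.injective (hsep _ _ h),
    fun s hs => ⟨e ⟦⟨s, hs⟩⟧, ?_⟩⟩
  show Linked G d (f (e.symm (e ⟦⟨s, hs⟩⟧))) s
  rw [e.symm_apply_apply]
  exact Quotient.mk_out (s := S) ⟨s, hs⟩

end CfsgLib.QuadPair
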