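import Cfsg.Agent.Lib.QuadPair.SL2Ring

/-!
The generation theorem for `SL₂(k[z])`.
-/

set_option autoImplicit false

namespace CfsgLib.QuadPair

open Matrix CfsgLib.ThreeTrans

variable {k : Type*} [Field k]

theorem exists_sq_ne_one' (h2 : (2 : k) ≠ 0) (hk3 : Nat.card k ≠ 3) :
    ∃ c : k, c ≠ 0 ∧ c ^ 2 ≠ 1 := by
  by_cases h3 : (3 : k) = 0
  · by_contra! hall
    apply hk3
    classical
    have hmem : ∀ c : k, c ∈ ({0, 1, -1} : Finset k) := fun c => by
      by_cases hc : c = 0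
      · simp [hc]
      · rcases sq_eq_one_iff.1 (hall c hc) with h | h <;> simp [h]
    have h01 : (0 : k) ≠ 1 := zero_ne_one
    have h0m : (0 : k) ≠ -1 := fun h => by simp at h
    have h1m : (1 : k) ≠ -1 := fun h => h2 (by linear_combination h)
    have : Fintype k := ⟨{0, 1, -1}, hmem⟩
    rw [Nat.card_eq_fintype_card]
    rw [Fintype.card, show (Finset.univ : Finset k) = {0, 1, -1} from
      (Finset.eq_univ_iff_forall.2 hmem).symm]
    exact Finset.card_eq_three.2 ⟨0, 1, -1, h01, h0m, h1m, rfl⟩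
  · exact ⟨2, h2, fun h => h3 (by linear_combination h)⟩

/-- A normal subgroup of `SL₂` over a field with more than three elements is central or everything. -/
theorem normal_eq_top {F : Type*} [Field F] (hF : ∃ a : F, a ≠ 0 ∧ a ^ 2 ≠ 1)
    (N : Subgroup (SpecialLinearGroup (Fin 2) F)) [hN : N.Normal]
    (hc : ¬ N ≤ Subgroup.center (SpecialLinearGroup (Fin 2) F)) : N = ⊤ := by
  haveI := Matrix.ProjectiveSpecialLinearGroup.rank_two_simple' hF
  obtain ⟨a, ha, ha2⟩ := hF
  set Z := Subgroup.center (SpecialLinearGroup (Fin 2) F)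
  rcases (hN.map (QuotientGroup.mk' Z) (QuotientGroup.mk'_surjective Z)).eq_bot_or_eq_top with h | h
  · exact absurd (by rwa [Subgroup.map_eq_bot_iff, QuotientGroup.ker_mk'] at h) hc
  · rw [eq_top_iff, ← Matrix.SL2.commutator_eq_top ha ha2, commutator_def, Subgroup.commutator_le]
    have hdec : ∀ g, ∃ n ∈ N, ∃ z ∈ Z, g = n * z := fun g => by
      obtain ⟨n, hn, hg⟩ := h.ge (Subgroup.mem_top (QuotientGroup.mk' Z g))
      exact ⟨n, hn, n⁻¹ * g, QuotientGroup.eq.1 hg, by group⟩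
    intro g _ g' _
    obtain ⟨n, hn, z, hz, rfl⟩ := hdec g
    obtain ⟨n', hn', z', hz', rfl⟩ := hdec g'
    have hz1 := Subgroup.mem_center_iff.1 hz
    have hz2 := Subgroup.mem_center_iff.1 hz'
    have : (n * z) * (n' * z') * (n * z)⁻¹ * (n' * z')⁻¹ = n * n' * n⁻¹ * n'⁻¹ := by
      simp only [_root_.mul_inv_rev]
      calc n * z * (n' * z') * (z⁻¹ * n⁻¹) * (z'⁻¹ * n'⁻¹)
          = n * (z * n') * (z' * z⁻¹) * n⁻¹ * z'⁻¹ * n'⁻¹ := by group
        _ = n * (n' * z) * (z⁻¹ * z') * n⁻¹ * z'⁻¹ * n'⁻¹ := by rw [hz1 n', hz2 z⁻¹]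
        _ = n * n' * (z' * n⁻¹) * z'⁻¹ * n'⁻¹ := by group
        _ = n * n' * (n⁻¹ * z') * z'⁻¹ * n'⁻¹ := by rw [hz2 n⁻¹]
        _ = n * n' * n⁻¹ * n'⁻¹ := by group
    rw [commutatorElement_def, this]
    exact mul_mem (mul_mem (mul_mem hn hn') (inv_mem hn)) (inv_mem hn')

theorem field_case {F : Type*} [Field F] [Algebra k F] [FiniteDimensional k F]
    (h2 : (2 : k) ≠ 0) (hk3 : Nat.card k ≠ 3)
    (z : F) (hz : z ≠ 0) (hgen : Algebra.adjoin k {z} = ⊤)
    (H : Subgroup (SpecialLinearGroup (Fin 2) F))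
    (hU : ∀ c : k, up (algebraMap k F c) ∈ H) (hL : ∀ c : k, lo (algebraMap k F c * z) ∈ H) :
    H = ⊤ := by
  let pb := PowerBasis.ofAdjoinEqTop (Algebra.IsIntegral.isIntegral (R := k) z) hgen
  have hp : pb.gen = z := PowerBasis.ofAdjoinEqTop_gen _ _
  exact DicksonSL2.eq_top pb hU (fun c => by rw [hp]; exact hL c) (by rwa [hp])
    (fun h => h2 ((algebraMap k F).injective (by rw [map_ofNat, map_zero, h]))) hk3

theorem idem_quot {A : Type*} [CommRing A] {I J : Ideal A} (hI : IsAtom I) {e : A}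
    (hIe : I = Ideal.span {e}) (he : e * e = e) (hJe : J = Ideal.span {1 - e}) :
    J.IsMaximal ∧ I ⊓ J = ⊥ := by
  have hinf : I ⊓ J = ⊥ := by
    rw [eq_bot_iff]
    rintro t ⟨ht1, ht2⟩
    rw [SetLike.mem_coe, hIe, Ideal.mem_span_singleton'] at ht1
    rw [SetLike.mem_coe, hJe, Ideal.mem_span_singleton'] at ht2
    obtain ⟨a, ha⟩ := ht1
    obtain ⟨b, hb⟩ := ht2
    rw [Submodule.mem_bot]
    linear_combination (-e) * hb - (1 - e) * ha - (a + b) * he
  refine ⟨?_, hinf⟩
  have heI : e ∈ I := hIe ▸ Ideal.mem_span_singleton_self e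
  rw [hJe, Ideal.isMaximal_iff]
  refine ⟨fun h1 => ?_, fun K a hK haJ haK => ?_⟩
  · have h := (Submodule.eq_bot_iff _).1 hinf e ⟨heI, hJe ▸ (by
      simpa using (Ideal.span {1 - e}).mul_mem_left e h1)⟩
    exact hI.1 (by rw [hIe, h, Ideal.span_singleton_eq_bot])
  · have hea : e * a ≠ 0 := fun h0 => haJ (Ideal.mem_span_singleton'.2
      ⟨a, by linear_combination -h0⟩)
    have hspan : Ideal.span {e * a} = I := by
      refine (hI.le_iff.1 ?_).resolve_left (by simpa using hea)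
      rw [Ideal.span_singleton_le_iff_mem]
      exact I.mul_mem_right _ heI
    obtain ⟨b, hb⟩ := Ideal.mem_span_singleton'.1 (hspan ▸ heI : e ∈ Ideal.span {e * a})
    have h1e : 1 - e ∈ K := hK (Ideal.mem_span_singleton_self _)
    have : e ∈ K := by rw [← hb]; exact K.mul_mem_left _ (K.mul_mem_left _ haK)
    simpa using K.add_mem h1e this

theorem eq_of_red {A : Type*} [CommRing A] {I J : Ideal A} (hIJ : I ⊓ J = ⊥)
    {X Y : SpecialLinearGroup (Fin 2) A} (h1 : red I X = red I Y) (h2 : red J X = red J Y) :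
    X = Y := by
  apply mat_injective
  ext i j
  have a1 : mat X i j - mat Y i j ∈ I := by
    rw [← Ideal.Quotient.mk_eq_mk_iff_sub_mem, ← mat_map, ← mat_map]
    show mat (red I X) i j = mat (red I Y) i j
    rw [h1]
  have a2 : mat X i j - mat Y i j ∈ J := by
    rw [← Ideal.Quotient.mk_eq_mk_iff_sub_mem, ← mat_map, ← mat_map]
    show mat (red J X) i j = mat (red J Y) i j
    rw [h2]
  exact sub_eq_zero.1 ((Submodule.eq_bot_iff _).1 hIJ _ ⟨a1, a2⟩)

section Compute

variable {A : Type*} [CommRing A]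

theorem sq_zero_diag {X : SpecialLinearGroup (Fin 2) A} {J : Ideal A} (hJ : J * J = ⊥)
    (hX : red J X = 1) :
    (mat X 0 0 - 1 ∈ J ∧ mat X 0 1 ∈ J ∧ mat X 1 0 ∈ J) ∧
      mat X 1 1 = 1 - (mat X 0 0 - 1) := by
  have hX' := red_eq_one.1 hX
  have hz : ∀ a ∈ J, ∀ b ∈ J, a * b = 0 := fun a ha b hb => by
    have := Ideal.mul_mem_mul ha hb
    rwa [hJ, Submodule.mem_bot] at this
  have h00 : mat X 0 0 - 1 ∈ J := by simpa using hX' 0 0
  have h01 : mat X 0 1 ∈ J := by simpa using hX' 0 1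
  have h10 : mat X 1 0 ∈ J := by simpa using hX' 1 0
  have h11 : mat X 1 1 - 1 ∈ J := by simpa using hX' 1 1
  refine ⟨⟨h00, h01, h10⟩, ?_⟩
  linear_combination mat_det X - hz _ h00 _ h11 + hz _ h01 _ h10

theorem sq_zero_word {X : SpecialLinearGroup (Fin 2) A} {x y w : A}
    (h00 : mat X 0 0 = 1 + x) (h11 : mat X 1 1 = 1 - x) (h01 : mat X 0 1 = y)
    (h10 : mat X 1 0 = w) (e1 : x * x = 0) (e2 : x * y = 0) (e3 : x * w = 0) (e4 : y * w = 0) :
    X = lo 1 * up (-x) * (lo 1)⁻¹ * (up x * lo (-x)) * (lo w * up y) := by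
  apply mat_injective
  simp only [lo_inv, mat_mul, up_coe, lo_coe, Matrix.mul_fin_two]
  conv_lhs => rw [Matrix.eta_fin_two (mat X)]
  rw [h00, h11, h01, h10]
  congr 1 <;> grind

theorem comm_up {X : SpecialLinearGroup (Fin 2) A} {x y w : A}
    (h00 : mat X 0 0 = 1 + x) (h11 : mat X 1 1 = 1 - x) (h01 : mat X 0 1 = y)
    (h10 : mat X 1 0 = w) (e1 : x * x = 0) (e2 : x * y = 0) (e3 : x * w = 0) (e4 : y * w = 0)
    (e5 : w * w = 0) :
    mat (up 1 * X * (up 1)⁻¹ * X⁻¹) = !![1 + w, -2 * x - w; 0, 1 - w] := by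
  simp only [up_inv, mat_mul, mat_inv, up_coe]
  rw [Matrix.eta_fin_two (mat X), h00, h11, h01, h10, Matrix.adjugate_fin_two_of]
  simp only [Matrix.mul_fin_two]
  congr 1 <;> grind

theorem lo_conj_up (a y : A) :
    mat (lo a * up y * (lo a)⁻¹) = !![1 - a * y, y; -(a * a * y), 1 + a * y] := by
  rw [conj_up_coe, lo_coe]
  ext i j
  fin_cases i <;> fin_cases j <;> simp <;> ring

/-- A lift of an upper element that commutes with `up 1` up to a scalar squares to an upper element. -/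
theorem up_lift (h2 : IsUnit (2 : A)) {h X : SpecialLinearGroup (Fin 2) A}
    (hX : mat X 0 1 = 0 ∧ mat X 1 0 = 0 ∧ mat X 0 0 = mat X 1 1)
    (hm : h * up 1 * h⁻¹ = X * up 1) :
    h * h = up (2 * (mat h 0 0 * mat h 0 1)) := by
  obtain ⟨x01, x10, x00⟩ := hX
  have hmm := congrArg mat hm
  rw [conj_up_coe, mat_mul, up_coe] at hmm
  have a00 := congrFun (congrFun hmm 0) 0
  have a01 := congrFun (congrFun hmm 0) 1
  have a10 := congrFun (congrFun hmm 1) 0
  have a11 := congrFun (congrFun hmm 1) 1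
  simp [Matrix.mul_apply, Fin.sum_univ_two, x01, x10] at a00 a01 a10 a11
  have hx1 : mat X 0 0 = 1 :=
    h2.mul_left_cancel (show 2 * mat X 0 0 = 2 * 1 by linear_combination -a00 - a11 + x00)
  rw [hx1] at a00 a01
  have hd := mat_det h
  have hac : mat h 0 0 * mat h 1 0 = 0 := by linear_combination -a00
  have h10 : mat h 1 0 = 0 := by
    linear_combination -(mat h 1 0) * hd + mat h 1 1 * hac - mat h 0 1 * a10
  rw [h10, mul_zero, sub_zero] at hd
  have h11 : mat h 1 1 = mat h 0 0 := by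
    linear_combination -(mat h 1 1) * a01 + mat h 0 0 * hd
  apply mat_injective
  rw [mat_mul, up_coe, Matrix.eta_fin_two (mat h), h10, h11, Matrix.mul_fin_two]
  rw [h11] at hd
  simp only [Matrix.of_apply, Matrix.cons_val_zero, Matrix.cons_val_one, Matrix.cons_val', Matrix.head_cons]
  congr 1 <;> grind

/-- A lift of a lower element that commutes with `lo z` up to a scalar squares to a lower element. -/
theorem lo_lift (h2 : IsUnit (2 : A)) {z : A} (hz : IsUnit z) {h X : SpecialLinearGroup (Fin 2) A}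
    (hX : mat X 0 1 = 0 ∧ mat X 1 0 = 0 ∧ mat X 0 0 = mat X 1 1)
    (hm : h * lo z * h⁻¹ = X * lo z) :
    mat h 0 1 = 0 ∧ mat h 0 0 = mat h 1 1 ∧ h * h = lo (2 * (mat h 0 0 * mat h 1 0)) := by
  obtain ⟨x01, x10, x00⟩ := hX
  have hmm := congrArg mat hm
  simp only [mat_mul, mat_inv, lo_coe, Matrix.adjugate_fin_two] at hmm
  have a00 := congrFun (congrFun hmm 0) 0
  have a11 := congrFun (congrFun hmm 1) 1
  simp [Matrix.mul_apply, Fin.sum_univ_two, x01, x10] at a00 a11
  have hd := mat_det h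
  have hx1 : mat X 0 0 = 1 :=
    h2.mul_left_cancel (show 2 * mat X 0 0 = 2 * 1 by linear_combination -a00 - a11 + x00 + 2 * hd)
  have hX1 : X = 1 := mat_injective (by
    rw [mat_one, Matrix.eta_fin_two (mat X), x01, x10, ← x00, hx1, Matrix.one_fin_two])
  rw [hX1, one_mul] at hm
  have hcomm : h * lo z = lo z * h := by
    calc h * lo z = h * lo z * h⁻¹ * h := by group
      _ = lo z * h := by rw [hm]
  have hc := congrArg mat hcomm
  simp only [mat_mul, lo_coe] at hc
  have c00 := congrFun (congrFun hc 0) 0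
  have c10 := congrFun (congrFun hc 1) 0
  simp [Matrix.mul_apply, Fin.sum_univ_two] at c00 c10
  have h01 : mat h 0 1 = 0 := hz.mul_left_eq_zero.1 c00
  have h11 : mat h 0 0 = mat h 1 1 := hz.mul_left_cancel (by linear_combination -c10)
  refine ⟨h01, h11, ?_⟩
  rw [h01, h11, zero_mul, sub_zero] at hd
  apply mat_injective
  rw [mat_mul, lo_coe, Matrix.eta_fin_two (mat h), h01, h11, Matrix.mul_fin_two]
  simp only [Matrix.of_apply, Matrix.cons_val_zero, Matrix.cons_val_one, Matrix.cons_val', Matrix.head_cons]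
  congr 1 <;> grind

end Compute

section Step

variable {A : Type*} [CommRing A] {I J : Ideal A} {H : Subgroup (SpecialLinearGroup (Fin 2) A)}

/-- The part of `H` in the kernel of reduction modulo `I`. -/
noncomputable abbrev kerPart (H : Subgroup (SpecialLinearGroup (Fin 2) A)) (I : Ideal A) :
    Subgroup (SpecialLinearGroup (Fin 2) A) := H ⊓ (red I).ker

theorem mem_kerPart_up {y : A} (hy : y ∈ I) (h : up y ∈ H) : up y ∈ kerPart H I := by
  refine Subgroup.mem_inf.2 ⟨h, ?_⟩
  rw [MonoidHom.mem_ker, map_up, Ideal.Quotient.eq_zero_iff_mem.2 hy, up_zero]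

theorem kerPart_conj (hIJ : I * J = ⊥) (hlJ : ∀ g ∈ elem A, ∃ h ∈ H, red J h = red J g)
    {g : SpecialLinearGroup (Fin 2) A} (hg : g ∈ elem A) {X : SpecialLinearGroup (Fin 2) A}
    (hX : X ∈ kerPart H I) : g * X * g⁻¹ ∈ kerPart H I := by
  obtain ⟨h, hh, he⟩ := hlJ g hg
  have hm : red J (h⁻¹ * g) = 1 := by rw [map_mul, map_inv, he, inv_mul_cancel]
  have hX2 := MonoidHom.mem_ker.1 hX.2
  have hc := commute_of_red hIJ hX2 hm
  refine Subgroup.mem_inf.2 ⟨?_, by simp [MonoidHom.mem_ker, hX2]⟩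
  have : g * X * g⁻¹ = h * X * h⁻¹ := by
    calc g * X * g⁻¹ = h * ((h⁻¹ * g) * X) * g⁻¹ := by group
      _ = h * (X * (h⁻¹ * g)) * g⁻¹ := by rw [hc]
      _ = h * X * h⁻¹ := by group
  rw [this]
  exact mul_mem (mul_mem hh hX.1) (inv_mem hh)

variable (hI : IsAtom I) (hcase : J = I ∨ ∃ e : A, I = Ideal.span {e} ∧ e * e = e ∧ J = Ideal.span {1 - e})
  (hIJ : I * J = ⊥) (hlJ : ∀ g ∈ elem A, ∃ h ∈ H, red J h = red J g)
include hI hcase hIJ hlJ

theorem ker_le (hker : ∀ y ∈ I, up y ∈ H ∧ lo y ∈ H) {X : SpecialLinearGroup (Fin 2) A}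
    (hX : red I X = 1) : X ∈ H := by
  rcases hcase with rfl | ⟨e, hIe, he, hJe⟩
  · have hz : ∀ a ∈ J, ∀ b ∈ J, a * b = 0 := fun a ha b hb => by
      have := Ideal.mul_mem_mul ha hb
      rwa [hIJ, Submodule.mem_bot] at this
    obtain ⟨⟨hx, hy, hw⟩, h11⟩ := sq_zero_diag hIJ hX
    rw [sq_zero_word (X := X) (add_sub_cancel _ _).symm h11 rfl rfl (hz _ hx _ hx) (hz _ hx _ hy)
      (hz _ hx _ hw) (hz _ hy _ hw)]
    refine mul_mem (mul_mem ?_ (mul_mem (hker _ hx).1 (hker _ (J.neg_mem hx)).2))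
      (mul_mem (hker _ hw).2 (hker _ hy).1)
    exact (kerPart_conj hIJ hlJ (lo_mem_elem 1)
      (mem_kerPart_up (J.neg_mem hx) (hker _ (J.neg_mem hx)).1)).1
  · obtain ⟨hJmax, hIJ0⟩ := idem_quot hI hIe he hJe
    letI := Ideal.Quotient.field J
    let S : Subgroup (SpecialLinearGroup (Fin 2) A) :=
      Subgroup.closure (up '' (I : Set A) ∪ lo '' (I : Set A))
    have hSH : S ≤ H := (Subgroup.closure_le _).2 (Set.union_subset
      (Set.image_subset_iff.2 fun y hy => (hker y hy).1)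
      (Set.image_subset_iff.2 fun y hy => (hker y hy).2))
    have hlift1 : ∀ a : A, Ideal.Quotient.mk J (e * a) = Ideal.Quotient.mk J a := fun a => by
      rw [Ideal.Quotient.mk_eq_mk_iff_sub_mem, hJe]
      exact Ideal.mem_span_singleton'.2 ⟨-a, by ring⟩
    have heaI : ∀ a : A, e * a ∈ I := fun a => by
      rw [hIe]; exact Ideal.mem_span_singleton'.2 ⟨a, mul_comm _ _⟩
    have hStop : S.map (red J) = ⊤ := by
      rw [eq_top_iff, ← RankOneSL2.sup_eq_top (k := A ⧸ J), sup_le_iff]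
      constructor
      · intro g hg
        obtain ⟨t, rfl⟩ := RankOneSL2.mem_lower.1 hg
        obtain ⟨a, rfl⟩ := Ideal.Quotient.mk_surjective t
        exact ⟨lo (e * a), Subgroup.subset_closure (Or.inr ⟨_, heaI a, rfl⟩), by
          rw [map_lo, hlift1]; rfl⟩
      · intro g hg
        obtain ⟨t, rfl⟩ := RankOneSL2.mem_upper.1 hg
        obtain ⟨a, rfl⟩ := Ideal.Quotient.mk_surjective t
        exact ⟨up (e * a), Subgroup.subset_closure (Or.inl ⟨_, heaI a, rfl⟩), by
          rw [map_up, hlift1]; rfl⟩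
    obtain ⟨Y, hY, hYX⟩ := hStop.ge (Subgroup.mem_top (red J X))
    have hYI : red I Y = 1 := by
      have : S ≤ (red I).ker := (Subgroup.closure_le _).2 (Set.union_subset
        (Set.image_subset_iff.2 fun y hy => by
          simp [MonoidHom.mem_ker, map_up, Ideal.Quotient.eq_zero_iff_mem.2 hy, up_zero])
        (Set.image_subset_iff.2 fun y hy => by
          simp [MonoidHom.mem_ker, map_lo, Ideal.Quotient.eq_zero_iff_mem.2 hy, lo_zero]))
      exact this hY
    rw [eq_of_red hIJ0 (hX.trans hYI.symm) hYX.symm]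
    exact hSH hY

theorem up_of_noncentral (hu2 : IsUnit (2 : A))
    (hF : ∀ [J.IsMaximal], ∃ a : A ⧸ J, a ≠ 0 ∧ a ^ 2 ≠ 1)
    {X g : SpecialLinearGroup (Fin 2) A} (hX : X ∈ kerPart H I) (hgX : g * X ≠ X * g) :
    ∀ y ∈ I, up y ∈ H := by
  have hX2 := MonoidHom.mem_ker.1 hX.2
  rcases hcase with rfl | ⟨e, hIe, he, hJe⟩
  · have hz : ∀ a ∈ J, ∀ b ∈ J, a * b = 0 := fun a ha b hb => by
      have := Ideal.mul_mem_mul ha hb
      rwa [hIJ, Submodule.mem_bot] at this
    have hstep : ∀ g ∈ elem A, ∀ Y ∈ kerPart H J, g * Y * g⁻¹ * Y⁻¹ ∈ kerPart H J := fun g hg Y hY =>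
      mul_mem (kerPart_conj hIJ hlJ hg hY) (inv_mem hY)
    obtain ⟨⟨hx, hy, hw⟩, h11⟩ := sq_zero_diag hIJ hX2
    set x := mat X 0 0 - 1 with hxdef
    have h00 : mat X 0 0 = 1 + x := (add_sub_cancel _ _).symm
    have hX1m := comm_up (X := X) h00 h11 rfl rfl (hz _ hx _ hx) (hz _ hx _ hy)
      (hz _ hx _ hw) (hz _ hy _ hw) (hz _ hw _ hw)
    have hX1D := hstep _ (up_mem_elem 1) X hX
    generalize up 1 * X * (up 1)⁻¹ * X⁻¹ = X1 at hX1m hX1D
    obtain ⟨y₀, hy₀J, hy₀, hy₀H⟩ : ∃ y₀ ∈ J, y₀ ≠ 0 ∧ up y₀ ∈ H := by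
      by_cases hw0 : mat X 1 0 = 0
      · by_cases hx0 : x = 0
        · have hXup : X = up (mat X 0 1) := by
            apply mat_injective
            rw [up_coe]
            conv_lhs => rw [Matrix.eta_fin_two (mat X), h00, h11, hw0, hx0, add_zero, sub_zero]
          refine ⟨mat X 0 1, hy, fun h0 => hgX ?_, hXup ▸ hX.1⟩
          rw [hXup, h0, up_zero, mul_one, one_mul]
        · refine ⟨-2 * x, J.mul_mem_left _ hx, fun h0 => hx0 ?_, ?_⟩
          · rw [neg_mul, neg_eq_zero] at h0; exact hu2.mul_right_eq_zero.1 h0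
          · have : X1 = up (-2 * x) := mat_injective (by rw [hX1m, hw0, up_coe]; simp)
            rw [← this]; exact hX1D.1
      · refine ⟨-2 * mat X 1 0, J.mul_mem_left _ hw, fun h0 => hw0 ?_, ?_⟩
        · rw [neg_mul, neg_eq_zero] at h0; exact hu2.mul_right_eq_zero.1 h0
        · have hm : mat X1 0 0 = 1 + mat X 1 0 ∧ mat X1 1 1 = 1 - mat X 1 0 ∧
              mat X1 0 1 = -2 * x - mat X 1 0 ∧ mat X1 1 0 = 0 := by rw [hX1m]; simp
          have q : (-2 * x - mat X 1 0) ∈ J := J.sub_mem (J.mul_mem_left _ hx) hw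
          have hm2 := comm_up (X := X1) hm.1 hm.2.1 hm.2.2.1 hm.2.2.2 (hz _ hw _ hw)
            (hz _ hw _ q) (mul_zero _) (mul_zero _) (mul_zero _)
          have : up 1 * X1 * (up 1)⁻¹ * X1⁻¹ = up (-2 * mat X 1 0) := mat_injective (by
            rw [hm2, up_coe]; simp)
          rw [← this]; exact (hstep _ (up_mem_elem 1) X1 hX1D).1
    have hsq : ∀ a : A, up (2 * (a * a) * y₀) ∈ H := by
      intro a
      have hD := kerPart_conj hIJ hlJ (lo_mem_elem a) (mem_kerPart_up hy₀J hy₀H)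
      have hYm := lo_conj_up a y₀
      generalize lo a * up y₀ * (lo a)⁻¹ = Y at hD hYm
      have hm : mat Y 0 0 = 1 + -(a * y₀) ∧ mat Y 1 1 = 1 - -(a * y₀) ∧
          mat Y 0 1 = y₀ ∧ mat Y 1 0 = -(a * a * y₀) := by
        rw [hYm]; simp; ring
      have q : y₀ * y₀ = 0 := hz _ hy₀J _ hy₀J
      have hY1 := comm_up (X := Y) hm.1 hm.2.1 hm.2.2.1 hm.2.2.2 (by linear_combination a * a * q)
        (by linear_combination -a * q) (by linear_combination a * a * a * q)
        (by linear_combination -(a * a) * q) (by linear_combination a * a * a * a * q)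
      have hD1 := hstep _ (up_mem_elem 1) Y hD
      generalize up 1 * Y * (up 1)⁻¹ * Y⁻¹ = Y1 at hY1 hD1
      have hm1 : mat Y1 0 0 = 1 + -(a * a * y₀) ∧ mat Y1 1 1 = 1 - -(a * a * y₀) ∧
          mat Y1 0 1 = -2 * -(a * y₀) - -(a * a * y₀) ∧ mat Y1 1 0 = 0 := by rw [hY1]; simp
      have hY2 := comm_up (X := Y1) hm1.1 hm1.2.1 hm1.2.2.1 hm1.2.2.2
        (by linear_combination a * a * a * a * q)
        (by linear_combination -(a * a * a) * (2 + a) * q) (mul_zero _) (mul_zero _) (mul_zero _)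
      have : up 1 * Y1 * (up 1)⁻¹ * Y1⁻¹ = up (2 * (a * a) * y₀) := mat_injective (by
        rw [hY2, up_coe]; simp; ring)
      rw [← this]; exact (hstep _ (up_mem_elem 1) Y1 hD1).1
    intro t ht
    have : Ideal.span {y₀} = J :=
      (hI.le_iff.1 ((Ideal.span_singleton_le_iff_mem _).2 hy₀J)).resolve_left (by simpa using hy₀)
    rw [← this, Ideal.mem_span_singleton'] at ht
    obtain ⟨b, rfl⟩ := ht
    obtain ⟨q, hq⟩ := (hu2.mul hu2).exists_left_inv
    have key := mul_mem (mul_mem (hsq (1 + q * b)) (inv_mem (hsq 1))) (inv_mem (hsq (q * b)))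
    rw [up_inv, up_inv, up_add, up_add] at key
    convert key using 2
    linear_combination (-(b * y₀)) * hq
  · obtain ⟨hJmax, hIJ0⟩ := idem_quot hI hIe he hJe
    letI := Ideal.Quotient.field J
    have hsurj : (elem A).map (red J) = ⊤ := by
      rw [eq_top_iff, ← RankOneSL2.sup_eq_top (k := A ⧸ J), sup_le_iff]
      constructor
      · intro x hx
        obtain ⟨t, rfl⟩ := RankOneSL2.mem_lower.1 hx
        obtain ⟨a, rfl⟩ := Ideal.Quotient.mk_surjective t
        exact ⟨lo a, lo_mem_elem a, by rw [map_lo]; rfl⟩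
      · intro x hx
        obtain ⟨t, rfl⟩ := RankOneSL2.mem_upper.1 hx
        obtain ⟨a, rfl⟩ := Ideal.Quotient.mk_surjective t
        exact ⟨up a, up_mem_elem a, by rw [map_up]; rfl⟩
    haveI : ((kerPart H I).map (red J)).Normal := ⟨fun x hx g₀ => by
      obtain ⟨Y, hY, rfl⟩ := hx
      obtain ⟨g', hg', rfl⟩ := hsurj.ge (Subgroup.mem_top g₀)
      exact ⟨_, kerPart_conj hIJ hlJ hg' hY, by rw [map_mul, map_mul, map_inv]⟩⟩
    have htop : (kerPart H I).map (red J) = ⊤ := by
      refine normal_eq_top hF _ fun hle => hgX (eq_of_red hIJ0 ?_ ?_)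
      · rw [map_mul, map_mul, hX2, one_mul, mul_one]
      · rw [map_mul, map_mul]
        exact Subgroup.mem_center_iff.1 (hle ⟨X, hX, rfl⟩) _
    intro y hy
    obtain ⟨Y, hY, hYy⟩ := htop.ge (Subgroup.mem_top (red J (up y)))
    have : up y = Y := eq_of_red hIJ0 (by
      rw [MonoidHom.mem_ker.1 hY.2, map_up, Ideal.Quotient.eq_zero_iff_mem.2 hy, up_zero]) hYy.symm
    rw [this]; exact hY.1

end Step

/-- If the part of `H` in the kernel is scalar, reduction modulo `I` has a section, which is impossible. -/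
theorem central_false {A : Type*} [CommRing A] [Algebra k A] (h2 : (2 : k) ≠ 0) (z : A)
    (hz : IsUnit z) (hgen : Algebra.adjoin k {z} = ⊤)
    {H : Subgroup (SpecialLinearGroup (Fin 2) A)} (hU : ∀ c : k, up (algebraMap k A c) ∈ H)
    (hL : ∀ c : k, lo (algebraMap k A c * z) ∈ H) {I : Ideal A} (hI0 : I ≠ ⊥)
    (hlI : ∀ g ∈ elem A, ∃ h ∈ H, red I h = red I g)
    (hscal : ∀ X ∈ kerPart H I, mat X 0 1 = 0 ∧ mat X 1 0 = 0 ∧ mat X 0 0 = mat X 1 1) :
    False := by
  set π := Ideal.Quotient.mk I with hπ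
  have hu2 : IsUnit (2 : A) := by
    have := (isUnit_iff_ne_zero.2 h2).map (algebraMap k A)
    rwa [map_ofNat] at this
  have hu1 : up (1 : A) ∈ H := by simpa using hU 1
  have hz1 : lo z ∈ H := by simpa using hL 1
  have hup0 : ∀ y, up y ∈ kerPart H I → y = 0 := fun y hy => by
    simpa [up_coe] using (hscal _ hy).1
  have hlow : ∀ b h, h ∈ H → red I h = red I (lo b) →
      mat h 0 1 = 0 ∧ mat h 0 0 = mat h 1 1 ∧ h * h = lo (2 * (mat h 0 0 * mat h 1 0)) := by
    intro b h hh he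
    refine lo_lift hu2 hz (X := h * lo z * h⁻¹ * (lo z)⁻¹) (hscal _ ?_) (by group)
    refine Subgroup.mem_inf.2 ⟨mul_mem (mul_mem (mul_mem hh hz1) (inv_mem hh)) (inv_mem hz1), ?_⟩
    have : red I (lo b * lo z * (lo b)⁻¹ * (lo z)⁻¹) = 1 := by
      rw [lo_inv, lo_inv, lo_add, lo_add, lo_add, show b + z + -b + -z = 0 by ring, lo_zero, map_one]
    rw [MonoidHom.mem_ker, ← this]
    simp only [map_mul, map_inv, he]
  have hexU : ∀ a : A, ∃ y : A, up y ∈ H ∧ π y = π a := by
    intro a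
    obtain ⟨q, hq⟩ := hu2.exists_left_inv
    obtain ⟨h, hh, he⟩ := hlI _ (up_mem_elem (q * a))
    have hl : h * h = up (2 * (mat h 0 0 * mat h 0 1)) := by
      refine up_lift hu2 (X := h * up 1 * h⁻¹ * (up 1)⁻¹) (hscal _ ?_) (by group)
      refine Subgroup.mem_inf.2 ⟨mul_mem (mul_mem (mul_mem hh hu1) (inv_mem hh)) (inv_mem hu1), ?_⟩
      have : red I (up (q * a) * up 1 * (up (q * a))⁻¹ * (up 1)⁻¹) = 1 := by
        rw [up_inv, up_inv, up_add, up_add, up_add, show q * a + 1 + -(q * a) + -1 = 0 by ring,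
          up_zero, map_one]
      rw [MonoidHom.mem_ker, ← this]
      simp only [map_mul, map_inv, he]
    refine ⟨_, hl ▸ mul_mem hh hh, ?_⟩
    have e00 := congrFun (congrFun (congrArg mat he) 0) 0
    have e01 := congrFun (congrFun (congrArg mat he) 0) 1
    simp [mat_map, up_coe] at e00 e01
    rw [hπ, map_mul, map_mul, e00, e01, one_mul, ← mul_assoc, ← map_mul, mul_comm 2 q, hq,
      map_one, one_mul]
  have hexL : ∀ b : A, ∃ b', lo b' ∈ H ∧ π b' = π b := by
    intro b
    obtain ⟨q, hq⟩ := hu2.exists_left_inv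
    obtain ⟨h, hh, he⟩ := hlI _ (lo_mem_elem (q * b))
    refine ⟨_, (hlow _ h hh he).2.2 ▸ mul_mem hh hh, ?_⟩
    have e00 := congrFun (congrFun (congrArg mat he) 0) 0
    have e10 := congrFun (congrFun (congrArg mat he) 1) 0
    simp [mat_map, lo_coe] at e00 e10
    rw [hπ, map_mul, map_mul, e00, e10, one_mul, ← mul_assoc, ← map_mul, mul_comm 2 q, hq,
      map_one, one_mul]
  have huniq : ∀ y y', up y ∈ H → up y' ∈ H → π y = π y' → y = y' := by
    intro y y' hy hy' he
    refine sub_eq_zero.1 (hup0 _ (mem_kerPart_up ?_ ?_))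
    · rwa [hπ, Ideal.Quotient.mk_eq_mk_iff_sub_mem] at he
    · rw [sub_eq_add_neg, ← up_add, ← up_inv]; exact mul_mem hy (inv_mem hy')
  choose φ hφH hφπ using hexU
  have hφadd : ∀ a b, φ (a + b) = φ a + φ b := fun a b =>
    huniq _ _ (hφH _) (by rw [← up_add]; exact mul_mem (hφH a) (hφH b))
      (by rw [hφπ, map_add, map_add, hφπ, hφπ])
  have hφI : ∀ a, a ∈ I → φ a = 0 := fun a ha => huniq _ _ (hφH a) (by rw [up_zero]; exact one_mem H)
    (by rw [hφπ, map_zero]; exact Ideal.Quotient.eq_zero_iff_mem.2 ha)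
  have hφk : ∀ c : k, φ (algebraMap k A c) = algebraMap k A c := fun c =>
    huniq _ _ (hφH _) (hU c) (hφπ _)
  -- lower elements above `-1/a`
  have hψ : ∀ a b : A, a * b = -1 → ∀ b', lo b' ∈ H → π b' = π b → φ a * b' = -1 := by
    intro a b hab b' hb' hbb
    set g := up (φ a) * lo b' * up (φ a) with hg
    have hgH : g ∈ H := mul_mem (mul_mem (hφH a) hb') (hφH a)
    have hgm : mat g = !![1 + φ a * b', φ a * (2 + φ a * b'); b', 1 + φ a * b'] := by
      simp only [hg, mat_mul, up_coe, lo_coe]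
      ext i j
      fin_cases i <;> fin_cases j <;> simp [Matrix.mul_apply, Fin.sum_univ_two] <;> ring
    obtain ⟨h, hh, he⟩ := hlI _ (lo_mem_elem (-(b * b)))
    obtain ⟨h01, h00, -⟩ := hlow _ h hh he
    have hπ1 : π (1 + φ a * b') = 0 := by
      rw [map_add, map_mul, hφπ, hbb, ← map_mul, ← map_add, hab, add_neg_cancel, map_zero]
    have hXD : g * up 1 * g⁻¹ * h⁻¹ ∈ kerPart H I := by
      refine Subgroup.mem_inf.2
        ⟨mul_mem (mul_mem (mul_mem hgH hu1) (inv_mem hgH)) (inv_mem hh), ?_⟩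
      rw [MonoidHom.mem_ker, map_mul _ _ h⁻¹, map_inv _ h, he, mul_inv_eq_one]
      apply mat_injective
      ext i j
      rw [mat_map, mat_map, conj_up_coe, hgm, lo_coe]
      have hbb' : Ideal.Quotient.mk I b' = Ideal.Quotient.mk I b := hbb
      have hπ1' : Ideal.Quotient.mk I (1 + φ a * b') = 0 := hπ1
      fin_cases i <;> fin_cases j <;>
        simp only [Fin.zero_eta, Fin.mk_one, Matrix.cons_val_zero, Matrix.cons_val_one,
          Matrix.cons_val', Matrix.empty_val', Matrix.cons_val_fin_one, Matrix.of_apply] <;>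
        simp only [one_mul, pow_two, map_one, map_zero, map_sub, map_neg, map_mul, hbb', hπ1',
          zero_mul, sub_zero, mul_zero, map_add _ (1 : A) _, add_zero]
    obtain ⟨x01, x10, x00⟩ := hscal _ hXD
    have hm : g * up 1 * g⁻¹ = (g * up 1 * g⁻¹ * h⁻¹) * h := by group
    have hmm := congrArg mat hm
    rw [mat_mul _ h] at hmm
    generalize mat (g * up 1 * g⁻¹ * h⁻¹) = Xm at hmm x01 x10 x00
    rw [conj_up_coe, hgm] at hmm
    have m01 := congrFun (congrFun hmm 0) 1
    have m00 := congrFun (congrFun hmm 0) 0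
    have m11 := congrFun (congrFun hmm 1) 1
    simp [Matrix.mul_apply, Fin.sum_univ_two, x01, x10, h01] at m00 m11
    simp [Matrix.mul_apply, Fin.sum_univ_two, x01, x10, h01] at m01
    have hzero : (1 + φ a * b') * b' = 0 := by
      refine hu2.mul_right_eq_zero.1 ?_
      rw [← x00, ← h00] at m11
      linear_combination m11 - m00
    have hd := mat_det g
    rw [hgm] at hd
    simp at hd
    have h0 : 1 + φ a * b' = 0 := by
      linear_combination (-(1 + φ a * b')) * hd + (1 + φ a * b') * m01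
        - φ a * (2 + φ a * b') * hzero
    linear_combination h0
  -- the torus
  have h1 : φ 1 = 1 := by simpa using hφk 1
  have htor : ∀ a b : A, a * b = -1 → ∀ x, φ (a * a * x) = φ a * φ a * φ x := by
    intro a b hab x
    obtain ⟨b', hb', hbb⟩ := hexL b
    have hab' := hψ a b hab b' hb' hbb
    obtain ⟨c', hc', hcc⟩ := hexL (-1)
    have hc1 := hψ 1 (-1) (one_mul _) c' hc' hcc
    rw [h1, one_mul] at hc1
    rw [hc1] at hc'
    have hdia : dia (φ a) b' ∈ H := mul_mem (mul_mem (mul_mem (hφH a) hb') (hφH a))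
      (inv_mem (mul_mem (mul_mem hu1 hc') hu1))
    refine huniq _ _ (hφH _) ?_ (by simp only [map_mul, hφπ])
    rw [← dia_conj_up hab']
    exact mul_mem (mul_mem hdia (hφH x)) (inv_mem hdia)
  have hsq : ∀ (c : k) x, φ (algebraMap k A (c * c) * x) = algebraMap k A (c * c) * φ x := by
    intro c x
    by_cases hc : c = 0
    · subst hc; simp [hφI 0 I.zero_mem]
    · have := htor (algebraMap k A c) (algebraMap k A (-c⁻¹))
        (by rw [← map_mul, mul_neg, mul_inv_cancel₀ hc, map_neg, map_one]) x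
      rwa [hφk, ← map_mul] at this
  have hsmul : ∀ (c : k) x, φ (c • x) = c • φ x := by
    intro c x
    have hd : c = ((c + 1) / 2) * ((c + 1) / 2) - ((c - 1) / 2) * ((c - 1) / 2) := by
      field_simp; ring
    have hsub : ∀ u v, φ (u - v) = φ u - φ v := fun u v =>
      eq_sub_of_add_eq (by rw [← hφadd, sub_add_cancel])
    rw [Algebra.smul_def, Algebra.smul_def, hd, map_sub, sub_mul, sub_mul, hsub, hsq, hsq]
  let φl : A →ₗ[k] A := { toFun := φ, map_add' := hφadd, map_smul' := hsmul }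
  obtain ⟨v, hv⟩ := hz.exists_left_inv
  have hzv : z * v = 1 := by rw [mul_comm]; exact hv
  have hφv : φ (-v) * z = -1 := hψ (-v) z (by linear_combination -hv) z hz1 rfl
  have hφv' : φ (-v) = -v := by linear_combination v * hφv - φ (-v) * hzv
  have hdown : ∀ x, φ x = v * v * φ (z * z * x) := by
    intro x
    have := htor (-v) z (by linear_combination -hv) (z * z * x)
    rw [hφv', show -v * -v * (z * z * x) = (v * z) * (v * z) * x by ring, hv, one_mul, one_mul] at this
    rw [this]; ring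
  have hup : ∀ x, φ (z * z * x) = z * z * φ x := fun x => by
    linear_combination (-(z * z)) * hdown x - (z * v + 1) * φ (z * z * x) * hzv
  have hφz : φ z = z := by
    have := hup (-v)
    rw [hφv', show z * z * -v = -z by linear_combination (-z) * hzv] at this
    have hneg : φ (-z) = -φ z := by
      have h0 := hφadd z (-z)
      rw [add_neg_cancel, hφI 0 I.zero_mem] at h0
      linear_combination -h0
    linear_combination hneg - this
  have hpow : ∀ n : ℕ, φ (z ^ n) = z ^ n := by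
    intro n
    induction n using Nat.twoStepInduction with
    | zero => simpa using h1
    | one => simpa using hφz
    | more n ih1 _ => rw [pow_succ', pow_succ', ← mul_assoc, hup, ih1]
  have hid : φl = LinearMap.id := by
    refine LinearMap.ext_on (s := ↑(Submonoid.closure ({z} : Set A))) ?_ ?_
    · rw [← Algebra.adjoin_eq_span, hgen]; rfl
    · intro x hx
      obtain ⟨n, rfl⟩ := Submonoid.mem_closure_singleton.1 hx
      exact hpow n
  obtain ⟨y, hy, hy0⟩ := (Submodule.ne_bot_iff I).1 hI0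
  exact hy0 ((LinearMap.congr_fun hid y).symm.trans (hφI y hy))

universe u

theorem elem_le {k : Type*} [Field k] (h2 : (2 : k) ≠ 0) (hk3 : Nat.card k ≠ 3) (n : ℕ) :
    ∀ (A : Type u) [CommRing A] [Algebra k A] [FiniteDimensional k A],
      Module.finrank k A ≤ n → ∀ z : A, IsUnit z → Algebra.adjoin k {z} = ⊤ →
      ∀ H : Subgroup (SpecialLinearGroup (Fin 2) A), (∀ c : k, up (algebraMap k A c) ∈ H) →
        (∀ c : k, lo (algebraMap k A c * z) ∈ H) → elem A ≤ H := by
  induction n with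
  | zero =>
    intro A _ _ _ hn z _ _ H _ _
    have : Subsingleton A := Module.finrank_zero_iff.1 (Nat.le_zero.1 hn)
    rw [elem_le_iff]
    constructor <;> intro a <;> rw [Subsingleton.elim a 0]
    · rw [up_zero]; exact H.one_mem
    · rw [lo_zero]; exact H.one_mem
  | succ n ih =>
  intro A _ _ _ hn z hz hgen H hU hL
  by_cases hF : IsField A
  · letI := hF.toField
    rw [field_case h2 hk3 z hz.ne_zero hgen H hU hL]
    exact le_top
  rcases subsingleton_or_nontrivial A with hs | hnt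
  · rw [elem_le_iff]
    constructor <;> intro a <;> rw [Subsingleton.elim a 0]
    · rw [up_zero]; exact H.one_mem
    · rw [lo_zero]; exact H.one_mem
  haveI : IsArtinianRing A := IsArtinianRing.of_finite k A
  obtain ⟨I, hI⟩ := IsAtomic.exists_atom (Ideal A)
  have hItop : I ≠ ⊤ := by
    rintro rfl
    haveI : IsSimpleOrder (Ideal A) := isSimpleOrder_iff_isAtom_top.2 hI
    exact hF (Ring.isField_iff_isSimpleOrder_ideal.2 inferInstance)
  obtain ⟨J, hIJ, hJ0, hcase⟩ : ∃ J : Ideal A, I * J = ⊥ ∧ J ≠ ⊥ ∧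
      (J = I ∨ ∃ e : A, I = Ideal.span {e} ∧ e * e = e ∧ J = Ideal.span {1 - e}) := by
    rcases hI.le_iff.1 (Ideal.mul_le_left : I * I ≤ I) with h | h
    · exact ⟨I, h, hI.1, Or.inl rfl⟩
    · obtain ⟨e, he, hIe⟩ := (Ideal.isIdempotentElem_iff_of_fg I (IsNoetherian.noetherian I)).1 h
      refine ⟨Ideal.span {1 - e}, ?_, ?_, Or.inr ⟨e, hIe, he, rfl⟩⟩
      · rw [hIe]
        show Ideal.span {e} * Ideal.span {1 - e} = ⊥
        rw [Ideal.span_singleton_mul_span_singleton, mul_sub, mul_one, he.eq, sub_self,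
          Ideal.span_singleton_eq_bot]
      · rw [ne_eq, Ideal.span_singleton_eq_bot, sub_eq_zero]
        intro h1
        exact hItop (by rw [hIe, ← h1]; exact Ideal.span_singleton_one)
  have hlift : ∀ K : Ideal A, K ≠ ⊥ → ∀ g ∈ elem A, ∃ h ∈ H, red K h = red K g := by
    intro K hK g hg
    have hdim : Module.finrank k (A ⧸ K) ≤ n := by
      have h1 : Module.finrank k (A ⧸ K) + Module.finrank k (K.restrictScalars k) =
          Module.finrank k A := by
        rw [← Submodule.finrank_quotient_add_finrank (K.restrictScalars k)]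
        congr 1
      have : 0 < Module.finrank k (K.restrictScalars k) := by
        rw [Nat.pos_iff_ne_zero, ne_eq, Submodule.finrank_eq_zero, Submodule.restrictScalars_eq_bot_iff]
        exact hK
      omega
    have hgen' : Algebra.adjoin k {Ideal.Quotient.mk K z} = ⊤ := by
      have := congrArg (fun S => S.map (Ideal.Quotient.mkₐ k K)) hgen
      rw [AlgHom.map_adjoin, Set.image_singleton] at this
      rw [show Algebra.adjoin k {Ideal.Quotient.mk K z} = _ from this, Algebra.map_top,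
        AlgHom.range_eq_top]
      exact Ideal.Quotient.mk_surjective
    have := ih (A ⧸ K) hdim _ (hz.map _) hgen' (H.map (red K))
      (fun c => ⟨_, hU c, by rw [map_up]; rfl⟩)
      (fun c => ⟨_, hL c, by rw [map_lo, map_mul]; rfl⟩)
    have hmap : (elem A).map (red K) ≤ elem (A ⧸ K) := by
      rw [Subgroup.map_le_iff_le_comap, elem_le_iff]
      exact ⟨fun a => by rw [Subgroup.mem_comap, map_up]; exact up_mem_elem _,
        fun a => by rw [Subgroup.mem_comap, map_lo]; exact lo_mem_elem _⟩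
    obtain ⟨h, hh, he⟩ := this (hmap ⟨g, hg, rfl⟩)
    exact ⟨h, hh, he⟩
  have hlJ := hlift J hJ0
  have hu2 : IsUnit (2 : A) := by
    have := (isUnit_iff_ne_zero.2 h2).map (algebraMap k A)
    rwa [map_ofNat] at this
  by_cases hcen : ∀ X ∈ kerPart H I, ∀ g ∈ elem A, g * X = X * g
  · exact (central_false h2 z hz hgen hU hL hI.1 (hlift I hI.1)
      fun X hX => scalar_of_commute (hcen X hX)).elim
  push Not at hcen
  obtain ⟨X, hX, g, -, hgX⟩ := hcen
  have hupI : ∀ y ∈ I, up y ∈ H := by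
    refine up_of_noncentral hI hcase hIJ hlJ hu2 ?_ hX hgX
    intro hJ
    obtain ⟨c, hc0, hc2⟩ := exists_sq_ne_one' h2 hk3
    haveI : Nontrivial (A ⧸ J) := Ideal.Quotient.nontrivial_iff.2 hJ.ne_top
    refine ⟨algebraMap k (A ⧸ J) c, by simpa using hc0, ?_⟩
    rw [← map_pow, ← map_one (algebraMap k (A ⧸ J))]
    exact fun h => hc2 ((algebraMap k (A ⧸ J)).injective h)
  have hker : ∀ y ∈ I, up y ∈ H ∧ lo y ∈ H := fun y hy => by
    refine ⟨hupI y hy, ?_⟩
    have := kerPart_conj hIJ hlJ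
      (mul_mem (mul_mem (up_mem_elem 1) (lo_mem_elem (-1))) (up_mem_elem 1))
      (mem_kerPart_up (I.neg_mem hy) (hupI _ (I.neg_mem hy)))
    rw [weyl_conj_up, neg_neg] at this
    exact this.1
  rw [elem_le_iff]
  constructor <;> intro a
  · obtain ⟨h, hh, he⟩ := hlift I hI.1 _ (up_mem_elem a)
    have := mul_mem hh (ker_le hI hcase hIJ hlJ hker (X := h⁻¹ * up a)
      (by rw [map_mul, map_inv, he, inv_mul_cancel]))
    rwa [mul_inv_cancel_left] at this
  · obtain ⟨h, hh, he⟩ := hlift I hI.1 _ (lo_mem_elem a)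
    have := mul_mem hh (ker_le hI hcase hIJ hlJ hker (X := h⁻¹ * lo a)
      (by rw [map_mul, map_inv, he, inv_mul_cancel]))
    rwa [mul_inv_cancel_left] at this

end CfsgLib.QuadPair
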