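import Mathlib
import Cfsg.Prelude.Def_RootSubgroups

/-!
Quadratic pairs: the operators `σ - 1` of quadratic elements.
-/

set_option autoImplicit false

namespace CfsgLib.QuadPair

variable {k : Type*} [Field k] {M : Type*} [AddCommGroup M] [Module k M]

/-- The rank of an operator. -/
noncomputable def rk (x : Module.End k M) : ℕ := Module.finrank k (LinearMap.range x)

/-- All `1 + c x` are in `G`. -/
def Fam (G : Subgroup (LinearMap.GeneralLinearGroup k M)) (x : Module.End k M) : Prop :=
  ∀ c : k, ∃ g ∈ G, (g : Module.End k M) = 1 + c • x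

/-- `d` bounds below the ranks of the quadratic operators of `G`. -/
structure MinRank (G : Subgroup (LinearMap.GeneralLinearGroup k M)) (d : ℕ) : Prop where
  pos : 0 < d
  min : ∀ x : Module.End k M, x * x = 0 → Fam G x → x ≠ 0 → d ≤ rk x

/-- An operator `σ - 1`, `σ` quadratic of least commutator rank `d`. -/
structure Root (G : Subgroup (LinearMap.GeneralLinearGroup k M)) (d : ℕ) (x : Module.End k M) : Prop where
  sq : x * x = 0
  fam : Fam G x
  rank : rk x = d

/-- The operators with the same fixed and commutator spaces as `s`, and zero. -/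
def Cls (G : Subgroup (LinearMap.GeneralLinearGroup k M)) (s : Module.End k M) : Set (Module.End k M) :=
  {x | x * x = 0 ∧ Fam G x ∧ LinearMap.range x ≤ LinearMap.range s ∧ LinearMap.ker s ≤ LinearMap.ker x}

variable {G : Subgroup (LinearMap.GeneralLinearGroup k M)}

theorem mul_eq_zero_iff {x y : Module.End k M} :
    x * y = 0 ↔ LinearMap.range y ≤ LinearMap.ker x := (LinearMap.range_le_ker_iff).symm

theorem range_mul_le (x y : Module.End k M) : LinearMap.range (x * y) ≤ LinearMap.range x := by
  rintro m ⟨v, rfl⟩; exact ⟨y v, rfl⟩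

theorem ker_le_ker_mul (x y : Module.End k M) : LinearMap.ker y ≤ LinearMap.ker (x * y) := by
  intro m hm
  rw [LinearMap.mem_ker, Module.End.mul_apply, LinearMap.mem_ker.1 hm, map_zero]

theorem range_mul (x y : Module.End k M) :
    LinearMap.range (x * y) = (LinearMap.range y).map x := LinearMap.range_comp y x

theorem rk_zero : rk (0 : Module.End k M) = 0 := by
  rw [rk, LinearMap.range_zero, finrank_bot]

theorem ne_zero_of_rk {x : Module.End k M} (h : 0 < rk x) : x ≠ 0 := by
  rintro rfl; rw [rk_zero] at h; omega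

theorem Fam.smul {x : Module.End k M} (h : Fam G x) (a : k) : Fam G (a • x) := fun c => by
  simpa [smul_smul] using h (c * a)

theorem Fam.neg {x : Module.End k M} (h : Fam G x) : Fam G (-x) := by
  simpa using h.smul (-1)

theorem fam_zero : Fam G (0 : Module.End k M) := fun _ => ⟨1, G.one_mem, by simp⟩

theorem Fam.add {x y : Module.End k M} (hx : Fam G x) (hy : Fam G y) (h : x * y = 0) :
    Fam G (x + y) := fun c => by
  obtain ⟨g, hg, e⟩ := hx c
  obtain ⟨g', hg', e'⟩ := hy c
  refine ⟨g * g', G.mul_mem hg hg', ?_⟩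
  rw [Units.val_mul, e, e']
  simp [mul_add, add_mul, smul_mul_assoc, mul_smul_comm, h, add_assoc, add_comm, add_left_comm]

theorem Fam.sub {x y : Module.End k M} (hx : Fam G x) (hy : Fam G y) (h : x * y = 0) :
    Fam G (x - y) := by
  rw [sub_eq_add_neg]; exact hx.add hy.neg (by rw [mul_neg, h, neg_zero])

theorem Fam.of_smul {x : Module.End k M} {a : k} (ha : a ≠ 0) (h : Fam G (a • x)) : Fam G x := by
  simpa [smul_smul, ha] using h.smul a⁻¹

/-- The conjugate of an operator. -/
def conjOp (g : LinearMap.GeneralLinearGroup k M) (x : Module.End k M) : Module.End k M :=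
  (g : Module.End k M) * x * (g⁻¹ : LinearMap.GeneralLinearGroup k M)

theorem Fam.conj {x : Module.End k M} (hx : Fam G x) {g : LinearMap.GeneralLinearGroup k M}
    (hg : g ∈ G) : Fam G (conjOp g x) := fun c => by
  obtain ⟨h, hh, e⟩ := hx c
  refine ⟨g * h * g⁻¹, G.mul_mem (G.mul_mem hg hh) (G.inv_mem hg), ?_⟩
  rw [Units.val_mul, Units.val_mul, e, conjOp, mul_add, add_mul, mul_one, Units.mul_inv,
    mul_smul_comm, smul_mul_assoc]

theorem conjOp_mul (g : LinearMap.GeneralLinearGroup k M) (x y : Module.End k M) :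
    conjOp g (x * y) = conjOp g x * conjOp g y := by
  simp [conjOp, mul_assoc]

theorem conjOp_zero (g : LinearMap.GeneralLinearGroup k M) : conjOp g (0 : Module.End k M) = 0 := by
  simp [conjOp]

theorem range_conjOp (g : LinearMap.GeneralLinearGroup k M) (x : Module.End k M) :
    LinearMap.range (conjOp g x) = (LinearMap.range x).map (g : Module.End k M) := by
  apply le_antisymm
  · rintro m ⟨v, rfl⟩
    exact ⟨x (((g⁻¹ : LinearMap.GeneralLinearGroup k M) : Module.End k M) v), ⟨_, rfl⟩, rfl⟩
  · rintro m ⟨_, ⟨v, rfl⟩, rfl⟩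
    refine ⟨(g : Module.End k M) v, ?_⟩
    show ((g : Module.End k M) * x) ((((g⁻¹ : LinearMap.GeneralLinearGroup k M) : Module.End k M) * (g : Module.End k M)) v) = _
    rw [Units.inv_mul]; rfl

theorem rk_conjOp (g : LinearMap.GeneralLinearGroup k M) (x : Module.End k M) :
    rk (conjOp g x) = rk x := by
  unfold rk
  rw [range_conjOp]
  refine (Submodule.equivMapOfInjective _ ?_ _).finrank_eq.symm
  intro a b h
  have := congrArg (fun v => ((g⁻¹ : LinearMap.GeneralLinearGroup k M) : Module.End k M) v) h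
  simp only [← Module.End.mul_apply, Units.inv_mul] at this
  exact this

theorem Root.conj {d : ℕ} {x : Module.End k M} (hx : Root G d x)
    {g : LinearMap.GeneralLinearGroup k M} (hg : g ∈ G) : Root G d (conjOp g x) :=
  ⟨by rw [← conjOp_mul, hx.sq, conjOp_zero], hx.fam.conj hg, by rw [rk_conjOp, hx.rank]⟩

/-- The commutator of two root elements with `xyx = 0 = yxy`. -/
theorem Fam.comm {x y : Module.End k M} (hx : Fam G x) (hy : Fam G y) (hxx : x * x = 0)
    (hyy : y * y = 0) (h1 : x * y * x = 0) (h2 : y * x * y = 0) : Fam G (x * y - y * x) := fun c => by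
  obtain ⟨g, hg, e⟩ := hx c
  obtain ⟨g', hg', e'⟩ := hx (-c)
  obtain ⟨h, hh, f⟩ := hy 1
  obtain ⟨h', hh', f'⟩ := hy (-1)
  refine ⟨g * h * g' * h', G.mul_mem (G.mul_mem (G.mul_mem hg hh) hg') hh', ?_⟩
  rw [Units.val_mul, Units.val_mul, Units.val_mul, e, e', f, f']
  simp only [one_smul, neg_smul, mul_add, add_mul, mul_one, one_mul, mul_neg, neg_mul,
    smul_mul_assoc, mul_smul_comm, smul_add, smul_sub, smul_neg, ← mul_assoc, hxx, hyy, h1, h2,
    smul_zero, zero_mul, neg_zero, neg_neg, smul_smul]
  have h3 : x * y * y = 0 := by rw [mul_assoc, hyy, mul_zero]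
  have h4 : y * x * x = 0 := by rw [mul_assoc, hxx, mul_zero]
  simp only [h3, h4, smul_zero, zero_mul, neg_zero, add_zero]
  abel

variable [FiniteDimensional k M] {d : ℕ}

theorem rk_mul_add (x y : Module.End k M) :
    rk (x * y) + Module.finrank k ↥(LinearMap.range y ⊓ LinearMap.ker x) = rk y := by
  unfold rk
  rw [range_mul]
  have h := LinearMap.finrank_range_add_finrank_ker (x.domRestrict (LinearMap.range y))
  rw [LinearMap.range_domRestrict, LinearMap.ker_domRestrict] at h
  have h' := Submodule.finrank_map_subtype_eq (LinearMap.range y)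
    ((LinearMap.ker x).comap (LinearMap.range y).subtype)
  rw [Submodule.map_comap_subtype] at h'
  omega

theorem rk_mul_le_left (x y : Module.End k M) : rk (x * y) ≤ rk x :=
  Submodule.finrank_mono (range_mul_le x y)

theorem rk_mul_le_right (x y : Module.End k M) : rk (x * y) ≤ rk y := by
  have := rk_mul_add x y; omega

theorem finrank_ker_add (x : Module.End k M) :
    rk x + Module.finrank k (LinearMap.ker x) = Module.finrank k M :=
  LinearMap.finrank_range_add_finrank_ker x

theorem range_eq_of_le {x s : Module.End k M} (h : LinearMap.range x ≤ LinearMap.range s)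
    (hr : rk s ≤ rk x) : LinearMap.range x = LinearMap.range s :=
  Submodule.eq_of_le_of_finrank_le h hr

theorem ker_eq_of_le {x s : Module.End k M} (h : LinearMap.ker s ≤ LinearMap.ker x)
    (hr : rk s ≤ rk x) : LinearMap.ker x = LinearMap.ker s := by
  have h1 := finrank_ker_add x
  have h2 := finrank_ker_add s
  exact (Submodule.eq_of_le_of_finrank_le h (by omega)).symm

/-- A nonzero quadratic operator with range inside that of a root is a root. -/
theorem MinRank.root_of_range (hm : MinRank G d) {x s : Module.End k M} (hs : rk s = d)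
    (hxx : x * x = 0) (hx : Fam G x) (hx0 : x ≠ 0) (h : LinearMap.range x ≤ LinearMap.range s) :
    Root G d x :=
  ⟨hxx, hx, le_antisymm (hs ▸ Submodule.finrank_mono h) (hm.min x hxx hx hx0)⟩

theorem Root.ne_zero (hm : MinRank G d) {x : Module.End k M} (hx : Root G d x) : x ≠ 0 :=
  ne_zero_of_rk (by rw [hx.rank]; exact hm.pos)

omit [FiniteDimensional k M] in
theorem Root.mem_cls {x : Module.End k M} (hx : Root G d x) : x ∈ Cls G x :=
  ⟨hx.sq, hx.fam, le_rfl, le_rfl⟩

/-- A member of a class is zero or a root with the same spaces. -/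
theorem Cls.root (hm : MinRank G d) {s x : Module.End k M} (hs : Root G d s) (hx : x ∈ Cls G s)
    (hx0 : x ≠ 0) :
    Root G d x ∧ LinearMap.range x = LinearMap.range s ∧ LinearMap.ker x = LinearMap.ker s := by
  obtain ⟨h1, h2, h3, h4⟩ := hx
  have hr := hm.root_of_range hs.rank h1 h2 hx0 h3
  exact ⟨hr, range_eq_of_le h3 (by rw [hs.rank, hr.rank]), ker_eq_of_le h4 (by rw [hs.rank, hr.rank])⟩

omit [FiniteDimensional k M] in
theorem Cls.mul_eq_zero {s x y : Module.End k M} (hss : s * s = 0) (hx : x ∈ Cls G s)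
    (hy : y ∈ Cls G s) : x * y = 0 :=
  mul_eq_zero_iff.2 (hy.2.2.1.trans ((mul_eq_zero_iff.1 hss).trans hx.2.2.2))

omit [FiniteDimensional k M] in
theorem Cls.add {s x y : Module.End k M} (hss : s * s = 0) (hx : x ∈ Cls G s)
    (hy : y ∈ Cls G s) : x + y ∈ Cls G s := by
  refine ⟨?_, hx.2.1.add hy.2.1 (Cls.mul_eq_zero hss hx hy),
    (LinearMap.range_add_le x y).trans (sup_le hx.2.2.1 hy.2.2.1), fun m hm => ?_⟩
  · rw [mul_add, add_mul, add_mul, Cls.mul_eq_zero hss hx hx, Cls.mul_eq_zero hss hy hx,
      Cls.mul_eq_zero hss hx hy, Cls.mul_eq_zero hss hy hy]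
    simp
  · rw [LinearMap.mem_ker, LinearMap.add_apply, hx.2.2.2 hm, hy.2.2.2 hm, add_zero]

omit [FiniteDimensional k M] in
theorem Cls.smul {s x : Module.End k M} (hx : x ∈ Cls G s) (a : k) : a • x ∈ Cls G s := by
  refine ⟨?_, hx.2.1.smul a, ?_, fun m hm => ?_⟩
  · rw [smul_mul_assoc, mul_smul_comm, hx.1, smul_zero, smul_zero]
  · rintro m ⟨v, rfl⟩
    exact hx.2.2.1 ⟨a • v, by rw [map_smul]; rfl⟩
  · rw [LinearMap.mem_ker, LinearMap.smul_apply, hx.2.2.2 hm, smul_zero]

omit [FiniteDimensional k M] in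
theorem Cls.zero (G : Subgroup (LinearMap.GeneralLinearGroup k M)) (s : Module.End k M) :
    (0 : Module.End k M) ∈ Cls G s := ⟨mul_zero _, fam_zero, by simp, by simp⟩

theorem Cls.eq (hm : MinRank G d) {s x : Module.End k M} (hs : Root G d s) (hx : x ∈ Cls G s)
    (hx0 : x ≠ 0) : Cls G x = Cls G s := by
  obtain ⟨-, h1, h2⟩ := Cls.root hm hs hx hx0
  simp only [Cls, h1, h2]

end CfsgLib.QuadPair
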