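import Cfsg.Agent.Lib.QuadPair.Ops
import Cfsg.Agent.S5059
import Cfsg.Agent.S5061

/-!
The dictionary between quadratic elements and their operators.
-/

set_option autoImplicit false

namespace CfsgLib.QuadPair

open Cfsg

universe u

variable {k : Type u} [Field k] {M : Type u} [AddCommGroup M] [Module k M] [FiniteDimensional k M]
variable {G : Subgroup (LinearMap.GeneralLinearGroup k M)}

/-- `σ - 1`. -/
abbrev op (σ : LinearMap.GeneralLinearGroup k M) : Module.End k M := (σ : Module.End k M) - 1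

omit [FiniteDimensional k M] in
theorem val_eq (σ : LinearMap.GeneralLinearGroup k M) : (σ : Module.End k M) = 1 + op σ :=
  (add_sub_cancel _ _).symm

omit [FiniteDimensional k M] in
theorem op_inj {σ τ : LinearMap.GeneralLinearGroup k M} (h : op σ = op τ) : σ = τ :=
  Units.ext (by rw [val_eq σ, val_eq τ, h])

omit [FiniteDimensional k M] in
theorem op_eq_zero {σ : LinearMap.GeneralLinearGroup k M} : op σ = 0 ↔ σ = 1 :=
  ⟨fun h => op_inj (by rw [h]; simp [op]), fun h => by simp [op, h]⟩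

omit [FiniteDimensional k M] in
theorem exists_elem {x : Module.End k M} (hxx : x * x = 0) :
    ∃ g : LinearMap.GeneralLinearGroup k M, (g : Module.End k M) = 1 + x :=
  ⟨⟨1 + x, 1 - x, by simp [add_mul, mul_sub, hxx], by simp [sub_mul, mul_add, hxx]⟩, rfl⟩

omit [FiniteDimensional k M] in
theorem fam_iff {σ : LinearMap.GeneralLinearGroup k M} (hsq : op σ * op σ = 0) :
    Fam G (op σ) ↔ scalarFamily σ ⊆ (G : Set (LinearMap.GeneralLinearGroup k M)) := by
  constructor
  · rintro h τ ⟨c, hc⟩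
    obtain ⟨g, hg, e⟩ := h c
    have : τ = g := Units.ext (hc.trans e.symm)
    rw [this]; exact hg
  · intro h c
    obtain ⟨g, hg⟩ := exists_elem (x := c • op σ) (by
      rw [smul_mul_assoc, mul_smul_comm, hsq, smul_zero, smul_zero])
    exact ⟨g, h ⟨c, hg⟩, hg⟩

omit [FiniteDimensional k M] in
theorem mem_quadraticElements {σ : LinearMap.GeneralLinearGroup k M} :
    σ ∈ quadraticElements G ↔ op σ * op σ = 0 ∧ op σ ≠ 0 ∧ Fam G (op σ) := by
  constructor
  · rintro ⟨-, ⟨h1, h2⟩, h3⟩
    exact ⟨h1, h2, (fam_iff h1).2 h3⟩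
  · rintro ⟨h1, h2, h3⟩
    have hs := (fam_iff h1).1 h3
    exact ⟨hs ⟨1, by rw [one_smul]; exact val_eq σ⟩, ⟨h1, h2⟩, hs⟩

omit [FiniteDimensional k M] in
theorem unipotentOn_iff {H : Subgroup (LinearMap.GeneralLinearGroup k M)} :
    IsUnipotentOn H ↔ ∃ n : ℕ, ∀ l : List (LinearMap.GeneralLinearGroup k M), (∀ g ∈ l, g ∈ H) →
      l.length = n → (l.map op).prod = 0 := by
  simp only [IsUnipotentOn, List.bind_eq_flatMap, List.pure_def, ← List.map_eq_flatMap, List.map_map]
  rfl

/-- The least commutator rank exists. -/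
theorem minRank_of_mem {σ₀ : LinearMap.GeneralLinearGroup k M} (h : σ₀ ∈ minimalQuadraticElements G) :
    MinRank G (rk (op σ₀)) := by
  refine ⟨?_, fun x hxx hx hx0 => ?_⟩
  · rw [Nat.pos_iff_ne_zero]
    intro e
    exact (mem_quadraticElements.1 h.1).2.1 (LinearMap.range_eq_bot.1 (Submodule.finrank_eq_zero.1 e))
  · obtain ⟨g, hg⟩ := exists_elem hxx
    have e : op g = x := by rw [op, hg, add_sub_cancel_left]
    have := h.2 g (mem_quadraticElements.2 (by rw [e]; exact ⟨hxx, hx0, hx⟩))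
    change rk (op σ₀) ≤ rk (op g) at this
    rwa [e] at this

theorem root_of_mem {σ₀ σ : LinearMap.GeneralLinearGroup k M} (h₀ : σ₀ ∈ minimalQuadraticElements G)
    (h : σ ∈ minimalQuadraticElements G) : Root G (rk (op σ₀)) (op σ) := by
  obtain ⟨h1, -, h3⟩ := mem_quadraticElements.1 h.1
  exact ⟨h1, h3, le_antisymm (h.2 σ₀ h₀.1) (h₀.2 σ h.1)⟩

theorem mem_of_root {d : ℕ} (hm : MinRank G d) {σ : LinearMap.GeneralLinearGroup k M}
    (h : Root G d (op σ)) : σ ∈ minimalQuadraticElements G := by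
  refine ⟨mem_quadraticElements.2 ⟨h.sq, h.ne_zero hm, h.fam⟩, fun τ hτ => ?_⟩
  obtain ⟨h1, h2, h3⟩ := mem_quadraticElements.1 hτ
  exact h.rank.le.trans (hm.min _ h1 h3 h2)

variable (hk2 : ringChar k ≠ 2) (hk3 : Nat.card k ≠ 3) (hG : IsQuadraticPair G)
include hk2 hk3 hG

/-- Membership of `E(σ)`. -/
theorem mem_E_iff {σ : LinearMap.GeneralLinearGroup k M} (hσ : σ ∈ minimalQuadraticElements G)
    {g : LinearMap.GeneralLinearGroup k M} :
    g ∈ sameActionSubgroup G σ ↔ op g ∈ Cls G (op σ) := by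
  have hm := minRank_of_mem hσ
  have hs := root_of_mem hσ hσ
  rw [← SetLike.mem_coe, (Cfsg.Agent.S5059.result hk2 hk3 hG hσ).1]
  constructor
  · rintro (⟨h1, h2, h3⟩ | rfl)
    · exact ⟨(root_of_mem hσ h1).sq, (root_of_mem hσ h1).fam, h3.le, h2.ge⟩
    · rw [op_eq_zero.2 rfl]; exact Cls.zero G _
  · intro h
    by_cases h0 : op g = 0
    · exact Or.inr (op_eq_zero.1 h0)
    · obtain ⟨h1, h2, h3⟩ := Cls.root hm hs h h0
      exact Or.inl ⟨mem_of_root hm h1, h3, h2⟩

omit hk2 hk3 hG in
theorem fam_mem {x : Module.End k M} (hx : Fam G x) {g : LinearMap.GeneralLinearGroup k M}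
    (hg : (g : Module.End k M) = 1 + x) : g ∈ G := by
  obtain ⟨g', hg', e⟩ := hx 1
  rw [one_smul] at e
  rwa [show g = g' from Units.ext (hg.trans e.symm)]

theorem E_le {σ : LinearMap.GeneralLinearGroup k M} (hσ : σ ∈ minimalQuadraticElements G) :
    sameActionSubgroup G σ ≤ G := fun g hg =>
  fam_mem ((mem_E_iff hk2 hk3 hG hσ).1 hg).2.1 (val_eq g)

theorem self_mem_E {σ : LinearMap.GeneralLinearGroup k M} (hσ : σ ∈ minimalQuadraticElements G) :
    σ ∈ sameActionSubgroup G σ :=
  (mem_E_iff hk2 hk3 hG hσ).2 (root_of_mem hσ hσ).mem_cls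

omit hk2 hk3 hG in
theorem op_conj (g σ : LinearMap.GeneralLinearGroup k M) : op (g * σ * g⁻¹) = conjOp g (op σ) := by
  simp only [op, conjOp, Units.val_mul, mul_sub, sub_mul, mul_one, Units.mul_inv]

theorem conj_E {σ : LinearMap.GeneralLinearGroup k M} (hσ : σ ∈ minimalQuadraticElements G)
    {g : LinearMap.GeneralLinearGroup k M} (hg : g ∈ G) :
    g * σ * g⁻¹ ∈ minimalQuadraticElements G ∧
      conjBy (sameActionSubgroup G σ) g = sameActionSubgroup G (g * σ * g⁻¹) := by
  have hm := minRank_of_mem hσ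
  have hσ' : g * σ * g⁻¹ ∈ minimalQuadraticElements G :=
    mem_of_root hm (by rw [op_conj]; exact (root_of_mem hσ hσ).conj hg)
  refine ⟨hσ', ?_⟩
  have key : ∀ h : LinearMap.GeneralLinearGroup k M, h ∈ G → ∀ s : Module.End k M,
      ∀ x ∈ Cls G s, conjOp h x ∈ Cls G (conjOp h s) := by
    intro h hh s x hx
    refine ⟨by rw [← conjOp_mul, hx.1, conjOp_zero], hx.2.1.conj hh, ?_, fun m hm' => ?_⟩
    · rw [range_conjOp, range_conjOp]; exact Submodule.map_mono hx.2.2.1
    · have hinj : ∀ v : M, (h : Module.End k M) v = 0 → v = 0 := fun v hv => by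
        have := LinearMap.congr_fun (Units.inv_mul h) v
        rw [Module.End.mul_apply, hv, map_zero] at this
        exact this.symm
      have := hx.2.2.2 (LinearMap.mem_ker.2 (hinj _ (LinearMap.mem_ker.1 hm')))
      rw [LinearMap.mem_ker] at this ⊢
      show (h : Module.End k M) (x _) = 0
      rw [this, map_zero]
  ext y
  rw [Subgroup.mem_map, mem_E_iff hk2 hk3 hG hσ', op_conj]
  constructor
  · rintro ⟨z, hz, rfl⟩
    show op (g * z * g⁻¹) ∈ _
    rw [op_conj]
    exact key g hg _ _ ((mem_E_iff hk2 hk3 hG hσ).1 hz)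
  · intro hy
    refine ⟨g⁻¹ * y * g, (mem_E_iff hk2 hk3 hG hσ).2 ?_, by simp [mul_assoc]⟩
    have h2 := key g⁻¹ (G.inv_mem hg) _ _ hy
    have : conjOp g⁻¹ (conjOp g (op σ)) = op σ := by
      simp [conjOp, ← mul_assoc]
    rwa [this, ← op_conj, inv_inv] at h2

omit hk2 hk3 hG in
/-- Products of the group generated by operators in a cube zero space stay in it. -/
theorem op_mem_of_closure {N : Submodule k (Module.End k M)} (hN : CubeZero N)
    {S : Set (LinearMap.GeneralLinearGroup k M)} (hS : ∀ g ∈ S, op g ∈ N)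
    {g : LinearMap.GeneralLinearGroup k M} (hg : g ∈ Subgroup.closure S) : op g ∈ N := by
  induction hg using Subgroup.closure_induction with
  | mem x hx => exact hS x hx
  | one => rw [op_eq_zero.2 rfl]; exact N.zero_mem
  | mul x y _ _ hx hy =>
    rw [show op (x * y) = op x + op y + op x * op y by simp only [op, Units.val_mul]; noncomm_ring]
    exact N.add_mem (N.add_mem hx hy) (hN.mul _ hx _ hy)
  | inv x _ hx =>
    have h3 : op x * op x * op x = 0 := hN.triple _ hx _ hx _ hx
    have : op x⁻¹ = -op x + op x * op x := by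
      have e : ((x⁻¹ : LinearMap.GeneralLinearGroup k M) : Module.End k M) = 1 - op x + op x * op x := by
        refine Units.inv_eq_of_mul_eq_one_right ?_
        rw [val_eq x]
        linear_combination (norm := noncomm_ring) h3
      rw [op, e]; abel
    rw [this]
    exact N.add_mem (N.neg_mem hx) (hN.mul _ hx _ hx)

theorem op_mem_sup {σ τ : LinearMap.GeneralLinearGroup k M} (hσ : σ ∈ minimalQuadraticElements G)
    (hτ : τ ∈ minimalQuadraticElements G) {N : Submodule k (Module.End k M)} (hN : CubeZero N)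
    (h1 : Cls G (op σ) ⊆ N) (h2 : Cls G (op τ) ⊆ N) {g : LinearMap.GeneralLinearGroup k M}
    (hg : g ∈ sameActionSubgroup G σ ⊔ sameActionSubgroup G τ) : op g ∈ N := by
  rw [← Subgroup.closure_eq (sameActionSubgroup G σ), ← Subgroup.closure_eq (sameActionSubgroup G τ),
    ← Subgroup.closure_union] at hg
  refine op_mem_of_closure hN (fun x hx => ?_) hg
  rcases hx with hx | hx
  · exact h1 ((mem_E_iff hk2 hk3 hG hσ).1 hx)
  · exact h2 ((mem_E_iff hk2 hk3 hG hτ).1 hx)

theorem unipotent_iff {σ τ : LinearMap.GeneralLinearGroup k M} (hσ : σ ∈ minimalQuadraticElements G)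
    (hτ : τ ∈ minimalQuadraticElements G) :
    IsUnipotentOn (sameActionSubgroup G σ ⊔ sameActionSubgroup G τ) ↔
      IsNilpotent (op τ * op σ) := by
  have hm := minRank_of_mem hσ
  rw [unipotentOn_iff]
  constructor
  · rintro ⟨n, hn⟩
    refine ⟨n, ?_⟩
    set L := (List.replicate n [τ, σ]).flatten with hL
    have hlen : L.length = n * 2 := by simp [hL]
    have hmem : ∀ g ∈ L, g ∈ sameActionSubgroup G σ ⊔ sameActionSubgroup G τ := by
      intro g hg
      simp [hL] at hg
      rcases hg.2 with rfl | rfl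
      · exact Subgroup.mem_sup_right (self_mem_E hk2 hk3 hG hτ)
      · exact Subgroup.mem_sup_left (self_mem_E hk2 hk3 hG hσ)
    have hprod : (L.map op).prod = (op τ * op σ) ^ n := by
      simp [hL, List.map_flatten, List.prod_flatten]
    rw [← hprod, ← List.take_append_drop n L, List.map_append, List.prod_append]
    have := hn (L.take n) (fun g hg => hmem g (List.mem_of_mem_take hg))
      (by rw [List.length_take, hlen]; omega)
    rw [show ((L.take n).map op).prod = 0 from this, zero_mul]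
  · intro hnil
    obtain ⟨N, hN, h1, h2⟩ := exists_cubeZero hm (Ring.two_ne_zero hk2) hk3 (root_of_mem hσ hσ)
      (root_of_mem hσ hτ) hnil
    refine ⟨3, fun l hl hlen => ?_⟩
    obtain ⟨a, b, c, rfl⟩ := List.length_eq_three.1 hlen
    have hmem := fun g hg => op_mem_sup hk2 hk3 hG hσ hτ hN h1 h2 (hl g hg)
    simp only [List.map_cons, List.map_nil, List.prod_cons, List.prod_nil, mul_one, ← mul_assoc]
    exact hN.triple _ (hmem a (by simp)) _ (hmem b (by simp)) _ (hmem c (by simp))

/-- Every root has a partner. -/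
theorem exists_partner {σ : LinearMap.GeneralLinearGroup k M} (hσ : σ ∈ minimalQuadraticElements G) :
    ∃ τ ∈ minimalQuadraticElements G, ¬ IsNilpotent (op τ * op σ) := by
  by_contra! hall
  have hm := minRank_of_mem hσ
  let W : Set (Subgroup (LinearMap.GeneralLinearGroup k M)) :=
    {A | ∃ g ∈ G, A = conjBy (sameActionSubgroup G σ) g}
  have hWG : ∀ A ∈ W, A ≤ G := by
    rintro A ⟨g, hg, rfl⟩
    obtain ⟨h1, h2⟩ := conj_E hk2 hk3 hG hσ hg
    rw [h2]; exact E_le hk2 hk3 hG h1
  have hWW : ∀ A ∈ W, ∀ B ∈ W, IsUnipotentOn (A ⊔ B) := by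
    rintro A ⟨g, hg, rfl⟩ B ⟨h, hh, rfl⟩
    obtain ⟨a1, a2⟩ := conj_E hk2 hk3 hG hσ hg
    obtain ⟨b1, b2⟩ := conj_E hk2 hk3 hG hσ hh
    rw [a2, b2, unipotent_iff hk2 hk3 hG a1 b1]
    -- move the pair back by `g`
    obtain ⟨c1, -⟩ := conj_E hk2 hk3 hG b1 (G.inv_mem hg)
    obtain ⟨n, hn⟩ := hall _ c1
    refine ⟨n, ?_⟩
    have hpow : ∀ x : Module.End k M, ∀ m, conjOp g (x ^ m) = conjOp g x ^ m := by
      intro x m
      induction m with
      | zero => simp [conjOp]
      | succ m ih => rw [pow_succ, pow_succ, conjOp_mul, ih]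
    have := congrArg (conjOp g) hn
    rw [hpow, conjOp_mul, conjOp_zero] at this
    convert this using 3
    · rw [← op_conj]; congr 1; group
    · rw [← op_conj]
  have hWc : ∀ A ∈ W, ∀ g ∈ G, conjBy A g ∈ W := by
    rintro A ⟨h, hh, rfl⟩ g hg
    refine ⟨g * h, G.mul_mem hg hh, ?_⟩
    ext y
    simp only [Subgroup.mem_map, exists_exists_and_eq_and]
    refine exists_congr fun z => and_congr_right fun _ => ?_
    simp [mul_assoc]
  obtain ⟨hun, hnorm⟩ := Cfsg.Agent.S5061.result hWG hWW hWc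
  obtain ⟨n, hn⟩ := unipotentOn_iff.1 hun
  set U := ⨆ A ∈ W, A with hU
  have hσU : σ ∈ U := by
    have : sameActionSubgroup G σ ∈ W := ⟨1, G.one_mem, by
      ext y; simp⟩
    exact le_biSup (fun A : Subgroup (LinearMap.GeneralLinearGroup k M) => A) this
      (self_mem_E hk2 hk3 hG hσ)
  -- a nonzero fixed vector
  obtain ⟨v, hv0, hv⟩ : ∃ v : M, v ≠ 0 ∧ ∀ g ∈ U, op g v = 0 := by
    classical
    have hex : ∃ n, ∀ l : List (LinearMap.GeneralLinearGroup k M), (∀ g ∈ l, g ∈ U) → l.length = n →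
        (l.map op).prod = 0 := ⟨n, hn⟩
    obtain ⟨⟨w, hw⟩, -⟩ := hG.1
    have h0 : Nat.find hex ≠ 0 := fun e => hw (by
      have := Nat.find_spec hex [] (by simp) (by simp [e])
      simp at this
      exact (LinearMap.congr_fun this w))
    have := Nat.find_min hex (Nat.sub_one_lt h0)
    push Not at this
    obtain ⟨l, hl, hlen, hne⟩ := this
    obtain ⟨m, hm'⟩ : ∃ m, (l.map op).prod m ≠ 0 := by
      by_contra! h; exact hne (LinearMap.ext h)
    refine ⟨_, hm', fun g hg => ?_⟩
    have := Nat.find_spec hex (g :: l) (by simpa [hg] using hl) (by simp [hlen]; omega)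
    rw [List.map_cons, List.prod_cons] at this
    exact LinearMap.congr_fun this m
  let W' : Submodule k M :=
    { carrier := {m | ∀ g ∈ U, op g m = 0}
      zero_mem' := fun g _ => map_zero _
      add_mem' := fun ha hb g hg => by rw [map_add, ha g hg, hb g hg, add_zero]
      smul_mem' := fun c m hm g hg => by rw [map_smul, hm g hg, smul_zero] }
  have hinv : ∀ g ∈ G, ∀ w ∈ W', (g : M →ₗ[k] M) w ∈ W' := by
    intro g hg w hw u hu
    have hu' : g⁻¹ * u * g ∈ U := by
      rw [← hnorm g⁻¹ (G.inv_mem hg)]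
      exact ⟨u, hu, by simp⟩
    have h := hw _ hu'
    have e : op (g⁻¹ * u * g) = conjOp g⁻¹ (op u) := by rw [← op_conj, inv_inv]
    rw [e, conjOp, inv_inv] at h
    have h' := congrArg (g : Module.End k M) h
    rw [map_zero] at h'
    rw [← h']
    show _ = (g : Module.End k M) ((((g⁻¹ : LinearMap.GeneralLinearGroup k M) : Module.End k M)
      * op u * (g : Module.End k M)) w)
    rw [← Module.End.mul_apply (g : Module.End k M), ← mul_assoc, ← mul_assoc, Units.mul_inv, one_mul]
    rfl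
  rcases hG.1.2 W' hinv with h | h
  · exact hv0 ((Submodule.eq_bot_iff _).1 h v hv)
  · refine (root_of_mem hσ hσ).ne_zero hm (LinearMap.ext fun m => ?_)
    exact (h.ge trivial : m ∈ W') σ hσU

omit hk2 hk3 hG in
theorem exists_min {d : ℕ} (hm : MinRank G d) {x : Module.End k M} (hx : Root G d x) :
    ∃ τ ∈ minimalQuadraticElements G, op τ = x := by
  obtain ⟨g, hg⟩ := exists_elem hx.sq
  have e : op g = x := by rw [op, hg, add_sub_cancel_left]
  exact ⟨g, mem_of_root hm (e ▸ hx), e⟩

/-- Every root has an opposite. -/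
theorem exists_opposite {d : ℕ} (hm : MinRank G d) {x : Module.End k M} (hx : Root G d x) :
    ∃ q, Opp G d x q := by
  obtain ⟨σ, hσ, rfl⟩ := exists_min hm hx
  obtain ⟨τ, hτ, hn⟩ := exists_partner hk2 hk3 hG hσ
  have hd : rk (op σ) = d := hx.rank
  have hτr := root_of_mem hσ hτ
  rw [hd] at hτr
  obtain ⟨q, -, h⟩ := exists_opp hm (Ring.two_ne_zero hk2) hk3 hx hτr hn
  exact ⟨q, h⟩

end CfsgLib.QuadPair
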