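import Cfsg.Agent.Lib.QuadPair.Outer
import Cfsg.Agent.Lib.Components.Quasisimple

/-!
A quadratic pair is a central product of quasisimple groups.
-/

set_option autoImplicit false

namespace CfsgLib.QuadPair

open Cfsg

section Step

universe u

variable {k : Type u} [Field k] {M : Type u} [AddCommGroup M] [Module k M] [FiniteDimensional k M]
variable {G : Subgroup (LinearMap.GeneralLinearGroup k M)} {d : ℕ}

omit [FiniteDimensional k M] in
theorem conjOp_of_comm {g : LinearMap.GeneralLinearGroup k M} {s : Module.End k M}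
    (e : op g * s = s * op g) : conjOp g s = s := by
  have h : (g : Module.End k M) * s = s * g := by
    rw [val_eq g, add_mul, mul_add, one_mul, mul_one, e]
  rw [conjOp, h, mul_assoc, Units.mul_inv, mul_one]

/-- The elements fixing every component. -/
def fixComp (G : Subgroup (LinearMap.GeneralLinearGroup k M)) (d : ℕ) :
    Subgroup (LinearMap.GeneralLinearGroup k M) where
  carrier := {g | g ∈ G ∧ ∀ s, Root G d s → Linked G d s (conjOp g s)}
  one_mem' := ⟨G.one_mem, fun s _ => by rw [conjOp_one']⟩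
  mul_mem' := fun {a b} ha hb => ⟨G.mul_mem ha.1 hb.1, fun s hs => by
    rw [← conjOp_comp]; exact (hb.2 s hs).trans (ha.2 _ (hs.conj hb.1))⟩
  inv_mem' := fun {a} ha => ⟨G.inv_mem ha.1, fun s hs => Linked.symm (by
    have := ha.2 _ (hs.conj (G.inv_mem ha.1))
    rwa [conjOp_comp, mul_inv_cancel, conjOp_one'] at this)⟩

omit [FiniteDimensional k M] in
theorem gen_le_gen {q q' : Module.End k M} (h : Linked G d q q') : gen G d q' ≤ gen G d q :=
  iSup₂_le fun _ ⟨_, hτ, hlτ, e⟩ => e ▸ E_le_gen hτ (h.trans hlτ)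

variable (hk2 : ringChar k ≠ 2) (hk3 : Nat.card k ≠ 3) (hG : IsQuadraticPair G)
include hk2 hk3 hG

/-- `G` fixes every component. -/
theorem linked_conj_all (hm : MinRank G d) {y : Module.End k M} (hy : Root G d y)
    {g : LinearMap.GeneralLinearGroup k M} (hg : g ∈ G) {s : Module.End k M} (hs : Root G d s) :
    Linked G d s (conjOp g s) := by
  have hle : G ≤ fixComp G d := by
    conv_lhs => rw [← hG.2]
    rw [Subgroup.closure_le]
    intro h hh
    refine SetLike.le_def.1 (sup_le (iSup₂_le ?_) ?_) (mem_cocentral hk2 hk3 hG hm hy hh)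
    · rintro A ⟨σ, hσ, rfl⟩ a ha
      have haG := E_le hk2 hk3 hG hσ ha
      refine ⟨haG, fun s hs => ?_⟩
      by_cases ha0 : op a = 0
      · rw [op_eq_zero.1 ha0, conjOp_one']
      have har := (Cls.root hm (root_of_min hm hy hσ) ((mem_E_iff hk2 hk3 hG hσ).1 ha) ha0).1
      by_cases hl : Linked G d s (op a)
      · have := hl.conj haG
        rw [conjOp_of_comm (g := a) (s := op a) rfl] at this
        exact hl.trans this.symm
      · rw [conjOp_of_comm (comm_of_not_linked hk2 hk3 hG hm hs har hl).2.symm]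
    · rintro c ⟨hcG, hc⟩
      refine ⟨hcG, fun s hs => ?_⟩
      obtain ⟨σ, hσ, rfl⟩ := exists_min hm hs
      rw [conjOp_of_comm (op_comm ((Subgroup.mem_centralizer_iff.1 hc σ
        (le_biSup (fun A : Subgroup (LinearMap.GeneralLinearGroup k M) => A)
          (⟨σ, hσ, rfl⟩ : sameActionSubgroup G σ ∈ quadraticRootSubgroups G)
          (self_mem_E hk2 hk3 hG hσ))).symm))]
  exact (hle hg).2 s hs

theorem gen_normal (hm : MinRank G d) {s₀ : Module.End k M} (hs₀ : Root G d s₀)
    {g : LinearMap.GeneralLinearGroup k M} (hg : g ∈ G) : conjBy (gen G d s₀) g = gen G d s₀ := by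
  refine conjBy_eq_of_le (K := G) (fun h hh => conjBy_iSup_le ?_) g hg
  rintro _ ⟨σ, hσ, hl, rfl⟩
  obtain ⟨h1, h2⟩ := conj_E hk2 hk3 hG hσ hh
  exact ⟨_, h1, by rw [op_conj]; exact hl.trans (linked_conj_all hk2 hk3 hG hm hs₀ hh (root_of_min hm hs₀ hσ)), h2⟩

/-- An operator commuting with a component and killing one of its roots vanishes. -/
theorem eq_zero_of_kill (hm : MinRank G d) {q : Module.End k M} (hq : Root G d q) {y : Module.End k M}
    (hcom : ∀ s, Root G d s → Linked G d q s → y * s = s * y) (h0 : y * q = 0) : y = 0 := by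
  have h2 := Ring.two_ne_zero hk2
  have key : ∀ s, Linked G d q s → y * s = 0 := by
    intro s hs
    induction hs with
    | refl => exact h0
    | @tail b c hab hbc ih =>
      obtain ⟨q', hq', hopp⟩ := exists_opp hm h2 hk3 hbc.1 hbc.2.1 hbc.2.2
      obtain ⟨-, hR, -⟩ := Cls.root hm hbc.2.1 hq' (hopp.right.ne_zero hm)
      have hlq : Linked G d q q' := hab.tail ⟨hbc.1, hopp.right, hopp.nonnil hm⟩
      have e : y * q' = 0 := by
        calc y * q' = y * q' * b * q' := by rw [mul_assoc y q' b, mul_assoc y, hopp.qsq]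
          _ = q' * (y * b) * q' := by rw [hcom q' hopp.right hlq]; simp only [mul_assoc]
          _ = 0 := by rw [ih, mul_zero, zero_mul]
      rw [mul_eq_zero_iff, ← hR, ← mul_eq_zero_iff, e]
  set U : Submodule k M := ⨆ (s : Module.End k M) (_ : Root G d s) (_ : Linked G d q s), LinearMap.range s
    with hU
  have hUy : U ≤ LinearMap.ker y := iSup_le fun s => iSup_le fun _ => iSup_le fun hl =>
    mul_eq_zero_iff.1 (key s hl)
  have hinv : ∀ g ∈ G, ∀ w ∈ U, (g : M →ₗ[k] M) w ∈ U := by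
    intro g hg w hw
    have : U ≤ U.comap (g : M →ₗ[k] M) := by
      refine iSup_le fun s => iSup_le fun hs => iSup_le fun hl => ?_
      refine le_trans ?_ (Submodule.comap_mono (le_iSup_of_le (conjOp g s) (le_iSup_of_le (hs.conj hg)
        (le_iSup_of_le (hl.trans (linked_conj_all hk2 hk3 hG hm hq hg hs)) le_rfl))))
      intro m hm'
      rw [Submodule.mem_comap, range_conjOp]
      exact ⟨m, hm', rfl⟩
    exact this hw
  rcases hG.1.2 U hinv with h | h
  · exact absurd (LinearMap.range_eq_bot.1 (le_bot_iff.1 (h ▸ le_iSup_of_le q (le_iSup_of_le hq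
      (le_iSup_of_le .refl le_rfl))))) (hq.ne_zero hm)
  · exact LinearMap.ext fun m => hUy (h.ge Submodule.mem_top : m ∈ U)

/-- A quadratic element commutes with all roots or lies in one component group. -/
theorem quadratic_cases (hm : MinRank G d) {g : LinearMap.GeneralLinearGroup k M}
    (hg : g ∈ quadraticElements G) :
    (∀ s, Root G d s → op g * s = s * op g) ∨ ∃ q, Root G d q ∧ g ∈ gen G d q := by
  suffices H : ∀ n, ∀ g ∈ G, op g * op g = 0 → Fam G (op g) → rk (op g) = n →
      (∀ s, Root G d s → op g * s = s * op g) ∨ ∃ q, Root G d q ∧ g ∈ gen G d q by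
    obtain ⟨hgg, -, hgF⟩ := mem_quadraticElements.1 hg
    exact H _ g hg.1 hgg hgF rfl
  intro n
  induction n using Nat.strong_induction_on with
  | _ n ih =>
    intro g hgG hgg hgF hn
    by_cases hc : ∀ s, Root G d s → op g * s = s * op g
    · exact Or.inl hc
    right
    push Not at hc
    obtain ⟨q, hq, h1, h2, h3, h4, h5⟩ := exists_root_part hk2 hk3 hG hm hgg hgF hc
    obtain ⟨σ, hσ, rfl⟩ := exists_min hm hq
    obtain ⟨h, hh⟩ := exists_elem h3
    have hhe : op h = op g - op σ := by rw [op, hh, add_sub_cancel_left]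
    have hσX : σ ∈ gen G d (op σ) := E_le_gen hσ .refl (self_mem_E hk2 hk3 hG hσ)
    have hprod : g = σ * h := by
      apply Units.ext
      rw [Units.val_mul, val_eq g, val_eq σ, hh]
      linear_combination (norm := noncomm_ring) -h1
    refine ⟨op σ, hq, ?_⟩
    suffices hhX : h ∈ gen G d (op σ) by rw [hprod]; exact mul_mem hσX hhX
    have hzero : (∀ s, Root G d s → Linked G d (op σ) s → op h * s = s * op h) → h = 1 := fun hcom =>
      op_eq_zero.1 (eq_zero_of_kill hk2 hk3 hG hm hq hcom (by rw [hhe]; exact h2))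
    rcases ih _ (hn ▸ h5) h (fam_mem h4 hh) (by rw [hhe]; exact h3) (by rw [hhe]; exact h4)
      (by rw [hhe]) with hcom | ⟨q', hq', hhX⟩
    · rw [hzero fun s hs _ => hcom s hs]; exact one_mem _
    · by_cases hl : Linked G d (op σ) q'
      · exact gen_le_gen hl hhX
      · have hc' := gen_comm hk2 hk3 hG hm hq' fun e => hl e.symm
        rw [Subgroup.commutator_eq_bot_iff_le_centralizer] at hc'
        rw [hzero fun s hs hls => ?_]
        · exact one_mem _
        obtain ⟨τ, hτ, rfl⟩ := exists_min hm hs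
        exact op_comm (Subgroup.mem_centralizer_iff.1 (hc' hhX) τ
          (E_le_gen hτ hls (self_mem_E hk2 hk3 hG hτ))).symm

end Step

universe u

/-- The restriction of a group to an invariant subspace. -/
noncomputable def restr {k : Type u} [Field k] {M : Type u} [AddCommGroup M] [Module k M]
    (H : Subgroup (LinearMap.GeneralLinearGroup k M)) (W : Submodule k M)
    (hW : ∀ g ∈ H, ∀ w ∈ W, (g : M →ₗ[k] M) w ∈ W) : ↥H →* LinearMap.GeneralLinearGroup k W :=
  MonoidHom.toHomUnits
    { toFun := fun g => ((g : LinearMap.GeneralLinearGroup k M) : M →ₗ[k] M).restrict (hW g g.2)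
      map_one' := by ext; rfl
      map_mul' := fun _ _ => by ext; rfl }

theorem restr_apply {k : Type u} [Field k] {M : Type u} [AddCommGroup M] [Module k M]
    (H : Subgroup (LinearMap.GeneralLinearGroup k M)) (W : Submodule k M)
    (hW : ∀ g ∈ H, ∀ w ∈ W, (g : M →ₗ[k] M) w ∈ W) (g : H) (w : W) :
    ((((restr H W hW g : LinearMap.GeneralLinearGroup k W) : Module.End k W) w : W) : M) =
      ((g : LinearMap.GeneralLinearGroup k M) : M →ₗ[k] M) w := rfl

set_option maxHeartbeats 1000000 in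
theorem central_product {k : Type u} [Field k] (hk2 : ringChar k ≠ 2) (hk3 : Nat.card k ≠ 3) :
    ∀ (n : ℕ) (M : Type u) [AddCommGroup M] [Module k M] [FiniteDimensional k M],
      Module.finrank k M ≤ n → ∀ G : Subgroup (LinearMap.GeneralLinearGroup k M), IsQuadraticPair G →
    ∃ (s : ℕ) (Gi : Fin s → Subgroup (LinearMap.GeneralLinearGroup k M)),
      (∀ i, Gi i ≤ G ∧ ∀ g ∈ G, conjBy (Gi i) g = Gi i) ∧ (∀ i j, i ≠ j → ⁅Gi i, Gi j⁆ = ⊥) ∧
      (⨆ i, Gi i) = G ∧
      (∀ i, IsQuasisimple ↥(Gi i) ∧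
        Subgroup.closure (quadraticElements G ∩ (Gi i : Set (LinearMap.GeneralLinearGroup k M))) = Gi i) ∧
      quadraticElements G ⊆ ⋃ i, (Gi i : Set (LinearMap.GeneralLinearGroup k M)) := by
  intro n
  induction n using Nat.strong_induction_on with
  | _ n ih =>
  intro M _ _ _ hn G hG
  by_cases hne : (quadraticElements G).Nonempty
  swap
  · rw [Set.not_nonempty_iff_eq_empty] at hne
    refine ⟨0, fun i => i.elim0, fun i => i.elim0, fun i => i.elim0, ?_, fun i => i.elim0, by rw [hne]; simp⟩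
    rw [iSup_of_empty, ← hG.2, hne, Subgroup.closure_empty]
  obtain ⟨σ₀, hσ₀⟩ := exists_minimal hne
  have hm := minRank_of_mem hσ₀
  set d := rk (op σ₀) with hd
  have hy : Root G d (op σ₀) := root_of_mem hσ₀ hσ₀
  obtain ⟨r, rep, hrep, hsep, hcov⟩ := finite_components hk2 hk3 hG hm
  set Y := ⨆ A ∈ quadraticRootSubgroups G, A with hY
  have hσY : ∀ σ ∈ minimalQuadraticElements G, σ ∈ Y := fun σ hσ =>
    le_biSup (fun A : Subgroup (LinearMap.GeneralLinearGroup k M) => A)
      (⟨σ, hσ, rfl⟩ : sameActionSubgroup G σ ∈ quadraticRootSubgroups G) (self_mem_E hk2 hk3 hG hσ)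
  have hgenY : ∀ q, gen G d q ≤ Y := fun q => iSup₂_le fun A ⟨σ, hσ, _, e⟩ =>
    le_biSup (fun A : Subgroup (LinearMap.GeneralLinearGroup k M) => A) ⟨σ, hσ, e⟩
  have hYG : Y ≤ G := iSup₂_le fun A ⟨σ, hσ, e⟩ => e ▸ E_le hk2 hk3 hG hσ
  set Q' : Set (LinearMap.GeneralLinearGroup k M) :=
    {g | g ∈ quadraticElements G ∧ ∀ s, Root G d s → op g * s = s * op g} with hQ'
  set H := Subgroup.closure Q' with hH
  have hHG : H ≤ G := (Subgroup.closure_le _).2 fun g hg => hg.1.1
  have hHY : H ≤ Subgroup.centralizer (Y : Set (LinearMap.GeneralLinearGroup k M)) :=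
    (Subgroup.closure_le _).2 fun g hg => mem_centralizer_roots hk2 hk3 hG hm hy hg.2
  have hHs : ∀ g ∈ H, ∀ s, Root G d s → op g * s = s * op g := by
    intro g hg s hs
    obtain ⟨σ, hσ, rfl⟩ := exists_min hm hs
    exact op_comm (Subgroup.mem_centralizer_iff.1 (hHY hg) σ (hσY σ hσ)).symm
  have hcases : ∀ g ∈ quadraticElements G, g ∈ H ∨ ∃ i, g ∈ gen G d (rep i) := by
    intro g hg
    rcases quadratic_cases hk2 hk3 hG hm hg with h | ⟨q, hq, h⟩
    · exact Or.inl (Subgroup.subset_closure ⟨hg, h⟩)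
    · obtain ⟨i, hi⟩ := hcov q hq
      exact Or.inr ⟨i, gen_le_gen hi h⟩
  have hGYH : G ≤ Y ⊔ H := by
    conv_lhs => rw [← hG.2]
    rw [Subgroup.closure_le]
    intro g hg
    rcases hcases g hg with h | ⟨i, h⟩
    · exact Subgroup.mem_sup_right h
    · exact Subgroup.mem_sup_left (hgenY _ h)
  -- a minimal invariant subspace of `H`
  classical
  have hexW : ∃ m, ∃ W : Submodule k M, W ≠ ⊥ ∧ (∀ g ∈ H, ∀ w ∈ W, (g : M →ₗ[k] M) w ∈ W) ∧
      Module.finrank k W = m := ⟨_, ⊤, fun e => by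
        obtain ⟨v, hv⟩ := hG.1.1
        exact hv ((Submodule.eq_bot_iff _).1 e v Submodule.mem_top), fun _ _ _ _ => Submodule.mem_top, rfl⟩
  obtain ⟨W, hW0, hW, hWm⟩ := Nat.find_spec hexW
  have hWmin : ∀ V : Submodule k M, V ≤ W → V ≠ ⊥ → (∀ g ∈ H, ∀ v ∈ V, (g : M →ₗ[k] M) v ∈ V) → V = W :=
    fun V hVW hV0 hV => Submodule.eq_of_le_of_finrank_le hVW (hWm.trans_le (Nat.find_min' hexW ⟨V, hV0, hV, rfl⟩))
  have hWlt : Module.finrank k W < Module.finrank k M := by
    refine Submodule.finrank_lt fun e => ?_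
    obtain ⟨s, hs⟩ : ∃ s, Root G d s := ⟨_, hy⟩
    have hker : LinearMap.ker s = W := by
      refine hWmin _ (e ▸ le_top) (fun e' => hs.ne_zero hm (LinearMap.range_eq_bot.1
        (le_bot_iff.1 (e' ▸ mul_eq_zero_iff.1 hs.sq)))) fun g hg v hv => ?_
      have h1 := LinearMap.congr_fun (hHs g hg s hs) v
      rw [Module.End.mul_apply, Module.End.mul_apply, LinearMap.mem_ker.1 hv, map_zero] at h1
      rw [LinearMap.mem_ker, show (g : M →ₗ[k] M) v = v + op g v from LinearMap.congr_fun (val_eq g) v, map_add,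
        LinearMap.mem_ker.1 hv, ← h1, add_zero]
    exact hs.ne_zero hm (LinearMap.ker_eq_top.1 (hker.trans e))
  -- faithfulness
  set U : Submodule k M := ⨆ g ∈ Y, W.map ((g : LinearMap.GeneralLinearGroup k M) : M →ₗ[k] M) with hUdef
  have hUtop : U = ⊤ := by
    have hgen : ∀ g ∈ Y ⊔ H, U ≤ U.comap (g : M →ₗ[k] M) := by
      intro g hg
      rw [← Subgroup.closure_eq Y, ← Subgroup.closure_eq H, ← Subgroup.closure_union] at hg
      have hbase : ∀ g ∈ (Y : Set (LinearMap.GeneralLinearGroup k M)) ∪ H, U ≤ U.comap (g : M →ₗ[k] M) := by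
        rintro g (hg | hg) <;> refine iSup₂_le fun h hh => ?_ <;> rintro _ ⟨w, hw, rfl⟩
        · exact Submodule.mem_iSup_of_mem (g * h) (Submodule.mem_iSup_of_mem (Y.mul_mem hg hh) ⟨w, hw, rfl⟩)
        · refine Submodule.mem_iSup_of_mem h (Submodule.mem_iSup_of_mem hh ⟨(g : M →ₗ[k] M) w, hW g hg w hw, ?_⟩)
          have e := congrArg (fun u : LinearMap.GeneralLinearGroup k M => (u : M →ₗ[k] M) w)
            (Subgroup.mem_centralizer_iff.1 (hHY hg) h hh)
          exact e
      induction hg using Subgroup.closure_induction'' with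
      | mem x hx => exact hbase x hx
      | inv_mem x hx => exact hbase x⁻¹ (hx.imp Y.inv_mem H.inv_mem)
      | one => exact fun v hv => hv
      | mul x y _ _ hx hy => exact fun v hv => hx (hy hv)
    rcases hG.1.2 U (fun g hg w hw => hgen g (hGYH hg) hw) with h | h
    · refine absurd (le_bot_iff.1 (h ▸ ?_)) hW0
      exact le_trans (by rintro w hw; exact ⟨w, hw, rfl⟩) (le_iSup₂ (f := fun (g : LinearMap.GeneralLinearGroup k M)
        (_ : g ∈ Y) => W.map (g : M →ₗ[k] M)) 1 Y.one_mem)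
    · exact h
  have hfaith : ∀ y : Module.End k M, (∀ g ∈ Y, y * (g : Module.End k M) = (g : Module.End k M) * y) →
      (∀ w ∈ W, y w = 0) → y = 0 := by
    intro y hy' hw0
    refine LinearMap.ext fun m => ?_
    have hUk : U ≤ LinearMap.ker y := by
      refine iSup₂_le fun g hg => ?_
      rintro _ ⟨w, hw, rfl⟩
      rw [LinearMap.mem_ker, ← Module.End.mul_apply y, hy' g hg, Module.End.mul_apply, hw0 w hw, map_zero]
    exact hUk (hUtop.ge Submodule.mem_top : m ∈ U)
  have hcomY : ∀ g ∈ H, ∀ h ∈ Y, op g * (h : Module.End k M) = (h : Module.End k M) * op g := fun g hg h hh => by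
    rw [val_eq h, mul_add, add_mul, mul_one, one_mul,
      op_comm (Subgroup.mem_centralizer_iff.1 (hHY hg) h hh).symm]
  set ρ := restr H W hW with hρ
  have hρinj : Function.Injective ρ := by
    rw [injective_iff_map_eq_one]
    intro g hg
    refine Subtype.ext (op_eq_zero.1 (hfaith _ (hcomY g g.2) fun w hw => ?_))
    have h1 := restr_apply H W hW g ⟨w, hw⟩
    rw [← hρ, hg] at h1
    show ((g : LinearMap.GeneralLinearGroup k M) : M →ₗ[k] M) w - w = 0
    rw [← h1, sub_eq_zero]; rfl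
  have hop : ∀ (g : H) (w : W), ((op (ρ g) w : W) : M) = op (g : LinearMap.GeneralLinearGroup k M) w := fun g w => rfl
  set G' := ρ.range with hG'
  have hsqW : ∀ g : H, op (g : LinearMap.GeneralLinearGroup k M) * op (g : LinearMap.GeneralLinearGroup k M) = 0 →
      op (ρ g) * op (ρ g) = 0 := fun g h => LinearMap.ext fun w => Subtype.ext (by
    rw [Module.End.mul_apply, hop, hop]; exact LinearMap.congr_fun h (w : M))
  have hfamQ : ∀ g ∈ Q', ∀ c : k, ∃ g₁ ∈ H, (g₁ : Module.End k M) = 1 + c • op g := by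
    intro g hg c
    obtain ⟨hgg, hg0, hgF⟩ := mem_quadraticElements.1 hg.1
    obtain ⟨g₁, -, he⟩ := hgF c
    refine ⟨g₁, ?_, he⟩
    by_cases hc : c = 0
    · rw [show g₁ = 1 from Units.ext (by rw [he, hc, zero_smul, add_zero]; rfl)]; exact H.one_mem
    have he' : op g₁ = c • op g := by rw [op, he, add_sub_cancel_left]
    refine Subgroup.subset_closure ⟨mem_quadraticElements.2 ⟨?_, ?_, ?_⟩, fun s hs => ?_⟩
    · rw [he', smul_mul_assoc, mul_smul_comm, hgg, smul_zero, smul_zero]
    · rw [he']; exact smul_ne_zero hc hg0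
    · rw [he']; exact hgF.smul c
    · rw [he', smul_mul_assoc, mul_smul_comm, hg.2 s hs]
  -- quadratic elements of the restriction
  have hq1 : ∀ g : H, (g : LinearMap.GeneralLinearGroup k M) ∈ Q' → ρ g ∈ quadraticElements G' := by
    intro g hg
    obtain ⟨hgg, hg0, -⟩ := mem_quadraticElements.1 hg.1
    refine mem_quadraticElements.2 ⟨hsqW g hgg, fun e => hg0 ?_, fun c => ?_⟩
    · exact hfaith _ (hcomY g g.2) fun w hw => by
        rw [← hop g ⟨w, hw⟩, e]; rfl
    · obtain ⟨g₁, hg₁, he⟩ := hfamQ _ hg c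
      refine ⟨ρ ⟨g₁, hg₁⟩, ⟨_, rfl⟩, LinearMap.ext fun w => Subtype.ext ?_⟩
      show (g₁ : M →ₗ[k] M) w = _
      rw [show (g₁ : M →ₗ[k] M) = _ from he]
      rfl
  have hq2 : ∀ g : H, ρ g ∈ quadraticElements G' → (g : LinearMap.GeneralLinearGroup k M) ∈ Q' := by
    intro g hg
    obtain ⟨hgg, hg0, hgF⟩ := mem_quadraticElements.1 hg
    refine ⟨mem_quadraticElements.2 ⟨?_, fun e => hg0 ?_, fun c => ?_⟩, fun s hs => hHs g g.2 s hs⟩
    · refine hfaith _ (fun h hh => by rw [mul_assoc, hcomY g g.2 h hh, ← mul_assoc, hcomY g g.2 h hh, mul_assoc])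
        fun w hw => ?_
      have := congrArg Subtype.val (LinearMap.congr_fun hgg ⟨w, hw⟩)
      rwa [Module.End.mul_apply, hop, hop] at this
    · exact LinearMap.ext fun w => Subtype.ext (by rw [hop, e]; rfl)
    · obtain ⟨_, ⟨g₁, rfl⟩, he⟩ := hgF c
      refine ⟨g₁, hHG g₁.2, ?_⟩
      rw [val_eq (g₁ : LinearMap.GeneralLinearGroup k M), add_right_inj, ← sub_eq_zero]
      refine hfaith _ (fun h hh => by
        rw [sub_mul, mul_sub, hcomY g₁ g₁.2 h hh, smul_mul_assoc, mul_smul_comm, hcomY g g.2 h hh]) fun w hw => ?_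
      have he' : op (ρ g₁) = c • op (ρ g) := by rw [op, he, add_sub_cancel_left]
      have := congrArg Subtype.val (LinearMap.congr_fun he' ⟨w, hw⟩)
      rw [hop, LinearMap.smul_apply, Submodule.coe_smul, hop] at this
      rw [LinearMap.sub_apply, LinearMap.smul_apply, this, sub_self]
  have hG'quad : IsQuadraticPair G' := by
    refine ⟨⟨?_, fun V hV => ?_⟩, le_antisymm ((Subgroup.closure_le _).2 fun g hg => hg.1) ?_⟩
    · obtain ⟨w, hw, hw0⟩ := W.ne_bot_iff.1 hW0
      exact ⟨⟨w, hw⟩, fun e => hw0 (congrArg Subtype.val e)⟩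
    · by_cases hV0 : V = ⊥
      · exact Or.inl hV0
      refine Or.inr (Submodule.map_injective_of_injective W.injective_subtype ?_)
      rw [Submodule.map_subtype_top]
      refine hWmin _ (Submodule.map_subtype_le W V) (fun e => hV0 ?_) ?_
      · exact Submodule.map_injective_of_injective W.injective_subtype (by rw [e, Submodule.map_bot])
      · rintro g hg _ ⟨v, hv, rfl⟩
        exact ⟨_, hV (ρ ⟨g, hg⟩) ⟨_, rfl⟩ v hv, rfl⟩
    · rintro _ ⟨⟨g, hg⟩, rfl⟩
      have hle : H ≤ ((Subgroup.closure (quadraticElements G')).comap ρ).map H.subtype := by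
        refine (Subgroup.closure_le _).2 fun x hx => ?_
        exact ⟨⟨x, Subgroup.subset_closure hx⟩, Subgroup.subset_closure (hq1 _ hx), rfl⟩
      obtain ⟨x, hx, e⟩ := hle hg
      obtain rfl : x = ⟨g, hg⟩ := Subtype.ext e
      exact hx
  obtain ⟨s', Hj, hHj1, hHj2, hHj3, hHj4, hHj5⟩ :=
    ih (Module.finrank k W) (lt_of_lt_of_le hWlt hn) W le_rfl G' hG'quad
  let K : Fin s' → Subgroup (LinearMap.GeneralLinearGroup k M) := fun j => ((Hj j).comap ρ).map H.subtype
  have hKH : ∀ j, K j ≤ H := fun j => Subgroup.map_subtype_le _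
  have hKY : ∀ j, K j ≤ Subgroup.centralizer (Y : Set (LinearMap.GeneralLinearGroup k M)) := fun j =>
    (hKH j).trans hHY
  have hmapK : ∀ j, ((Hj j).comap ρ).map ρ = Hj j := fun j =>
    Subgroup.map_comap_eq_self (hHj1 j).1
  let F : Fin r ⊕ Fin s' → Subgroup (LinearMap.GeneralLinearGroup k M) := Sum.elim (fun i => gen G d (rep i)) K
  let e := (finSumFinEquiv (m := r) (n := s')).symm
  have hXn : ∀ i, ∀ g ∈ G, conjBy (gen G d (rep i)) g = gen G d (rep i) := fun i g hg =>
    gen_normal hk2 hk3 hG hm (hrep i) hg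
  have hKn : ∀ j, ∀ g ∈ G, conjBy (K j) g = K j := by
    intro j
    let S : Subgroup (LinearMap.GeneralLinearGroup k M) :=
      { carrier := {g | conjBy (K j) g = K j}
        one_mem' := conjBy_unit _
        mul_mem' := fun {p p'} (hp : _ = _) (hp' : _ = _) => by
          show _ = _; rw [← conjBy_comp, hp', hp]
        inv_mem' := fun {p} (hp : _ = _) => by
          show _ = _
          conv_lhs => rw [← hp]
          rw [conjBy_comp, inv_mul_cancel, conjBy_unit] }
    have hS : Y ⊔ H ≤ S := by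
      refine sup_le ?_ ?_
      · intro g hg
        show conjBy (K j) g = K j
        ext x
        rw [mem_conjBy]
        have key : ∀ v ∈ K j, g⁻¹ * v * g = v ∧ g * v * g⁻¹ = v := fun v hv => by
          have h := Subgroup.mem_centralizer_iff.1 (hKY j hv) g hg
          exact ⟨by rw [mul_assoc, ← h, inv_mul_cancel_left], by rw [h, mul_inv_cancel_right]⟩
        refine ⟨fun hx => ?_, fun hx => by rw [(key x hx).1]; exact hx⟩
        have := (key _ hx).2
        rw [show g * (g⁻¹ * x * g) * g⁻¹ = x by group] at this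
        exact this ▸ hx
      · refine fun g hg => conjBy_eq_of_le (K := H) (fun h hh => ?_) g hg
        rintro _ ⟨_, ⟨v, hv, rfl⟩, rfl⟩
        refine ⟨(⟨h, hh⟩ : H) * v * (⟨h, hh⟩ : H)⁻¹, ?_, rfl⟩
        show ρ _ ∈ Hj j
        rw [map_mul, map_mul, map_inv, ← (hHj1 j).2 (ρ ⟨h, hh⟩) ⟨_, rfl⟩]
        exact ⟨_, hv, rfl⟩
    exact fun g hg => hS (hGYH hg)
  refine ⟨r + s', fun i => F (e i), fun i => ?_, fun i j hij => ?_, ?_, fun i => ?_, ?_⟩
  · show F (e i) ≤ G ∧ ∀ g ∈ G, conjBy (F (e i)) g = F (e i)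
    rcases e i with a | b
    · exact ⟨gen_le hk2 hk3 hG, hXn a⟩
    · exact ⟨(hKH b).trans hHG, hKn b⟩
  · show ⁅F (e i), F (e j)⁆ = ⊥
    have hne' : e i ≠ e j := fun h => hij (e.injective h)
    revert hne'
    generalize e i = x
    generalize e j = y
    intro hne'
    rcases x with a | b <;> rcases y with a' | b'
    · exact gen_comm hk2 hk3 hG hm (hrep a) fun h => hne' (by rw [hsep a a' h])
    · show ⁅gen G d (rep a), K b'⁆ = ⊥
      rw [Subgroup.commutator_comm, Subgroup.commutator_eq_bot_iff_le_centralizer]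
      exact (hKY b').trans (Subgroup.centralizer_le (hgenY _))
    · show ⁅K b, gen G d (rep a')⁆ = ⊥
      rw [Subgroup.commutator_eq_bot_iff_le_centralizer]
      exact (hKY b).trans (Subgroup.centralizer_le (hgenY _))
    · show ⁅K b, K b'⁆ = ⊥
      have h := hHj2 b b' (fun h => hne' (by rw [h]))
      rw [← Subgroup.map_commutator, Subgroup.map_eq_bot_iff_of_injective _ H.subtype_injective]
      apply Subgroup.map_injective hρinj
      rw [Subgroup.map_commutator, hmapK, hmapK, h, Subgroup.map_bot]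
  · refine le_antisymm (iSup_le fun i => ?_) ?_
    · show F (e i) ≤ G
      rcases e i with a | b
      · exact gen_le hk2 hk3 hG
      · exact (hKH b).trans hHG
    · have hF : ∀ x, F x ≤ ⨆ i, F (e i) := fun x => le_iSup_of_le (e.symm x) (by rw [e.apply_symm_apply])
      conv_lhs => rw [← hG.2]
      rw [Subgroup.closure_le]
      intro g hg
      rcases quadratic_cases hk2 hk3 hG hm hg with h | ⟨q, hq, h⟩
      · have hgH : g ∈ H := Subgroup.subset_closure ⟨hg, h⟩
        obtain ⟨j, hj⟩ := Set.mem_iUnion.1 (hHj5 (hq1 ⟨g, hgH⟩ ⟨hg, h⟩))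
        exact hF (Sum.inr j) ⟨⟨g, hgH⟩, hj, rfl⟩
      · obtain ⟨i, hi⟩ := hcov q hq
        exact hF (Sum.inl i) (gen_le_gen hi h)
  · show IsQuasisimple ↥(F (e i)) ∧ Subgroup.closure (quadraticElements G ∩ (F (e i) : Set _)) = F (e i)
    rcases e i with a | b
    · refine ⟨gen_quasisimple hk2 hk3 hG hm (hrep a), le_antisymm
        ((Subgroup.closure_le _).2 Set.inter_subset_right) ?_⟩
      refine iSup₂_le ?_
      rintro A ⟨σ, hσ, hl, rfl⟩ x hx
      by_cases hx1 : x = 1
      · rw [hx1]; exact one_mem _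
      exact Subgroup.subset_closure ⟨(E_eq hk2 hk3 hG hσ hx hx1).1.1, E_le_gen hσ hl hx⟩
    · refine ⟨?_, le_antisymm ((Subgroup.closure_le _).2 Set.inter_subset_right) ?_⟩
      · have e1 : ↥((Hj b).comap ρ) ≃* ↥(Hj b) :=
          (((Hj b).comap ρ).equivMapOfInjective ρ hρinj).trans (MulEquiv.subgroupCongr (hmapK b))
        have e2 : ↥((Hj b).comap ρ) ≃* ↥(K b) := ((Hj b).comap ρ).equivMapOfInjective H.subtype H.subtype_injective
        exact CfsgLib.Components.IsQuasisimple.congr (e1.symm.trans e2) (hHj4 b).1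
      · show K b ≤ _
        rintro _ ⟨g, hg, rfl⟩
        have hle : Hj b ≤ ((Subgroup.closure (quadraticElements G ∩ (K b : Set _))).comap H.subtype).map ρ := by
          conv_lhs => rw [← (hHj4 b).2]
          rw [Subgroup.closure_le]
          rintro y ⟨hy1, hy2⟩
          obtain ⟨x, rfl⟩ := (hHj1 b).1 hy2
          exact ⟨x, Subgroup.subset_closure ⟨(hq2 x hy1).1, ⟨x, hy2, rfl⟩⟩, rfl⟩
        obtain ⟨x, hx, ex⟩ := hle hg
        rw [hρinj ex] at hx
        exact hx
  · intro g hg
    rw [Set.mem_iUnion]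
    rcases quadratic_cases hk2 hk3 hG hm hg with h | ⟨q, hq, h⟩
    · have hgH : g ∈ H := Subgroup.subset_closure ⟨hg, h⟩
      obtain ⟨j, hj⟩ := Set.mem_iUnion.1 (hHj5 (hq1 ⟨g, hgH⟩ ⟨hg, h⟩))
      exact ⟨e.symm (Sum.inr j), by show g ∈ F (e _); rw [e.apply_symm_apply]; exact ⟨⟨g, hgH⟩, hj, rfl⟩⟩
    · obtain ⟨i, hi⟩ := hcov q hq
      exact ⟨e.symm (Sum.inl i), by
        show g ∈ F (e _)
        rw [e.apply_symm_apply]
        exact gen_le_gen hi h⟩

end CfsgLib.QuadPair
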