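import Cfsg.Agent.Lib.QuadPair.Split

/-!
The position of two roots: opposite, commuting, or with commutator a root.
-/

set_option autoImplicit false

namespace CfsgLib.QuadPair

universe u v

variable {k : Type u} [Field k] {M : Type v} [AddCommGroup M] [Module k M]
variable {G : Subgroup (LinearMap.GeneralLinearGroup k M)} {d : ℕ}

/-- Opposite roots. -/
structure Opp (G : Subgroup (LinearMap.GeneralLinearGroup k M)) (d : ℕ) (s q : Module.End k M) : Prop where
  left : Root G d s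
  right : Root G d q
  sqs : s * q * s = s
  qsq : q * s * q = q

/-- The operators annihilated by `x` on both sides and mapping `ker x` into `range x`. -/
def uOps (x : Module.End k M) : Submodule k (Module.End k M) where
  carrier := {u | x * u = 0 ∧ u * x = 0 ∧ ∀ m, x m = 0 → u m ∈ LinearMap.range x}
  zero_mem' := ⟨mul_zero _, zero_mul _, fun m _ => Submodule.zero_mem _⟩
  add_mem' := fun {u v} hu hv => ⟨by rw [mul_add, hu.1, hv.1, add_zero],
    by rw [add_mul, hu.2.1, hv.2.1, add_zero],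
    fun m hm => Submodule.add_mem _ (hu.2.2 m hm) (hv.2.2 m hm)⟩
  smul_mem' := fun a u hu => ⟨by rw [mul_smul_comm, hu.1, smul_zero],
    by rw [smul_mul_assoc, hu.2.1, smul_zero], fun m hm => Submodule.smul_mem _ a (hu.2.2 m hm)⟩

/-- The operators with range in `range x` killing `ker x`. -/
def gOps (x : Module.End k M) : Submodule k (Module.End k M) where
  carrier := {y | LinearMap.range y ≤ LinearMap.range x ∧ LinearMap.ker x ≤ LinearMap.ker y}
  zero_mem' := ⟨by simp, by simp⟩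
  add_mem' := fun {u v} hu hv => ⟨(LinearMap.range_add_le u v).trans (sup_le hu.1 hv.1),
    fun m hm => by rw [LinearMap.mem_ker, LinearMap.add_apply, hu.2 hm, hv.2 hm, add_zero]⟩
  smul_mem' := fun a u hu => ⟨by rintro m ⟨v, rfl⟩; exact hu.1 ⟨a • v, by rw [map_smul]; rfl⟩,
    fun m hm => by rw [LinearMap.mem_ker, LinearMap.smul_apply, hu.2 hm, smul_zero]⟩

variable {x : Module.End k M}

theorem g_le_u (hxx : x * x = 0) {y : Module.End k M} (hy : y ∈ gOps x) : y ∈ uOps x :=
  ⟨mul_eq_zero_iff.2 (hy.1.trans (mul_eq_zero_iff.1 hxx)),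
    mul_eq_zero_iff.2 ((mul_eq_zero_iff.1 hxx).trans hy.2), fun m _ => hy.1 ⟨m, rfl⟩⟩

theorem u_mul_g {u y : Module.End k M} (hu : u ∈ uOps x) (hy : y ∈ gOps x) : u * y = 0 :=
  mul_eq_zero_iff.2 (hy.1.trans (mul_eq_zero_iff.1 hu.2.1))

theorem g_mul_u {u y : Module.End k M} (hy : y ∈ gOps x) (hu : u ∈ uOps x) : y * u = 0 :=
  mul_eq_zero_iff.2 ((mul_eq_zero_iff.1 hu.1).trans hy.2)

theorem u_mul_u {u v : Module.End k M} (hu : u ∈ uOps x) (hv : v ∈ uOps x) : u * v ∈ gOps x := by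
  refine ⟨?_, fun m hm => ?_⟩
  · rintro m ⟨w, rfl⟩
    exact hu.2.2 _ (LinearMap.congr_fun hv.1 w)
  · obtain ⟨w, hw⟩ := hv.2.2 m hm
    rw [LinearMap.mem_ker, Module.End.mul_apply, ← hw]
    exact LinearMap.congr_fun hu.2.1 w

theorem u_mul_u_mul_u {u v w : Module.End k M} (hu : u ∈ uOps x) (hv : v ∈ uOps x)
    (hw : w ∈ uOps x) : u * v * w = 0 := g_mul_u (u_mul_u hu hv) hw

theorem cls_le_g {y : Module.End k M} (hy : y ∈ Cls G x) : y ∈ gOps x := ⟨hy.2.2.1, hy.2.2.2⟩

theorem Opp.symm {s q : Module.End k M} (h : Opp G d s q) : Opp G d q s :=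
  ⟨h.right, h.left, h.qsq, h.sqs⟩

variable [FiniteDimensional k M]

theorem exists_opp (hm : MinRank G d) (h2 : (2 : k) ≠ 0) (hk3 : Nat.card k ≠ 3)
    {s t : Module.End k M} (hs : Root G d s) (ht : Root G d t) (hnil : ¬ IsNilpotent (t * s)) :
    ∃ q ∈ Cls G t, Opp G d s q := by
  obtain ⟨K, _, _, lam, κ, q, h, -, -, -, -, -, -, hQ⟩ := split hm h2 hk3 hs ht hnil
  have hq : q ∈ Cls G t := by
    have := hQ 1
    rwa [h.one, h.f_left.2] at this
  have hq0 : q ≠ 0 := fun e => hs.ne_zero hm (by rw [← h.sqs, e, mul_zero, zero_mul])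
  exact ⟨q, hq, hs, (Cls.root hm ht hq hq0).1, h.sqs, h.qsq⟩

theorem nonnil_iff (hm : MinRank G d) (h2 : (2 : k) ≠ 0) (hk3 : Nat.card k ≠ 3)
    {s t : Module.End k M} (hs : Root G d s) (ht : Root G d t) :
    ¬ IsNilpotent (t * s) ↔
      LinearMap.range s ⊓ LinearMap.ker t = ⊥ ∧ LinearMap.range t ⊓ LinearMap.ker s = ⊥ := by
  constructor
  · intro hnil
    obtain ⟨q, hq, hopp⟩ := exists_opp hm h2 hk3 hs ht hnil
    obtain ⟨-, hR, hK⟩ := Cls.root hm ht hq (hopp.right.ne_zero hm)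
    rw [← hR, ← hK]
    constructor <;> rw [eq_bot_iff] <;> rintro m ⟨⟨w, rfl⟩, hw⟩ <;> rw [Submodule.mem_bot]
    · calc s w = s (q (s w)) := (LinearMap.congr_fun hopp.sqs w).symm
        _ = 0 := by rw [LinearMap.mem_ker.1 hw, map_zero]
    · calc q w = q (s (q w)) := (LinearMap.congr_fun hopp.qsq w).symm
        _ = 0 := by rw [LinearMap.mem_ker.1 hw, map_zero]
  · rintro ⟨h1, h2'⟩ hnil
    have e1 := rk_mul_add t s
    have e2 := rk_mul_add s t
    rw [h1, finrank_bot, hs.rank, add_zero] at e1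
    rw [h2', finrank_bot, ht.rank, add_zero] at e2
    have r1 := range_eq_of_le (range_mul_le t s) (by rw [ht.rank, e1])
    have r2 := range_eq_of_le (range_mul_le s t) (by rw [hs.rank, e2])
    have h3 := (unip hm h2 hs ht hnil).1
    have : LinearMap.range (t * s * t) = LinearMap.range t := by
      rw [mul_assoc, range_mul, r2, ← range_mul, r1]
    rw [h3, LinearMap.range_zero] at this
    exact ht.ne_zero hm (LinearMap.range_eq_bot.1 this.symm)

theorem nilp_of_cls (hm : MinRank G d) (h2 : (2 : k) ≠ 0) (hk3 : Nat.card k ≠ 3)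
    {s t s' t' : Module.End k M} (hs : Root G d s) (ht : Root G d t) (hs' : s' ∈ Cls G s)
    (ht' : t' ∈ Cls G t) (hnil : IsNilpotent (t * s)) : IsNilpotent (t' * s') := by
  by_cases h0 : s' = 0
  · exact ⟨1, by rw [h0, mul_zero, pow_one]⟩
  by_cases h0' : t' = 0
  · exact ⟨1, by rw [h0', zero_mul, pow_one]⟩
  obtain ⟨hsr, hsR, hsK⟩ := Cls.root hm hs hs' h0
  obtain ⟨htr, htR, htK⟩ := Cls.root hm ht ht' h0'
  by_contra hn
  rw [nonnil_iff hm h2 hk3 hsr htr, hsR, hsK, htR, htK, ← nonnil_iff hm h2 hk3 hs ht] at hn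
  exact hn hnil

/-- The data of a pair with nonzero commutator. -/
structure CommPair (G : Subgroup (LinearMap.GeneralLinearGroup k M)) (d : ℕ) (s t : Module.End k M) :
    Prop where
  root : Root G d (s * t - t * s)
  s_mem : s ∈ uOps (s * t - t * s)
  t_mem : t ∈ uOps (s * t - t * s)
  rk_add : rk (s * t) + rk (t * s) = d
  disj : LinearMap.range (s * t) ⊓ LinearMap.range (t * s) = ⊥
  range_st : LinearMap.range (s * t) = LinearMap.range s ⊓ LinearMap.ker t
  range_ts : LinearMap.range (t * s) = LinearMap.range t ⊓ LinearMap.ker s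
  ker_st : LinearMap.ker (s * t) = LinearMap.range s ⊔ LinearMap.ker t
  range_eq : LinearMap.range (s * t - t * s) = LinearMap.range (s * t) ⊔ LinearMap.range (t * s)
  ker_eq : LinearMap.ker (s * t - t * s) = LinearMap.ker (s * t) ⊓ LinearMap.ker (t * s)

theorem prod_spaces {s t : Module.End k M} (hs : rk s = d) (ht : rk t = d)
    (h1 : t * s * t = 0) (h3 : s * t * s = 0) :
    LinearMap.range (s * t) ≤ LinearMap.range s ⊓ LinearMap.ker t ∧
    LinearMap.range s ⊔ LinearMap.ker t ≤ LinearMap.ker (s * t) := by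
  refine ⟨le_inf (range_mul_le s t) (mul_eq_zero_iff.1 (by rw [← mul_assoc, h1])),
    sup_le (mul_eq_zero_iff.1 h3) (ker_le_ker_mul s t)⟩

theorem commPair (hm : MinRank G d) (h2 : (2 : k) ≠ 0) {s t : Module.End k M} (hs : Root G d s)
    (ht : Root G d t) (hnil : IsNilpotent (t * s)) (hne : s * t - t * s ≠ 0) : CommPair G d s t := by
  obtain ⟨h1, h3, hfam⟩ := unip hm h2 hs ht hnil
  set x := s * t - t * s with hx
  have hsq : x * x = 0 := by
    have hss := hs.sq
    have htt := ht.sq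
    have : x * x = s * t * s * t - s * (t * t) * s - t * (s * s) * t + t * s * t * s := by
      rw [hx]; noncomm_ring
    rw [this, h3, h1, hss, htt]; simp
  have hd := hm.min x hsq hfam hne
  obtain ⟨p1, p2⟩ := prod_spaces hs.rank ht.rank h1 h3
  obtain ⟨q1, q2⟩ := prod_spaces ht.rank hs.rank h3 h1
  have e1 := rk_mul_add s t
  have e2 := rk_mul_add t s
  rw [ht.rank] at e1
  rw [hs.rank] at e2
  have f1 : rk (s * t) ≤ Module.finrank k ↥(LinearMap.range s ⊓ LinearMap.ker t) :=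
    Submodule.finrank_mono p1
  have f2 : rk (t * s) ≤ Module.finrank k ↥(LinearMap.range t ⊓ LinearMap.ker s) :=
    Submodule.finrank_mono q1
  have hxle : LinearMap.range x ≤ LinearMap.range (s * t) ⊔ LinearMap.range (t * s) := by
    rintro m ⟨w, rfl⟩
    rw [hx, LinearMap.sub_apply]
    exact Submodule.sub_mem _ (Submodule.mem_sup_left ⟨w, rfl⟩) (Submodule.mem_sup_right ⟨w, rfl⟩)
  have f3 : rk x ≤ Module.finrank k ↥(LinearMap.range (s * t) ⊔ LinearMap.range (t * s)) :=
    Submodule.finrank_mono hxle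
  have f4 : Module.finrank k ↥(LinearMap.range (s * t) ⊔ LinearMap.range (t * s)) +
      Module.finrank k ↥(LinearMap.range (s * t) ⊓ LinearMap.range (t * s)) = rk (s * t) + rk (t * s) :=
    Submodule.finrank_sup_add_finrank_inf_eq _ _
  have hr : rk x = d := by omega
  have hdisj : LinearMap.range (s * t) ⊓ LinearMap.range (t * s) = ⊥ :=
    Submodule.finrank_eq_zero.1 (by omega)
  have hst : LinearMap.range (s * t) = LinearMap.range s ⊓ LinearMap.ker t :=
    Submodule.eq_of_le_of_finrank_le p1 (by unfold rk at *; omega)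
  have hts : LinearMap.range (t * s) = LinearMap.range t ⊓ LinearMap.ker s :=
    Submodule.eq_of_le_of_finrank_le q1 (by unfold rk at *; omega)
  have hk : LinearMap.ker (s * t) = LinearMap.range s ⊔ LinearMap.ker t := by
    refine (Submodule.eq_of_le_of_finrank_le p2 ?_).symm
    have a := finrank_ker_add (s * t)
    have b := finrank_ker_add t
    have c := Submodule.finrank_sup_add_finrank_inf_eq (LinearMap.range s) (LinearMap.ker t)
    have hs' := hs.rank
    have ht' := ht.rank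
    unfold rk at *
    omega
  have hR : LinearMap.range x = LinearMap.range (s * t) ⊔ LinearMap.range (t * s) :=
    Submodule.eq_of_le_of_finrank_le hxle (by unfold rk at *; omega)
  have hsplit : ∀ m, x m = 0 → (s * t) m = 0 ∧ (t * s) m = 0 := by
    intro m hm'
    rw [hx, LinearMap.sub_apply, sub_eq_zero] at hm'
    have : (s * t) m ∈ LinearMap.range (s * t) ⊓ LinearMap.range (t * s) :=
      ⟨⟨m, rfl⟩, ⟨m, hm'.symm⟩⟩
    rw [hdisj, Submodule.mem_bot] at this
    exact ⟨this, hm' ▸ this⟩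
  refine ⟨⟨hsq, hfam, hr⟩, ⟨?_, ?_, fun m hm' => ?_⟩, ⟨?_, ?_, fun m hm' => ?_⟩, by omega, hdisj,
    hst, hts, hk, hR, ?_⟩
  · rw [sub_mul, h3, mul_assoc, hs.sq, mul_zero, sub_zero]
  · rw [mul_sub, ← mul_assoc, hs.sq, zero_mul, zero_sub, ← mul_assoc, h3, neg_zero]
  · rw [hR]
    refine Submodule.mem_sup_left ?_
    rw [hst]
    exact ⟨⟨m, rfl⟩, (hsplit m hm').2⟩
  · rw [sub_mul, h1, mul_assoc, ht.sq, mul_zero, sub_zero]
  · rw [mul_sub, ← mul_assoc, h1, ← mul_assoc, ht.sq, zero_mul, sub_zero]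
  · rw [hR]
    refine Submodule.mem_sup_right ?_
    rw [hts]
    exact ⟨⟨m, rfl⟩, (hsplit m hm').1⟩
  · refine le_antisymm (fun m hm' => hsplit m hm') fun m hm' => ?_
    rw [LinearMap.mem_ker, LinearMap.sub_apply, hm'.1, hm'.2, sub_zero]

theorem CommPair.swap {s t : Module.End k M} (hm : MinRank G d) (h2 : (2 : k) ≠ 0)
    (hs : Root G d s) (ht : Root G d t) (hnil : IsNilpotent (t * s)) (h : CommPair G d s t) :
    CommPair G d t s := by
  refine commPair hm h2 ht hs (isNilpotent_swap hnil) fun e => h.root.ne_zero hm ?_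
  rw [sub_eq_zero] at e ⊢
  exact e.symm

/-- All commutators between the two classes. -/
theorem comm_cls (hm : MinRank G d) (h2 : (2 : k) ≠ 0) (hk3 : Nat.card k ≠ 3)
    {s t : Module.End k M} (hs : Root G d s) (ht : Root G d t) (hnil : IsNilpotent (t * s))
    (hne : s * t - t * s ≠ 0) {s' t' : Module.End k M} (hs' : s' ∈ Cls G s) (ht' : t' ∈ Cls G t) :
    s' * t' - t' * s' ∈ Cls G (s * t - t * s) ∧
      (s' ≠ 0 → t' ≠ 0 → s' * t' - t' * s' ≠ 0) := by
  by_cases h0 : s' = 0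
  · exact ⟨by rw [h0, zero_mul, mul_zero, sub_zero]; exact Cls.zero G _, fun e => absurd h0 e⟩
  by_cases h0' : t' = 0
  · exact ⟨by rw [h0', zero_mul, mul_zero, sub_zero]; exact Cls.zero G _, fun _ e => absurd h0' e⟩
  have hP := commPair hm h2 hs ht hnil hne
  have hP' := hP.swap hm h2 hs ht hnil
  obtain ⟨hsr, hsR, hsK⟩ := Cls.root hm hs hs' h0
  obtain ⟨htr, htR, htK⟩ := Cls.root hm ht ht' h0'
  have hn := nilp_of_cls hm h2 hk3 hs ht hs' ht' hnil
  obtain ⟨h1, h3, -⟩ := unip hm h2 hsr htr hn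
  have hne' : s' * t' - t' * s' ≠ 0 := by
    intro e
    rw [sub_eq_zero] at e
    obtain ⟨p1, -⟩ := prod_spaces hsr.rank htr.rank h1 h3
    obtain ⟨q1, -⟩ := prod_spaces htr.rank hsr.rank h3 h1
    rw [hsR, htK, ← hP.range_st] at p1
    rw [htR, hsK, ← hP.range_ts] at q1
    have hbot : LinearMap.range (s' * t') = ⊥ := by
      rw [eq_bot_iff, ← hP.disj]
      exact le_inf p1 (e ▸ q1)
    have hz : rk (s' * t') = 0 := by rw [rk, hbot, finrank_bot]
    have e1 := rk_mul_add s' t'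
    have e2 := rk_mul_add t' s'
    rw [htr.rank, htR, hsK, ← hP.range_ts] at e1
    rw [hsr.rank, hsR, htK, ← hP.range_st, ← e] at e2
    have := hP.rk_add
    have := hm.pos
    unfold rk at *
    omega
  have hQ := commPair hm h2 hsr htr hn hne'
  have hQ' := hQ.swap hm h2 hsr htr hn
  refine ⟨⟨hQ.root.sq, hQ.root.fam, le_of_eq ?_, le_of_eq ?_⟩, fun _ _ => hne'⟩
  · rw [hQ.range_eq, hQ.range_st, hQ.range_ts, hsR, hsK, htR, htK, ← hP.range_st, ← hP.range_ts,
      ← hP.range_eq]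
  · rw [hQ.ker_eq, hQ.ker_st, hQ'.ker_st, hsR, hsK, htR, htK, ← hP.ker_st, ← hP'.ker_st, ← hP.ker_eq]

/-- If one pair commutes, the classes commute. -/
theorem cls_commute (hm : MinRank G d) (h2 : (2 : k) ≠ 0) (hk3 : Nat.card k ≠ 3)
    {s t : Module.End k M} (hs : Root G d s) (ht : Root G d t) (hnil : IsNilpotent (t * s))
    (h0 : s * t = t * s) {s' t' : Module.End k M} (hs' : s' ∈ Cls G s) (ht' : t' ∈ Cls G t) :
    s' * t' = t' * s' := by
  by_contra hne
  rw [← sub_eq_zero] at hne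
  have hs0 : s' ≠ 0 := fun e => hne (by rw [e, zero_mul, mul_zero, sub_zero])
  have ht0 : t' ≠ 0 := fun e => hne (by rw [e, zero_mul, mul_zero, sub_zero])
  have h1 : s ∈ Cls G s' := (Cls.eq hm hs hs' hs0).symm ▸ hs.mem_cls
  have h2' : t ∈ Cls G t' := (Cls.eq hm ht ht' ht0).symm ▸ ht.mem_cls
  exact (comm_cls hm h2 hk3 (Cls.root hm hs hs' hs0).1 (Cls.root hm ht ht' ht0).1
    (nilp_of_cls hm h2 hk3 hs ht hs' ht' hnil) hne h1 h2').2 (hs.ne_zero hm) (ht.ne_zero hm)
    (sub_eq_zero.2 h0)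

/-- An opposite pair is not nilpotent. -/
theorem Opp.nonnil (hm : MinRank G d) {s q : Module.End k M} (h : Opp G d s q) :
    ¬ IsNilpotent (q * s) := by
  rintro ⟨n, hn⟩
  have : ∀ n, (q * s) ^ n * q = q := by
    intro n
    induction n with
    | zero => simp
    | succ n ih => rw [pow_succ, mul_assoc, h.qsq, ih]
  exact h.right.ne_zero hm (by rw [← this n, hn, zero_mul])

end CfsgLib.QuadPair
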