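import Cfsg.Agent.Lib.QuadPair.Basic

/-!
Unipotence of a pair of operators with nilpotent products, on the corner `c`.
-/

set_option autoImplicit false

namespace CfsgLib.QuadPair

variable {k : Type*} [Field k] {M : Type*} [AddCommGroup M] [Module k M]

/-- The descending filtration of `range c` by words in `s`, `t`. -/
def wordSpace (s t c : Module.End k M) : ℕ → Submodule k M
  | 0 => LinearMap.range c
  | n + 1 => (wordSpace s t c n).map s ⊔ (wordSpace s t c n).map t

variable {s t c : Module.End k M}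

theorem wordSpace_succ_le (hcs : c * s = s * c) (hct : c * t = t * c) :
    ∀ n, wordSpace s t c (n + 1) ≤ wordSpace s t c n
  | 0 => by
    refine sup_le ?_ ?_ <;> rintro m ⟨_, ⟨v, rfl⟩, rfl⟩
    · exact ⟨s v, LinearMap.congr_fun hcs v⟩
    · exact ⟨t v, LinearMap.congr_fun hct v⟩
  | n + 1 => sup_le_sup (Submodule.map_mono (wordSpace_succ_le hcs hct n))
      (Submodule.map_mono (wordSpace_succ_le hcs hct n))

theorem wordSpace_anti (hcs : c * s = s * c) (hct : c * t = t * c) :
    Antitone (wordSpace s t c) := antitone_nat_of_succ_le (wordSpace_succ_le hcs hct)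

theorem wordSpace_add_three (hss : s * s = 0) (htt : t * t = 0) (j : ℕ) :
    wordSpace s t c (j + 3) ≤ (wordSpace s t c (j + 1)).map (s * t + t * s) := by
  have hs0 : ∀ x, s (s x) = 0 := fun x => LinearMap.congr_fun hss x
  have ht0 : ∀ x, t (t x) = 0 := fun x => LinearMap.congr_fun htt x
  have hsV : ∀ y ∈ wordSpace s t c j, s y ∈ wordSpace s t c (j + 1) := fun y hy =>
    Submodule.mem_sup_left ⟨y, hy, rfl⟩
  have htV : ∀ y ∈ wordSpace s t c j, t y ∈ wordSpace s t c (j + 1) := fun y hy =>
    Submodule.mem_sup_right ⟨y, hy, rfl⟩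
  -- the two nonzero words of length two
  have hst : ∀ v ∈ wordSpace s t c (j + 1), s (t v) ∈ (wordSpace s t c (j + 1)).map (s * t + t * s) ∧
      t (s v) ∈ (wordSpace s t c (j + 1)).map (s * t + t * s) := by
    intro v hv
    obtain ⟨_, ⟨a, ha, rfl⟩, _, ⟨b, hb, rfl⟩, rfl⟩ := Submodule.mem_sup.1 hv
    constructor
    · exact ⟨s a, hsV a ha, by simp [hs0, ht0]⟩
    · exact ⟨t b, htV b hb, by simp [hs0, ht0]⟩
  show (wordSpace s t c (j + 2)).map s ⊔ (wordSpace s t c (j + 2)).map t ≤ _
  refine sup_le ?_ ?_ <;> rintro m ⟨w, hw, rfl⟩ <;>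
    obtain ⟨_, ⟨a, ha, rfl⟩, _, ⟨b, hb, rfl⟩, rfl⟩ := Submodule.mem_sup.1 hw
  · rw [map_add, hs0, zero_add]; exact (hst b hb).1
  · rw [map_add, ht0, add_zero]; exact (hst a ha).2

theorem wordSpace_eq_bot (hss : s * s = 0) (htt : t * t = 0) (hcs : c * s = s * c)
    (hct : c * t = t * c) {N : ℕ} (hN : (s * t + t * s) ^ N * c = 0) :
    wordSpace s t c (2 * N + 1) = ⊥ := by
  have : ∀ i, wordSpace s t c (2 * i + 1) ≤ (wordSpace s t c 1).map ((s * t + t * s) ^ i) := by
    intro i
    induction i with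
    | zero => rw [pow_zero, Module.End.one_eq_id, Submodule.map_id]
    | succ i ih =>
      refine (wordSpace_add_three hss htt (2 * i)).trans ?_
      refine (Submodule.map_mono ih).trans ?_
      rw [← Submodule.map_comp, pow_succ']
      rfl
  rw [eq_bot_iff]
  refine (this N).trans ((Submodule.map_mono (wordSpace_succ_le hcs hct 0)).trans ?_)
  rintro m ⟨_, ⟨v, rfl⟩, rfl⟩
  exact (Submodule.mem_bot k).2 (LinearMap.congr_fun hN v)

/-- Operators moving the filtration up by `i` steps. -/
def shiftOps (s t c : Module.End k M) (i : ℕ) : Submodule k (Module.End k M) where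
  carrier := {x | ∀ j, ∀ v ∈ wordSpace s t c j, x v ∈ wordSpace s t c (i + j)}
  zero_mem' := fun j v _ => Submodule.zero_mem _
  add_mem' := fun hx hy j v hv => Submodule.add_mem _ (hx j v hv) (hy j v hv)
  smul_mem' := fun a x hx j v hv => Submodule.smul_mem _ a (hx j v hv)

theorem shiftOps_mul {i i' : ℕ} {x y : Module.End k M} (hx : x ∈ shiftOps s t c i)
    (hy : y ∈ shiftOps s t c i') : x * y ∈ shiftOps s t c (i + i') := fun j v hv => by
  have := hx _ _ (hy j v hv)
  rwa [add_assoc]

theorem shiftOps_mono (hcs : c * s = s * c) (hct : c * t = t * c) {i i' : ℕ} (h : i' ≤ i) :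
    shiftOps s t c i ≤ shiftOps s t c i' := fun _ hx j v hv =>
  wordSpace_anti hcs hct (by omega) (hx j v hv)

theorem one_mem_shiftOps : (1 : Module.End k M) ∈ shiftOps s t c 0 := fun j v hv => by
  simpa using hv

theorem left_mem_shiftOps : s ∈ shiftOps s t c 1 := fun j v hv => by
  rw [add_comm]; exact Submodule.mem_sup_left ⟨v, hv, rfl⟩

theorem right_mem_shiftOps : t ∈ shiftOps s t c 1 := fun j v hv => by
  rw [add_comm]; exact Submodule.mem_sup_right ⟨v, hv, rfl⟩

/-- Units moving the filtration trivially up to `i` steps. -/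
def congrUnits (hcs : c * s = s * c) (hct : c * t = t * c) (i : ℕ) :
    Subgroup (LinearMap.GeneralLinearGroup k M) where
  carrier := {g | (g : Module.End k M) - 1 ∈ shiftOps s t c i ∧
    ((g⁻¹ : LinearMap.GeneralLinearGroup k M) : Module.End k M) - 1 ∈ shiftOps s t c i}
  one_mem' := by simp
  inv_mem' := fun {g} hg => ⟨hg.2, by rw [inv_inv]; exact hg.1⟩
  mul_mem' := by
    intro g h hg hh
    have : ∀ a b : Module.End k M, a - 1 ∈ shiftOps s t c i → b - 1 ∈ shiftOps s t c i →
        a * b - 1 ∈ shiftOps s t c i := by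
      intro a b ha hb
      rw [show a * b - 1 = (a - 1) + (b - 1) + (a - 1) * (b - 1) by noncomm_ring]
      exact add_mem (add_mem ha hb) (shiftOps_mono hcs hct (by omega) (shiftOps_mul ha hb))
    refine ⟨?_, ?_⟩
    · rw [Units.val_mul]; exact this _ _ hg.1 hh.1
    · rw [mul_inv_rev, Units.val_mul]; exact this _ _ hh.2 hg.2

theorem commutator_mem_congrUnits (hcs : c * s = s * c) (hct : c * t = t * c) {i i' : ℕ}
    {g h : LinearMap.GeneralLinearGroup k M} (hg : g ∈ congrUnits hcs hct i)
    (hh : h ∈ congrUnits hcs hct i') :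
    g * h * g⁻¹ * h⁻¹ ∈ congrUnits hcs hct (i + i') := by
  have key : ∀ g h : LinearMap.GeneralLinearGroup k M, ∀ i i' : ℕ, g ∈ congrUnits hcs hct i →
      h ∈ congrUnits hcs hct i' →
      ((g * h * g⁻¹ * h⁻¹ : LinearMap.GeneralLinearGroup k M) : Module.End k M) - 1 ∈
        shiftOps s t c (i + i') := by
    intro g h i i' hg hh
    have hzero : ∀ (x : LinearMap.GeneralLinearGroup k M) (j : ℕ),
        x ∈ congrUnits hcs hct j → (x : Module.End k M) ∈ shiftOps s t c 0 := fun x j hx => by
      rw [show (x : Module.End k M) = 1 + ((x : Module.End k M) - 1) by abel]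
      exact add_mem one_mem_shiftOps (shiftOps_mono hcs hct (Nat.zero_le _) hx.1)
    rw [show ((g * h * g⁻¹ * h⁻¹ : LinearMap.GeneralLinearGroup k M) : Module.End k M) - 1 =
      (((g : Module.End k M) - 1) * ((h : Module.End k M) - 1) -
        ((h : Module.End k M) - 1) * ((g : Module.End k M) - 1)) *
        (((g⁻¹ : LinearMap.GeneralLinearGroup k M) : Module.End k M) *
          ((h⁻¹ : LinearMap.GeneralLinearGroup k M) : Module.End k M)) by
      have h2 : (h : Module.End k M) * g * (((g⁻¹ : LinearMap.GeneralLinearGroup k M) : Module.End k M) *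
          ((h⁻¹ : LinearMap.GeneralLinearGroup k M) : Module.End k M)) = 1 := by
        rw [← Units.val_mul, ← Units.val_mul, ← Units.val_mul,
          show h * g * (g⁻¹ * h⁻¹) = 1 by group, Units.val_one]
      simp only [Units.val_mul]
      linear_combination (norm := noncomm_ring) h2]
    have h12 := shiftOps_mul hg.1 hh.1
    have h21 := shiftOps_mul hh.1 hg.1
    rw [add_comm i' i] at h21
    have := shiftOps_mul (sub_mem h12 h21)
      (shiftOps_mul (hzero _ i (inv_mem hg)) (hzero _ i' (inv_mem hh)))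
    simpa using this
  refine ⟨key g h i i' hg hh, ?_⟩
  rw [show (g * h * g⁻¹ * h⁻¹)⁻¹ = h * g * h⁻¹ * g⁻¹ by group, add_comm]
  exact key h g i' i hh hg

theorem mul_eq_zero_of_shiftOps {i : ℕ} (h : wordSpace s t c i = ⊥) {x : Module.End k M}
    (hx : x ∈ shiftOps s t c i) : x * c = 0 := by
  ext v
  have := hx 0 (c v) ⟨v, rfl⟩
  rw [add_zero, h, Submodule.mem_bot] at this
  exact this

end CfsgLib.QuadPair
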