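import Cfsg.Agent.Lib.QuadPair.Geometry

/-!
The commutator map onto the class of the commutator root.
-/

set_option autoImplicit false

namespace CfsgLib.QuadPair

universe u v

variable {k : Type u} [Field k] {M : Type v} [AddCommGroup M] [Module k M] [FiniteDimensional k M]
variable {G : Subgroup (LinearMap.GeneralLinearGroup k M)} {d : ℕ}

/-- Facts about an operator `u` in `uOps x` relative to an opposite `q` of `x`. -/
theorem level_one (hm : MinRank G d) (h2 : (2 : k) ≠ 0) {x q u : Module.End k M}
    (h : Opp G d x q) (hu : u ∈ uOps x) (huu : u * u = 0) (hfam : Fam G u) :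
    (x * q * u * (q * x)) * (x * q * u * (q * x)) = 0 ∧
    Fam G (x * q * u * (q * x)) ∧ x * q * u * (q * x) ∈ gOps x ∧
    Fam G (u - x * q * u * (q * x)) ∧
    rk ((1 - x * q) * u) + rk (u * (1 - q * x)) ≤ rk u := by
  have hxx := h.left.sq
  have hqq := h.right.sq
  set e := x * q with he
  set r := q * x with hr
  set γ := e * u * r with hγ
  have hγg : γ ∈ gOps x := ⟨by rw [hγ, he, mul_assoc, mul_assoc]; exact range_mul_le _ _,
    by rw [hγ, hr, ← mul_assoc (e * u)]; exact ker_le_ker_mul _ _⟩
  have hru : r * u = 0 := by rw [hr, mul_assoc, hu.1, mul_zero]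
  have hue : u * e = 0 := by rw [he, ← mul_assoc, hu.2.1, zero_mul]
  have hee : e * e = e := by rw [he, ← mul_assoc, h.sqs]
  have hdec : e * (u * (1 - r)) = u * (1 - r) := by
    ext m
    have hx0 : x ((1 - r) m) = 0 := by
      rw [← Module.End.mul_apply, mul_sub, mul_one, hr, ← mul_assoc, h.sqs, sub_self]; rfl
    obtain ⟨w, hw⟩ := hu.2.2 _ hx0
    show e (u ((1 - r) m)) = u ((1 - r) m)
    rw [← hw, ← Module.End.mul_apply e x, he, h.sqs]
  have hfd : e * u + u * r = u + γ := by
    rw [mul_sub, mul_one, mul_sub, ← mul_assoc, ← hγ] at hdec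
    linear_combination (norm := noncomm_ring) hdec
  -- the involution
  obtain ⟨gx, hgx, hgxv⟩ := h.left.fam 1
  obtain ⟨gq, hgq, hgqv⟩ := h.right.fam (-1)
  set g := gx * gq * gx with hg
  have hgG : g ∈ G := G.mul_mem (G.mul_mem hgx hgq) hgx
  have hgv : (g : Module.End k M) = 1 - (e + r) + x - q := by
    rw [hg, Units.val_mul, Units.val_mul, hgxv, hgqv]
    simp only [one_smul, neg_smul, mul_add, add_mul, mul_one, one_mul, mul_neg, neg_mul, hxx, h.sqs,
      ← he, ← hr]
    rw [show e * x = x by rw [he, h.sqs]]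
    abel
  have hi : ((g * g : LinearMap.GeneralLinearGroup k M) : Module.End k M) = 1 - (2 : k) • (e + r) := by
    rw [Units.val_mul, hgv]
    have a1 : e * x = x := by rw [he, h.sqs]
    have a2 : x * r = x := by rw [hr, ← mul_assoc, h.sqs]
    have a3 : r * q = q := by rw [hr, h.qsq]
    have a4 : q * e = q := by rw [he, ← mul_assoc, h.qsq]
    have a5 : r * r = r := by rw [hr, ← mul_assoc, h.qsq]
    have a6 : e * r = 0 := by rw [he, hr, mul_assoc, ← mul_assoc q, hqq, zero_mul, mul_zero]
    have a7 : r * e = 0 := by rw [he, hr, mul_assoc, ← mul_assoc x, hxx, zero_mul, mul_zero]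
    have a8 : x * e = 0 := by rw [he, ← mul_assoc, hxx, zero_mul]
    have a9 : r * x = 0 := by rw [hr, mul_assoc, hxx, mul_zero]
    have a10 : e * q = 0 := by rw [he, mul_assoc, hqq, mul_zero]
    have a11 : q * r = 0 := by rw [hr, ← mul_assoc, hqq, zero_mul]
    simp only [mul_add, add_mul, mul_sub, sub_mul, one_mul, mul_one, a1, a2, a3, a4, a5, a6, a7,
      a8, a9, a10, a11, hee, hxx, hqq, ← he, ← hr]
    rw [two_smul]
    abel
  have hiinv : ((g * g)⁻¹ : LinearMap.GeneralLinearGroup k M) = g * g := by
    rw [inv_eq_iff_mul_eq_one]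
    apply Units.ext
    rw [Units.val_mul, hi, Units.val_one]
    have a6 : e * r = 0 := by rw [he, hr, mul_assoc, ← mul_assoc q, hqq, zero_mul, mul_zero]
    have a7 : r * e = 0 := by rw [he, hr, mul_assoc, ← mul_assoc x, hxx, zero_mul, mul_zero]
    have a5 : r * r = r := by rw [hr, ← mul_assoc, h.qsq]
    simp only [mul_sub, sub_mul, one_mul, mul_one, smul_mul_assoc, mul_smul_comm, mul_add, add_mul,
      a5, a6, a7, hee, add_zero, zero_add, smul_smul]
    module
  have hconj : conjOp (g * g) u = -u + (2 : k) • γ := by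
    rw [conjOp, hiinv, hi]
    simp only [mul_sub, sub_mul, one_mul, mul_one, smul_mul_assoc, mul_smul_comm, add_mul, mul_add,
      hru, hue, zero_mul, ← hγ, smul_add, smul_zero, add_zero, zero_add]
    have h4 : r * u * r = 0 := by rw [hru, zero_mul]
    have h5 : r * u * e = 0 := by rw [hru, zero_mul]
    have h6 : e * u * e = 0 := by rw [mul_assoc, hue, mul_zero]
    simp only [hru, h4, h5, h6, smul_zero, add_zero, zero_add, smul_smul]
    linear_combination (norm := module) (-(2 : k)) • hfd
  have hconjf := hfam.conj (G.mul_mem hgG hgG)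
  have hprod : u * conjOp (g * g) u = 0 := by
    rw [hconj, mul_add, mul_neg, huu, mul_smul_comm, u_mul_g hu hγg]; simp
  have hγfam : Fam G γ := by
    have := hfam.add hconjf hprod
    rw [hconj, add_neg_cancel_left] at this
    exact this.of_smul h2
  have hγγ : γ * γ = 0 := u_mul_g (g_le_u hxx hγg) hγg
  refine ⟨hγγ, hγfam, hγg, hfam.sub hγfam (u_mul_g hu hγg), ?_⟩
  have e1 := rk_mul_add (1 - e) u
  have : LinearMap.range (u * (1 - r)) ≤ LinearMap.range u ⊓ LinearMap.ker (1 - e) := by
    refine le_inf (range_mul_le _ _) (mul_eq_zero_iff.1 ?_)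
    rw [sub_mul, one_mul, hdec, sub_self]
  have := Submodule.finrank_mono this
  unfold rk at *
  omega

/-- Every member of the class of the commutator is a commutator with `s`. -/
theorem comm_surj (hm : MinRank G d) (h2 : (2 : k) ≠ 0) {s t q : Module.End k M} (hs : Root G d s)
    (ht : Root G d t) (hnil : IsNilpotent (t * s)) (hne : s * t - t * s ≠ 0)
    (hopp : Opp G d (s * t - t * s) q) {y : Module.End k M} (hy : y ∈ Cls G (s * t - t * s)) :
    ∃ f ∈ Cls G t, s * f - f * s = y := by
  have hP := commPair hm h2 hs ht hnil hne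
  set x := s * t - t * s with hx
  have hxx := hopp.left.sq
  have hsU := hP.s_mem
  have htU := hP.t_mem
  obtain ⟨-, hγsF, hγsg, hs'F, hsrk⟩ := level_one hm h2 hopp hsU hs.sq hs.fam
  obtain ⟨-, hγtF, hγtg, ht'F, htrk⟩ := level_one hm h2 hopp htU ht.sq ht.fam
  set e := x * q with he
  set r := q * x with hr
  set γs := e * s * r with hγs
  set γt := e * t * r with hγt
  set s' := s - γs with hs'
  set t' := t - γt with ht'
  have hee : e * e = e := by rw [he, ← mul_assoc, hopp.sqs]
  have hex : e * x = x := by rw [he, hopp.sqs]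
  have hrq : r * q = q := by rw [hr, hopp.qsq]
  have hqe : q * e = q := by rw [he, ← mul_assoc, hopp.qsq]
  have hrr : r * r = r := by rw [hr, ← mul_assoc, hopp.qsq]
  have hxr : x * r = x := by rw [hr, ← mul_assoc, hopp.sqs]
  -- facts on `gOps x`
  have hey : ∀ {y : Module.End k M}, y ∈ gOps x → e * y = y := by
    intro y hy; ext m
    obtain ⟨w, hw⟩ := hy.1 ⟨m, rfl⟩
    rw [Module.End.mul_apply, ← hw, ← Module.End.mul_apply, hex]
  have hyr : ∀ {y : Module.End k M}, y ∈ gOps x → y * r = y := by
    intro y hy; ext m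
    have : x (r m - m) = 0 := by rw [map_sub, ← Module.End.mul_apply, hxr, sub_self]
    have := hy.2 this
    rwa [LinearMap.mem_ker, map_sub, sub_eq_zero] at this
  have hye : ∀ {y : Module.End k M}, y ∈ gOps x → y * e = 0 := by
    intro y hy; rw [he, ← mul_assoc, (g_le_u hxx hy).2.1, zero_mul]
  have hru : ∀ {u : Module.End k M}, u ∈ uOps x → r * u = 0 := by
    intro u hu; rw [hr, mul_assoc, hu.1, mul_zero]
  have hue : ∀ {u : Module.End k M}, u ∈ uOps x → u * e = 0 := by
    intro u hu; rw [he, ← mul_assoc, hu.2.1, zero_mul]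
  have hdec : ∀ {u : Module.End k M}, u ∈ uOps x → e * (u * (1 - r)) = u * (1 - r) := by
    intro u hu; ext m
    have hx0 : x ((1 - r) m) = 0 := by
      rw [← Module.End.mul_apply, mul_sub, mul_one, hxr, sub_self]; rfl
    obtain ⟨w, hw⟩ := hu.2.2 _ hx0
    show e (u ((1 - r) m)) = u ((1 - r) m)
    rw [← hw, ← Module.End.mul_apply, hex]
  have hs'U : s' ∈ uOps x := Submodule.sub_mem _ hsU (g_le_u hxx hγsg)
  have ht'U : t' ∈ uOps x := Submodule.sub_mem _ htU (g_le_u hxx hγtg)
  have hl1 : ∀ u : Module.End k M, e * (u - e * u * r) * r = 0 := by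
    intro u
    rw [mul_sub, sub_mul, ← mul_assoc e (e * u), ← mul_assoc e e, hee, mul_assoc (e * u) r r, hrr,
      sub_self]
  -- ranks
  have e1 : rk (s * t) ≤ rk ((1 - e) * t) := by
    have : s * t = s * ((1 - e) * t) := by
      rw [← mul_assoc, mul_sub, mul_one, hue hsU, sub_zero]
    rw [this]; exact rk_mul_le_right _ _
  have e2 : LinearMap.range (t * s) ≤ LinearMap.range (t * (1 - r)) := by
    have : t * s = t * (1 - r) * s := by rw [mul_assoc, sub_mul, one_mul, hru hsU, sub_zero]
    rw [this]; exact range_mul_le _ _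
  have e2' : rk (t * s) ≤ rk (t * (1 - r)) := Submodule.finrank_mono e2
  have e3 : rk (t * s) ≤ rk ((1 - e) * s) := by
    have : t * s = t * ((1 - e) * s) := by
      rw [← mul_assoc, mul_sub, mul_one, hue htU, sub_zero]
    rw [this]; exact rk_mul_le_right _ _
  have e4 : rk (s * t) ≤ rk (s * (1 - r)) := by
    have : s * t = s * (1 - r) * t := by rw [mul_assoc, sub_mul, one_mul, hru htU, sub_zero]
    rw [this]; exact rk_mul_le_left _ _
  have hrd := hP.rk_add
  rw [hs.rank] at hsrk
  rw [ht.rank] at htrk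
  have hB : LinearMap.range (t * (1 - r)) = LinearMap.range (t * s) :=
    (range_eq_of_le e2 (by omega)).symm
  have hA : LinearMap.ker ((1 - e) * t) = LinearMap.ker (s * t) := by
    refine (ker_eq_of_le (x := s * t) (s := (1 - e) * t) ?_ (by omega)).symm
    have : s * t = s * ((1 - e) * t) := by
      rw [← mul_assoc, mul_sub, mul_one, hue hsU, sub_zero]
    rw [this]; exact ker_le_ker_mul _ _
  have hsplit : ∀ {u : Module.End k M}, u ∈ uOps x →
      u - e * u * r = (1 - e) * u + u * (1 - r) := by
    intro u hu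
    have := hdec hu
    rw [mul_sub, mul_one, mul_sub, ← mul_assoc] at this
    linear_combination (norm := noncomm_ring) this
  have hrk' : ∀ {u : Module.End k M}, u ∈ uOps x → rk ((1 - e) * u) + rk (u * (1 - r)) ≤ d →
      rk (u - e * u * r) ≤ d := by
    intro u hu hle
    rw [hsplit hu]
    have := Submodule.finrank_mono (LinearMap.range_add_le ((1 - e) * u) (u * (1 - r)))
    have := Submodule.finrank_add_le_finrank_add_finrank (LinearMap.range ((1 - e) * u))
      (LinearMap.range (u * (1 - r)))
    unfold rk at *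
    omega
  have hs't' : s' * t' = s * t := by
    rw [hs', ht', mul_sub, sub_mul, sub_mul, g_mul_u hγsg htU, u_mul_g hsU hγtg,
      u_mul_g (g_le_u hxx hγsg) hγtg]
    simp
  have ht's' : t' * s' = t * s := by
    rw [hs', ht', mul_sub, sub_mul, sub_mul, g_mul_u hγtg hsU, u_mul_g htU hγsg,
      u_mul_g (g_le_u hxx hγtg) hγsg]
    simp
  have hsq' : ∀ {u γ : Module.End k M}, u ∈ uOps x → γ ∈ gOps x → u * u = 0 →
      (u - γ) * (u - γ) = 0 := by
    intro u γ hu hγ huu
    rw [mul_sub, sub_mul, sub_mul, huu, g_mul_u hγ hu, u_mul_g hu hγ, u_mul_g (g_le_u hxx hγ) hγ]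
    simp
  have hs'ne : s' ≠ 0 := fun e0 => hne (by rw [hx, ← hs't', ← ht's', e0, zero_mul, mul_zero, sub_zero])
  have ht'ne : t' ≠ 0 := fun e0 => hne (by rw [hx, ← hs't', ← ht's', e0, zero_mul, mul_zero, sub_zero])
  have hs'r : Root G d s' :=
    ⟨hsq' hsU hγsg hs.sq, hs'F, le_antisymm (hrk' hsU hsrk) (hm.min _ (hsq' hsU hγsg hs.sq) hs'F hs'ne)⟩
  have ht'r : Root G d t' :=
    ⟨hsq' htU hγtg ht.sq, ht'F, le_antisymm (hrk' htU htrk) (hm.min _ (hsq' htU hγtg ht.sq) ht'F ht'ne)⟩
  -- the level one element attached to `u'` and `y`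
  have hT : ∀ {u : Module.End k M}, Root G d u → u ∈ uOps x → e * u * r = 0 →
      ∀ {y : Module.End k M}, y ∈ Cls G x →
        u * q * y + y * q * u ∈ uOps x ∧ Fam G (u * q * y + y * q * u) ∧
        (u * q * y + y * q * u) * (u * q * y + y * q * u) = 0 := by
    intro u hu huU hul y hy
    have hyg := cls_le_g hy
    have huy : u * y = 0 := u_mul_g huU hyg
    have hyu : y * u = 0 := g_mul_u hyg huU
    have hyy : y * y = 0 := hy.1
    refine ⟨⟨?_, ?_, fun m hm' => ?_⟩, ?_, ?_⟩
    · rw [mul_add, ← mul_assoc, ← mul_assoc, huU.1, ← mul_assoc, ← mul_assoc, (g_le_u hxx hyg).1]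
      simp
    · rw [add_mul, mul_assoc _ y, (g_le_u hxx hyg).2.1, mul_assoc _ u, huU.2.1]; simp
    · rw [LinearMap.add_apply, Module.End.mul_apply (u * q) y, hyg.2 hm', map_zero, zero_add,
        mul_assoc, Module.End.mul_apply]
      exact hyg.1 ⟨_, rfl⟩
    · by_cases hy0 : y = 0
      · rw [hy0, mul_zero, zero_mul, zero_mul, add_zero]; exact fam_zero
      have hyr' := (Cls.root hm hopp.left hy hy0).1
      obtain ⟨gx, hgx, hgxv⟩ := hopp.left.fam 1
      obtain ⟨gx', hgx', hgxv'⟩ := hopp.left.fam (-1)
      obtain ⟨gq, hgq, hgqv⟩ := hopp.right.fam (-1)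
      obtain ⟨gq', hgq', hgqv'⟩ := hopp.right.fam 1
      set g := gx * gq * gx with hg
      have hgG : g ∈ G := G.mul_mem (G.mul_mem hgx hgq) hgx
      have hgv : (g : Module.End k M) = 1 - (e + r) + x - q := by
        rw [hg, Units.val_mul, Units.val_mul, hgxv, hgqv]
        simp only [one_smul, neg_smul, mul_add, add_mul, mul_one, one_mul, mul_neg, neg_mul, hxx,
          hopp.sqs, ← he, ← hr, hex]
        abel
      have hgiv : ((g⁻¹ : LinearMap.GeneralLinearGroup k M) : Module.End k M) = 1 - (e + r) - x + q := by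
        refine Units.inv_eq_of_mul_eq_one_right ?_
        rw [hgv]
        have a6 : e * r = 0 := by rw [he, hr, mul_assoc, ← mul_assoc q, hopp.right.sq, zero_mul, mul_zero]
        have a7 : r * e = 0 := by rw [he, hr, mul_assoc, ← mul_assoc x, hxx, zero_mul, mul_zero]
        have a8 : x * e = 0 := by rw [he, ← mul_assoc, hxx, zero_mul]
        have a9 : r * x = 0 := by rw [hr, mul_assoc, hxx, mul_zero]
        have a10 : e * q = 0 := by rw [he, mul_assoc, hopp.right.sq, mul_zero]
        have a11 : q * r = 0 := by rw [hr, ← mul_assoc, hopp.right.sq, zero_mul]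
        simp only [mul_add, add_mul, mul_sub, sub_mul, one_mul, mul_one, a6, a7, a8, a9, a10, a11,
          hee, hrr, hex, hxr, hrq, hqe, hxx, hopp.right.sq, ← he, ← hr]
        abel
      have hry : r * y = 0 := hru (g_le_u hxx hyg)
      have huq : e * (u * q) = 0 := by
        rw [← hrq, ← mul_assoc, ← mul_assoc, hul, zero_mul]
      have hwy : conjOp g u * y = u * q * y := by
        rw [conjOp, mul_assoc, hgiv]
        rw [show (1 - (e + r) - x + q) * y = q * y by
          simp only [add_mul, sub_mul, one_mul, hey hyg, hry, (g_le_u hxx hyg).1]; abel]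
        rw [hgv, mul_assoc, ← mul_assoc u q y, ← mul_assoc]
        congr 1
        have : q * (u * q) = 0 := by
          calc q * (u * q) = q * e * (u * q) := by rw [hqe]
            _ = 0 := by rw [mul_assoc, huq, mul_zero]
        simp only [add_mul, sub_mul, one_mul, huq, ← mul_assoc r u q, hru huU, ← mul_assoc x u q,
          huU.1, this, zero_mul]
        abel
      have hyw : y * conjOp g u = -(y * q * u) := by
        rw [conjOp, ← mul_assoc, ← mul_assoc, hgv,
          show y * (1 - (e + r) + x - q) = -(y * q) by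
            simp only [mul_add, mul_sub, mul_one, hye hyg, hyr hyg, (g_le_u hxx hyg).2.1]; abel,
          neg_mul, neg_mul, hgiv]
        congr 1
        have b1 : q * (u * r) = 0 := by
          rw [← hqe, mul_assoc, ← mul_assoc e u r, hul, mul_zero]
        have b2 : q * (u * q) = 0 := by
          calc q * (u * q) = q * e * (u * q) := by rw [hqe]
            _ = 0 := by rw [mul_assoc, huq, mul_zero]
        simp only [mul_add, mul_sub, mul_one, mul_assoc, hue huU, huU.2.1, b1, b2, mul_zero]
        abel
      have hnilw : IsNilpotent (y * conjOp g u) := by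
        refine ⟨2, ?_⟩
        rw [pow_two, hyw]
        simp only [neg_mul, mul_neg, neg_neg, mul_assoc]
        rw [← mul_assoc u y, huy, zero_mul, mul_zero, mul_zero]
      have := (unip hm h2 (hu.conj hgG) hyr' hnilw).2.2
      rwa [hwy, hyw, sub_neg_eq_add] at this
    · have a1 : u * q * y * (u * q * y) = 0 := by
        simp only [mul_assoc]; rw [← mul_assoc y u, hyu, zero_mul, mul_zero, mul_zero]
      have a2 : u * q * y * (y * q * u) = 0 := by
        simp only [mul_assoc]; rw [← mul_assoc y y, hyy, zero_mul, mul_zero, mul_zero]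
      have a3 : y * q * u * (u * q * y) = 0 := by
        simp only [mul_assoc]; rw [← mul_assoc u u, hu.sq, zero_mul, mul_zero, mul_zero]
      have a4 : y * q * u * (y * q * u) = 0 := by
        simp only [mul_assoc]; rw [← mul_assoc u y, huy, zero_mul, mul_zero, mul_zero]
      rw [mul_add, add_mul, add_mul, a1, a2, a3, a4]; simp
  -- the projection
  have hsx : LinearMap.range (s * t) ≤ LinearMap.range x ∧ LinearMap.range (t * s) ≤ LinearMap.range x := by
    rw [hP.range_eq]; exact ⟨le_sup_left, le_sup_right⟩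
  have hpe : s * t * q - t * s * q = e := by rw [← sub_mul, ← hx]
  have hPst : s * t * q * (s * t) = s * t ∧ s * t * q * (t * s) = 0 := by
    have hstg : s * t ∈ gOps x := u_mul_u hsU htU
    have htsg : t * s ∈ gOps x := u_mul_u htU hsU
    have key : ∀ w : Module.End k M, ∀ a b : Module.End k M, e * w = a + b →
        LinearMap.range a ≤ LinearMap.range (s * t) → LinearMap.range b ≤ LinearMap.range (t * s) →
        ∀ a' b', e * w = a' + b' → LinearMap.range a' ≤ LinearMap.range (s * t) →
        LinearMap.range b' ≤ LinearMap.range (t * s) → a = a' := by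
      intro w a b h ha hb a' b' h' ha' hb'
      ext m
      have hm' : a m - a' m = b' m - b m := by
        have := LinearMap.congr_fun (h.symm.trans h') m
        rw [LinearMap.add_apply, LinearMap.add_apply] at this
        rw [sub_eq_sub_iff_add_eq_add, this, add_comm]
      have : a m - a' m ∈ LinearMap.range (s * t) ⊓ LinearMap.range (t * s) :=
        ⟨Submodule.sub_mem _ (ha ⟨m, rfl⟩) (ha' ⟨m, rfl⟩),
          hm' ▸ Submodule.sub_mem _ (hb' ⟨m, rfl⟩) (hb ⟨m, rfl⟩)⟩
      rw [hP.disj, Submodule.mem_bot, sub_eq_zero] at this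
      exact this
    have hneg : ∀ w : Module.End k M, LinearMap.range (-(t * s * q * w)) ≤ LinearMap.range (t * s) := by
      intro w
      rw [LinearMap.range_neg, mul_assoc]; exact range_mul_le _ _
    refine ⟨?_, ?_⟩
    · exact key (s * t) _ (-(t * s * q * (s * t))) (by rw [← hpe]; noncomm_ring)
        (by rw [mul_assoc]; exact range_mul_le _ _) (hneg _) _ 0 (by rw [hey hstg, add_zero]) le_rfl
        (by simp)
    · exact key (t * s) _ (-(t * s * q * (t * s))) (by rw [← hpe]; noncomm_ring)
        (by rw [mul_assoc]; exact range_mul_le _ _) (hneg _) 0 (t * s) (by rw [hey htsg, zero_add])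
        (by simp) le_rfl
  obtain ⟨hP1, hP2⟩ := hPst
  have hΦ : ∀ {y : Module.End k M}, y ∈ Cls G x →
      s' * (t' * q * y + y * q * t') - (t' * q * y + y * q * t') * s' =
        s * t * q * y - y * q * (t * s) := by
    intro y hy
    have hyg := cls_le_g hy
    have a1 : s' * y = 0 := u_mul_g hs'U hyg
    have a2 : y * s' = 0 := g_mul_u hyg hs'U
    rw [mul_add, add_mul, ← hs't', ← ht's']
    have b1 : s' * (y * q * t') = 0 := by rw [← mul_assoc, ← mul_assoc, a1]; simp
    have b2 : t' * q * y * s' = 0 := by rw [mul_assoc, a2, mul_zero]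
    rw [b1, b2]
    simp only [mul_assoc]
    abel
  have hδ : ∀ {y : Module.End k M}, y ∈ Cls G x → s * t * q * y - y * q * (s * t) ∈ Cls G x := by
    intro y hy
    have hyg := cls_le_g hy
    obtain ⟨hTU, hTF, hTsq⟩ := hT ht'r ht'U (hl1 t) hy
    have hfam := Fam.comm hs'F hTF hs'r.sq hTsq (u_mul_u_mul_u hs'U hTU hs'U)
      (u_mul_u_mul_u hTU hs'U hTU)
    have hg : s' * (t' * q * y + y * q * t') - (t' * q * y + y * q * t') * s' ∈ gOps x :=
      Submodule.sub_mem _ (u_mul_u hs'U hTU) (u_mul_u hTU hs'U)
    rw [hΦ hy] at hfam hg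
    have heq : s * t * q * y - y * q * (t * s) = s * t * q * y - y * q * (s * t) + y := by
      rw [show t * s = s * t - x by rw [hx]; abel, mul_sub, mul_assoc y q x, ← hr, hyr hyg]
      abel
    rw [heq] at hfam hg
    have hg2 : s * t * q * y - y * q * (s * t) ∈ gOps x := by
      simpa using Submodule.sub_mem _ hg hyg
    have hfam2 := hfam.sub hy.2.1 (u_mul_g (g_le_u hxx hg) hyg)
    rw [add_sub_cancel_right] at hfam2
    exact ⟨u_mul_g (g_le_u hxx hg2) hg2, hfam2, hg2.1, hg2.2⟩
  have hcommP : ∀ {y : Module.End k M}, y ∈ Cls G x → s * t * q * y = y * q * (s * t) := by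
    intro y hy
    have hyg := cls_le_g hy
    have h1 := hδ hy
    have h2' := hδ h1
    have hδδ : s * t * q * (s * t * q * y - y * q * (s * t)) -
        (s * t * q * y - y * q * (s * t)) * q * (s * t) =
        s * t * q * y - (2 : k) • (s * t * q * (y * q * (s * t))) + y * q * (s * t) := by
      rw [mul_sub, sub_mul, sub_mul, ← mul_assoc (s * t * q) (s * t * q) y,
        show s * t * q * (s * t * q) = s * t * q by rw [← mul_assoc, hP1],
        show y * q * (s * t) * q * (s * t) = y * q * (s * t) by
          rw [mul_assoc (y * q) (s * t) q, mul_assoc (y * q), hP1], two_smul]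
      simp only [mul_assoc]
      abel
    rw [hδδ] at h2'
    set w1 := s * t * q * y - s * t * q * (y * q * (s * t)) with hw1
    set w2 := y * q * (s * t) - s * t * q * (y * q * (s * t)) with hw2
    have hF1 : Fam G w1 := by
      refine Fam.of_smul h2 ?_
      have := (Cls.add hxx h1 h2').2.1
      convert this using 1
      rw [hw1, two_smul, two_smul]; abel
    have hF2 : Fam G w2 := by
      refine Fam.of_smul h2 ?_
      have := (Cls.add hxx h2' (Cls.smul h1 (-1 : k))).2.1
      convert this using 1
      rw [hw2, two_smul, two_smul, neg_one_smul]; abel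
    have hg1 : ∀ w : Module.End k M, s * t * q * w * r = s * t * q * w → s * t * q * w ∈ gOps x := by
      intro w hw
      refine ⟨?_, ?_⟩
      · rw [mul_assoc (s * t) q w]; exact (range_mul_le _ _).trans hsx.1
      · rw [← hw, hr, ← mul_assoc]; exact ker_le_ker_mul _ _
    have hstr : s * t * r = s * t := hyr (u_mul_u hsU htU)
    have hgP : s * t * q * (y * q * (s * t)) ∈ gOps x := hg1 _ (by simp only [mul_assoc]; rw [← mul_assoc s t r, hstr])
    have hgy : s * t * q * y ∈ gOps x := hg1 _ (by simp only [mul_assoc]; rw [hyr hyg])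
    have hgM : y * q * (s * t) ∈ gOps x := ⟨by
      rw [mul_assoc]; exact (range_mul_le _ _).trans hyg.1, fun m hm' => by
      rw [LinearMap.mem_ker, Module.End.mul_apply,
        (u_mul_u hsU htU).2 hm', map_zero]⟩
    have hzero : ∀ w : Module.End k M, Fam G w → w ∈ gOps x → rk w ≤ rk (s * t) →
        rk w ≤ rk (t * s) → w = 0 := by
      intro w hw hg a b
      by_contra h0
      have := hm.min w (u_mul_g (g_le_u hxx hg) hg) hw h0
      have := hm.pos
      omega
    have heM : e * (y * q * (s * t)) = y * q * (s * t) := by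
      rw [mul_assoc y q, ← mul_assoc e y, hey hyg]
    have z1 : w1 = 0 := by
      refine hzero _ hF1 (Submodule.sub_mem _ hgy hgP) ?_ ?_
      · rw [hw1, ← mul_sub, mul_assoc (s * t) q]; exact rk_mul_le_left _ _
      · have : w1 = -(s * t * q * (y * q) * (t * s)) := by
          rw [show t * s = s * t - x by rw [hx]; abel, mul_sub, hw1]
          simp only [mul_assoc]
          rw [← hr, hyr hyg]; abel
        rw [this, rk, LinearMap.range_neg]; exact rk_mul_le_right _ _
    have z2 : w2 = 0 := by
      refine hzero _ hF2 (Submodule.sub_mem _ hgM hgP) ?_ ?_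
      · rw [hw2, ← mul_assoc (s * t * q) (y * q) (s * t), ← sub_mul]; exact rk_mul_le_right _ _
      · have : w2 = -(t * s * (q * (y * q * (s * t)))) := by
          have e1 : -(t * s * (q * (y * q * (s * t)))) =
              e * (y * q * (s * t)) - s * t * q * (y * q * (s * t)) := by
            rw [← hpe]; noncomm_ring
          rw [e1, heM]
        rw [this, rk, LinearMap.range_neg]; exact rk_mul_le_left _ _
    rw [hw1, sub_eq_zero] at z1
    rw [hw2, sub_eq_zero] at z2
    rw [z1, ← z2]
  -- assemble
  have hyg := cls_le_g hy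
  obtain ⟨hTU, hTF, hTsq⟩ := hT ht'r ht'U (hl1 t) hy
  set T := t' * q * y + y * q * t' with hTdef
  have hTy : s' * T - T * s' = y := by
    rw [hTdef, hΦ hy, hcommP hy, ← mul_sub, ← hx, mul_assoc, ← hr, hyr hyg]
  have hbt : LinearMap.range (t * (1 - r)) ≤ LinearMap.range t' := by
    have : t * (1 - r) = t' * (1 - r) := by
      rw [ht', sub_mul t γt, hγt, mul_assoc (e * t) r, mul_sub r, mul_one, hrr, sub_self, mul_zero,
        sub_zero]
    rw [this]; exact range_mul_le _ _
  have hTR : LinearMap.range T ≤ LinearMap.range t' := by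
    refine (LinearMap.range_add_le _ _).trans (sup_le ?_ ?_)
    · rw [mul_assoc]; exact range_mul_le _ _
    · have hMa : y * q * ((1 - e) * t) = 0 := by
        rw [← mul_assoc, mul_sub, mul_one, mul_assoc y q e, hqe, sub_self, zero_mul]
      have hMb : y * q * t' = y * q * (t * (1 - r)) := by
        rw [ht', hsplit htU, mul_add, hMa, zero_add]
      rw [hMb, range_mul, hB, ← range_mul]
      have : y * q * (t * s) = t * s * (-(-(q * y))) + 0 := by
        have h' := hcommP hy
        have : t * s * q * y = y * q * (t * s) := by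
          rw [show t * s = s * t - x by rw [hx]; abel, sub_mul, sub_mul, mul_sub, h']
          rw [← he, hey hyg, mul_assoc y q x, ← hr, hyr hyg]
        rw [← this]; simp [mul_assoc]
      rw [this, add_zero, neg_neg]
      exact (range_mul_le _ _).trans (hB ▸ hbt)
  have hTK : LinearMap.ker t' ≤ LinearMap.ker T := by
    intro m hm'
    have hat : (1 - e) * t' = (1 - e) * t := by
      rw [ht', mul_sub (1 - e), hγt, ← mul_assoc (1 - e) (e * t) r, ← mul_assoc (1 - e) e t,
        sub_mul 1 e e, one_mul, hee, sub_self, zero_mul, zero_mul, sub_zero]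
    have h1 : (s * t) m = 0 := by
      rw [← LinearMap.mem_ker, ← hA, ← hat]
      exact ker_le_ker_mul _ _ hm'
    rw [LinearMap.mem_ker, hTdef, LinearMap.add_apply, Module.End.mul_apply (y * q) t',
      LinearMap.mem_ker.1 hm', map_zero, add_zero]
    have h3 : (s * t) (q (y m)) = 0 := by
      calc (s * t) (q (y m)) = (s * t * q * y) m := rfl
        _ = 0 := by rw [hcommP hy, Module.End.mul_apply, h1, map_zero]
    rw [← LinearMap.mem_ker, ← hA, LinearMap.mem_ker] at h3
    have h4 : t' * q = (1 - e) * t * q := by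
      have h5 : e * t' * q = 0 := by rw [← hrq, ← mul_assoc, ht', hl1, zero_mul]
      rw [← hat, sub_mul (1 : Module.End k M), one_mul, sub_mul t', h5, sub_zero]
    rw [Module.End.mul_apply (t' * q) y, h4, Module.End.mul_apply]
    exact h3
  -- undo the translation
  have hγcls : γt ∈ Cls G x := ⟨u_mul_g (g_le_u hxx hγtg) hγtg, hγtF, hγtg.1, hγtg.2⟩
  obtain ⟨hSU, hSF, hSsq⟩ := hT hs'r hs'U (hl1 s) hγcls
  set S := s' * q * γt + γt * q * s' with hSdef
  have hSt : S * t' - t' * S = γt := by
    have a1 : γt * t' = 0 := g_mul_u hγtg ht'U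
    have a2 : t' * γt = 0 := u_mul_g ht'U hγtg
    rw [hSdef, add_mul, mul_add,
      show s' * q * γt * t' = 0 by rw [mul_assoc, a1, mul_zero],
      show t' * (γt * q * s') = 0 by rw [← mul_assoc, ← mul_assoc, a2]; simp, zero_add, add_zero,
      show γt * q * s' * t' = γt * q * (s * t) by rw [mul_assoc, hs't'],
      show t' * (s' * q * γt) = t * s * q * γt by rw [← ht's']; simp [mul_assoc],
      ← hcommP hγcls, ← sub_mul, ← sub_mul, ← hx, ← he, hey hγtg]
  obtain ⟨h, hhG, hhv⟩ := hSF 1
  have hconjh : ∀ {u : Module.End k M}, u ∈ uOps x → conjOp h u = u + (S * u - u * S) := by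
    intro u hu
    rw [conjOp_one_add hSsq hhv u, u_mul_u_mul_u hSU hu hSU]
    simp
  have hth : conjOp h t' = t := by
    rw [hconjh ht'U, hSt, ht', sub_add_cancel]
  refine ⟨conjOp h T, ⟨by rw [← conjOp_mul, hTsq, conjOp_zero], hTF.conj hhG, ?_, fun m hm' => ?_⟩, ?_⟩
  · rw [range_conjOp, ← hth, range_conjOp]; exact Submodule.map_mono hTR
  · rw [← hth] at hm'
    have hinj : ∀ v : M, (h : Module.End k M) v = 0 → v = 0 := fun v hv => by
      have := LinearMap.congr_fun (Units.inv_mul h) v
      rw [Module.End.mul_apply, hv, map_zero] at this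
      exact this.symm
    have : t' (((h⁻¹ : LinearMap.GeneralLinearGroup k M) : Module.End k M) m) = 0 := hinj _ hm'
    rw [LinearMap.mem_ker]
    show (h : Module.End k M) (T (((h⁻¹ : LinearMap.GeneralLinearGroup k M) : Module.End k M) m)) = 0
    rw [LinearMap.mem_ker.1 (hTK this), map_zero]
  · rw [hconjh hTU]
    have hg : S * T - T * S ∈ gOps x := Submodule.sub_mem _ (u_mul_u hSU hTU) (u_mul_u hTU hSU)
    have e1 : s * T = s' * T := by rw [hs', sub_mul, g_mul_u hγsg hTU, sub_zero]
    have e2 : T * s = T * s' := by rw [hs', mul_sub, u_mul_g hTU hγsg, sub_zero]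
    linear_combination (norm := noncomm_ring) u_mul_g hsU hg - g_mul_u hg hsU + e1 - e2 + hTy

end CfsgLib.QuadPair
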