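import Cfsg.Agent.Lib.QuadPair.Level

/-!
The algebra of a nilpotent pair of classes.
-/

set_option autoImplicit false

namespace CfsgLib.QuadPair

universe u v

variable {k : Type u} [Field k] {M : Type v} [AddCommGroup M] [Module k M]
variable {G : Subgroup (LinearMap.GeneralLinearGroup k M)} {d : ℕ}

/-- A space of operators closed under products with vanishing triple products. -/
structure CubeZero (N : Submodule k (Module.End k M)) : Prop where
  mul : ∀ a ∈ N, ∀ b ∈ N, a * b ∈ N
  triple : ∀ a ∈ N, ∀ b ∈ N, ∀ c ∈ N, a * b * c = 0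

theorem cubeZero_uOps {x : Module.End k M} (hxx : x * x = 0) : CubeZero (uOps x) :=
  ⟨fun _ ha _ hb => g_le_u hxx (u_mul_u ha hb), fun _ ha _ hb _ hc => u_mul_u_mul_u ha hb hc⟩

theorem cubeZero_span (S : Set (Module.End k M))
    (hmul : ∀ a ∈ S, ∀ b ∈ S, a * b ∈ Submodule.span k S)
    (htr : ∀ a ∈ S, ∀ b ∈ S, ∀ c ∈ S, a * b * c = 0) : CubeZero (Submodule.span k S) := by
  refine ⟨fun a ha b hb => ?_, fun a ha b hb c hc => ?_⟩
  · induction ha using Submodule.span_induction with
    | mem a ha =>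
      induction hb using Submodule.span_induction with
      | mem b hb => exact hmul a ha b hb
      | zero => rw [mul_zero]; exact Submodule.zero_mem _
      | add u v _ _ hu hv => rw [mul_add]; exact Submodule.add_mem _ hu hv
      | smul r u _ hu => rw [mul_smul_comm]; exact Submodule.smul_mem _ _ hu
    | zero => rw [zero_mul]; exact Submodule.zero_mem _
    | add u v _ _ hu hv => rw [add_mul]; exact Submodule.add_mem _ hu hv
    | smul r u _ hu => rw [smul_mul_assoc]; exact Submodule.smul_mem _ _ hu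
  · induction ha using Submodule.span_induction with
    | mem a ha =>
      induction hb using Submodule.span_induction with
      | mem b hb =>
        induction hc using Submodule.span_induction with
        | mem c hc => exact htr a ha b hb c hc
        | zero => rw [mul_zero]
        | add u v _ _ hu hv => rw [mul_add, hu, hv, add_zero]
        | smul r u _ hu => rw [mul_smul_comm, hu, smul_zero]
      | zero => rw [mul_zero, zero_mul]
      | add u v _ _ hu hv => rw [mul_add, add_mul, hu, hv, add_zero]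
      | smul r u _ hu => rw [mul_smul_comm, smul_mul_assoc, hu, smul_zero]
    | zero => rw [zero_mul, zero_mul]
    | add u v _ _ hu hv => rw [add_mul, add_mul, hu, hv, add_zero]
    | smul r u _ hu => rw [smul_mul_assoc, smul_mul_assoc, hu, smul_zero]

variable [FiniteDimensional k M]

/-- An operator of a class is a member of the space of the commutator. -/
theorem cls_subset_uOps (hm : MinRank G d) (h2 : (2 : k) ≠ 0) (hk3 : Nat.card k ≠ 3)
    {s t : Module.End k M} (hs : Root G d s) (ht : Root G d t) (hnil : IsNilpotent (t * s))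
    (hne : s * t - t * s ≠ 0) : Cls G s ⊆ uOps (s * t - t * s) := by
  intro a ha
  by_cases ha0 : a = 0
  · rw [ha0]; exact Submodule.zero_mem _
  obtain ⟨hx, hne'⟩ := comm_cls hm h2 hk3 hs ht hnil hne ha ht.mem_cls
  obtain ⟨-, hR, hK⟩ := Cls.root hm (commPair hm h2 hs ht hnil hne).root hx (hne' ha0 (ht.ne_zero hm))
  have := (commPair hm h2 (Cls.root hm hs ha ha0).1 ht
    (nilp_of_cls hm h2 hk3 hs ht ha ht.mem_cls hnil) (hne' ha0 (ht.ne_zero hm))).s_mem
  refine ⟨mul_eq_zero_iff.2 (hK ▸ mul_eq_zero_iff.1 this.1),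
    mul_eq_zero_iff.2 (hR ▸ mul_eq_zero_iff.1 this.2.1), fun m hm' => ?_⟩
  rw [← hR]
  exact this.2.2 m (LinearMap.mem_ker.1 (hK ▸ LinearMap.mem_ker.2 hm'))

theorem cls_subset_uOps' (hm : MinRank G d) (h2 : (2 : k) ≠ 0) (hk3 : Nat.card k ≠ 3)
    {s t : Module.End k M} (hs : Root G d s) (ht : Root G d t) (hnil : IsNilpotent (t * s))
    (hne : s * t - t * s ≠ 0) : Cls G t ⊆ uOps (s * t - t * s) := by
  intro b hb
  have hne2 : t * s - s * t ≠ 0 := fun e => hne (by rw [sub_eq_zero] at e ⊢; exact e.symm)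
  obtain ⟨h1, h2', h3⟩ := cls_subset_uOps hm h2 hk3 ht hs (isNilpotent_swap hnil) hne2 hb
  have he : t * s - s * t = -(s * t - t * s) := by abel
  rw [he] at h1 h2' h3
  refine ⟨neg_eq_zero.1 (by rw [← neg_mul]; exact h1), neg_eq_zero.1 (by rw [← mul_neg]; exact h2'),
    fun m hm' => ?_⟩
  rw [← LinearMap.range_neg]
  exact h3 m (by rw [LinearMap.neg_apply, hm', neg_zero])

theorem exists_cubeZero (hm : MinRank G d) (h2 : (2 : k) ≠ 0) (hk3 : Nat.card k ≠ 3)
    {s t : Module.End k M} (hs : Root G d s) (ht : Root G d t) (hnil : IsNilpotent (t * s)) :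
    ∃ N : Submodule k (Module.End k M), CubeZero N ∧ Cls G s ⊆ N ∧ Cls G t ⊆ N := by
  by_cases h0 : s * t = t * s
  · have hc : ∀ a ∈ Cls G s, ∀ b ∈ Cls G t, a * b = b * a := fun a ha b hb =>
      cls_commute hm h2 hk3 hs ht hnil h0 ha hb
    have hss : ∀ a ∈ Cls G s, ∀ a' ∈ Cls G s, a * a' = 0 := fun a ha a' ha' =>
      Cls.mul_eq_zero hs.sq ha ha'
    have htt : ∀ a ∈ Cls G t, ∀ a' ∈ Cls G t, a * a' = 0 := fun a ha a' ha' =>
      Cls.mul_eq_zero ht.sq ha ha'
    set ST : Set (Module.End k M) := {p | ∃ a ∈ Cls G s, ∃ b ∈ Cls G t, p = a * b} with hST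
    set S := Cls G s ∪ Cls G t ∪ ST with hS
    -- a product of two spanning elements
    have hmul : ∀ a ∈ S, ∀ b ∈ S, a * b = 0 ∨ a * b ∈ ST := by
      have q1 : ∀ a ∈ Cls G s, ∀ p ∈ ST, a * p = 0 ∧ p * a = 0 := by
        rintro a ha _ ⟨a', ha', b', hb', rfl⟩
        exact ⟨by rw [← mul_assoc, hss a ha a' ha', zero_mul],
          by rw [mul_assoc, ← hc a ha b' hb', ← mul_assoc, hss a' ha' a ha, zero_mul]⟩
      have q2 : ∀ b ∈ Cls G t, ∀ p ∈ ST, b * p = 0 ∧ p * b = 0 := by
        rintro b hb _ ⟨a', ha', b', hb', rfl⟩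
        exact ⟨by rw [← mul_assoc, ← hc a' ha' b hb, mul_assoc, htt b hb b' hb', mul_zero],
          by rw [mul_assoc, htt b' hb' b hb, mul_zero]⟩
      rintro a ((ha | ha) | ha) b ((hb | hb) | hb)
      · exact Or.inl (hss a ha b hb)
      · exact Or.inr ⟨a, ha, b, hb, rfl⟩
      · exact Or.inl (q1 a ha b hb).1
      · exact Or.inr ⟨b, hb, a, ha, (hc b hb a ha).symm⟩
      · exact Or.inl (htt a ha b hb)
      · exact Or.inl (q2 a ha b hb).1
      · exact Or.inl (q1 b hb a ha).2
      · exact Or.inl (q2 b hb a ha).2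
      · obtain ⟨a', ha', b', hb', rfl⟩ := ha
        exact Or.inl (by rw [mul_assoc, (q2 b' hb' b hb).1, mul_zero])
    refine ⟨Submodule.span k S, cubeZero_span S (fun a ha b hb => ?_) (fun a ha b hb c hc' => ?_),
      fun a ha => Submodule.subset_span (Or.inl (Or.inl ha)),
      fun a ha => Submodule.subset_span (Or.inl (Or.inr ha))⟩
    · rcases hmul a ha b hb with h | h
      · rw [h]; exact Submodule.zero_mem _
      · exact Submodule.subset_span (Or.inr h)
    · rcases hmul a ha b hb with h | h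
      · rw [h, zero_mul]
      · obtain ⟨a', ha', b', hb', e⟩ := h
        rcases hc' with (hc' | hc') | hc'
        · rw [e, mul_assoc, ← hc c hc' b' hb', ← mul_assoc, hss a' ha' c hc', zero_mul]
        · rw [e, mul_assoc, htt b' hb' c hc', mul_zero]
        · obtain ⟨a'', ha'', b'', hb'', rfl⟩ := hc'
          rw [e, ← mul_assoc, mul_assoc a' b' a'', ← hc a'' ha'' b' hb', ← mul_assoc,
            hss a' ha' a'' ha'', zero_mul, zero_mul]
  · have hne : s * t - t * s ≠ 0 := sub_ne_zero.2 h0
    exact ⟨_, cubeZero_uOps (commPair hm h2 hs ht hnil hne).root.sq,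
      cls_subset_uOps hm h2 hk3 hs ht hnil hne, cls_subset_uOps' hm h2 hk3 hs ht hnil hne⟩

end CfsgLib.QuadPair
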