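import Cfsg.Agent.Lib.QuadPair.Components

/-!
The group generated by a component of root subgroups is quasisimple.
-/

set_option autoImplicit false

namespace CfsgLib.QuadPair

open Cfsg
open scoped commutatorElement

section Conj

variable {Γ : Type*} [Group Γ]

theorem mem_conjBy {A : Subgroup Γ} {g x : Γ} : x ∈ conjBy A g ↔ g⁻¹ * x * g ∈ A := by
  rw [Subgroup.mem_map]
  constructor
  · rintro ⟨y, hy, rfl⟩; simpa [mul_assoc] using hy
  · intro h; exact ⟨_, h, by simp [mul_assoc]⟩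

theorem conj_mem_conjBy {A : Subgroup Γ} {a : Γ} (ha : a ∈ A) (g : Γ) : g * a * g⁻¹ ∈ conjBy A g :=
  ⟨a, ha, rfl⟩

theorem conjBy_comp (A : Subgroup Γ) (g h : Γ) : conjBy (conjBy A h) g = conjBy A (g * h) := by
  ext x; rw [mem_conjBy, mem_conjBy, mem_conjBy]; simp [mul_assoc]

theorem conjBy_unit (A : Subgroup Γ) : conjBy A 1 = A := by
  ext x; rw [mem_conjBy]; simp

theorem conjBy_self {A : Subgroup Γ} {a : Γ} (ha : a ∈ A) : conjBy A a = A := by
  ext x; rw [mem_conjBy]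
  refine ⟨fun h => ?_, fun h => A.mul_mem (A.mul_mem (A.inv_mem ha) h) ha⟩
  have := A.mul_mem (A.mul_mem ha h) (A.inv_mem ha)
  simpa [mul_assoc] using this

theorem conjBy_mono {A B : Subgroup Γ} (h : A ≤ B) (g : Γ) : conjBy A g ≤ conjBy B g :=
  Subgroup.map_mono h

theorem conjBy_iSup_le {T : Set (Subgroup Γ)} {g : Γ} (h : ∀ A ∈ T, conjBy A g ∈ T) :
    conjBy (⨆ A ∈ T, A) g ≤ ⨆ A ∈ T, A := by
  show Subgroup.map _ _ ≤ _
  rw [Subgroup.map_iSup]
  refine iSup_le fun A => ?_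
  rw [Subgroup.map_iSup]
  exact iSup_le fun hA => le_biSup (fun B : Subgroup Γ => B) (h A hA)

theorem conjBy_eq_of_le {U K : Subgroup Γ} (h : ∀ g ∈ K, conjBy U g ≤ U) :
    ∀ g ∈ K, conjBy U g = U := fun g hg =>
  le_antisymm (h g hg) (le_of_eq_of_le (by rw [conjBy_comp, mul_inv_cancel, conjBy_unit])
    (conjBy_mono (h g⁻¹ (K.inv_mem hg)) g))

theorem le_normalizer_of_conjBy {U K : Subgroup Γ} (h : ∀ g ∈ K, conjBy U g = U) :
    K ≤ Subgroup.normalizer (U : Set Γ) := by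
  intro g hg
  rw [Subgroup.mem_normalizer_iff]
  intro x
  refine ⟨fun hx => h g hg ▸ conj_mem_conjBy hx g, fun hx => ?_⟩
  have := h g hg ▸ hx
  rw [mem_conjBy] at this
  simpa [mul_assoc] using this

end Conj

universe u

variable {k : Type u} [Field k] {M : Type u} [AddCommGroup M] [Module k M] [FiniteDimensional k M]
variable {G : Subgroup (LinearMap.GeneralLinearGroup k M)} {d : ℕ}

omit [FiniteDimensional k M] in
theorem unipotentOn_mono {U V : Subgroup (LinearMap.GeneralLinearGroup k M)} (hVU : V ≤ U)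
    (h : IsUnipotentOn U) : IsUnipotentOn V := by
  rw [unipotentOn_iff] at h ⊢
  obtain ⟨n, hn⟩ := h
  exact ⟨n, fun l hl => hn l fun g hg => hVU (hl g hg)⟩

theorem unipotentOn_conjBy {U : Subgroup (LinearMap.GeneralLinearGroup k M)} (h : IsUnipotentOn U)
    (g : LinearMap.GeneralLinearGroup k M) : IsUnipotentOn (conjBy U g) := by
  rw [unipotentOn_iff] at h ⊢
  obtain ⟨n, hn⟩ := h
  refine ⟨n, fun l hl hlen => ?_⟩
  have key : ∀ l : List (LinearMap.GeneralLinearGroup k M),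
      (l.map op).prod = conjOp g ((l.map fun a => g⁻¹ * a * g).map op).prod := by
    intro l
    induction l with
    | nil => simp [conjOp]
    | cons a l ih =>
      simp only [List.map_cons, List.prod_cons]
      rw [conjOp_mul, ← ih, ← op_conj]
      congr 2
      group
  rw [key, hn _ ?_ (by rw [List.length_map, hlen]), conjOp_zero]
  intro a ha
  rw [List.mem_map] at ha
  obtain ⟨b, hb, rfl⟩ := ha
  exact mem_conjBy.1 (hl b hb)

/-- A unipotent normal subgroup of `H` generates one normalized by all that normalizes `H`. -/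
theorem unip_extend {V H K : Subgroup (LinearMap.GeneralLinearGroup k M)} (hVH : V ≤ H)
    (hV : IsUnipotentOn V) (hVn : ∀ h ∈ H, conjBy V h = V) (hK : ∀ g ∈ K, conjBy H g = H) :
    ∃ U : Subgroup (LinearMap.GeneralLinearGroup k M), V ≤ U ∧ U ≤ H ∧ IsUnipotentOn U ∧
      ∀ g ∈ K, conjBy U g = U := by
  set W : Set (Subgroup (LinearMap.GeneralLinearGroup k M)) := {A | ∃ g ∈ K, A = conjBy V g} with hW
  have hWH : ∀ A ∈ W, A ≤ H := by
    rintro _ ⟨g, hg, rfl⟩
    exact le_of_le_of_eq (conjBy_mono hVH g) (hK g hg)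
  have hn : ∀ A ∈ W, ∀ h ∈ H, conjBy A h = A := by
    rintro _ ⟨g, hg, rfl⟩ h hh
    have h' : g⁻¹ * h * g ∈ H := by
      have := conj_mem_conjBy hh g⁻¹
      rwa [hK g⁻¹ (K.inv_mem hg), inv_inv] at this
    rw [conjBy_comp, show h * g = g * (g⁻¹ * h * g) by group, ← conjBy_comp, hVn _ h']
  refine ⟨⨆ A ∈ W, A, le_biSup (fun A : Subgroup (LinearMap.GeneralLinearGroup k M) => A)
    ⟨1, K.one_mem, (conjBy_unit V).symm⟩, iSup₂_le hWH,
    CfsgLib.ThreeTrans.Unipotent.isUnipotentOn_iSup ?_ ?_, conjBy_eq_of_le fun g hg => conjBy_iSup_le ?_⟩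
  · intro A hA B hB
    obtain ⟨g, hg, rfl⟩ := hA
    obtain ⟨g', hg', rfl⟩ := hB
    exact CfsgLib.ThreeTrans.Unipotent.isUnipotentOn_sup (unipotentOn_conjBy hV g) (unipotentOn_conjBy hV g')
      (le_normalizer_of_conjBy fun h hh => hn _ ⟨g, hg, rfl⟩ h (hWH _ ⟨g', hg', rfl⟩ hh))
  · intro A hA B hB a ha
    rw [hn B hB a (hWH A hA ha)]
    exact hB
  · rintro _ ⟨h, hh, rfl⟩
    exact ⟨g * h, K.mul_mem hg hh, conjBy_comp V g h⟩

variable (hk2 : ringChar k ≠ 2) (hk3 : Nat.card k ≠ 3) (hG : IsQuadraticPair G)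
include hk2 hk3 hG

omit hk2 hk3 in
/-- An irreducible group has no unipotent normal subgroup. -/
theorem unipotent_normal_bot {U : Subgroup (LinearMap.GeneralLinearGroup k M)} (hun : IsUnipotentOn U)
    (hnorm : ∀ g ∈ G, conjBy U g = U) : U = ⊥ := by
  obtain ⟨n, hn⟩ := unipotentOn_iff.1 hun
  obtain ⟨v, hv0, hv⟩ : ∃ v : M, v ≠ 0 ∧ ∀ g ∈ U, op g v = 0 := by
    classical
    have hex : ∃ n, ∀ l : List (LinearMap.GeneralLinearGroup k M), (∀ g ∈ l, g ∈ U) → l.length = n →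
        (l.map op).prod = 0 := ⟨n, hn⟩
    obtain ⟨⟨w, hw⟩, -⟩ := hG.1
    have h0 : Nat.find hex ≠ 0 := fun e => hw (by
      have := Nat.find_spec hex [] (by simp) (by simp [e])
      simp at this
      exact (LinearMap.congr_fun this w))
    have := Nat.find_min hex (Nat.sub_one_lt h0)
    push Not at this
    obtain ⟨l, hl, hlen, hne⟩ := this
    obtain ⟨m, hm'⟩ : ∃ m, (l.map op).prod m ≠ 0 := by
      by_contra! h; exact hne (LinearMap.ext h)
    refine ⟨_, hm', fun g hg => ?_⟩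
    have := Nat.find_spec hex (g :: l) (by simpa [hg] using hl) (by simp [hlen]; omega)
    rw [List.map_cons, List.prod_cons] at this
    exact LinearMap.congr_fun this m
  let W' : Submodule k M :=
    { carrier := {m | ∀ g ∈ U, op g m = 0}
      zero_mem' := fun g _ => map_zero _
      add_mem' := fun ha hb g hg => by rw [map_add, ha g hg, hb g hg, add_zero]
      smul_mem' := fun c m hm g hg => by rw [map_smul, hm g hg, smul_zero] }
  have hinv : ∀ g ∈ G, ∀ w ∈ W', (g : M →ₗ[k] M) w ∈ W' := by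
    intro g hg w hw u hu
    have hu' : g⁻¹ * u * g ∈ U := mem_conjBy.1 (by rw [hnorm g hg]; exact hu)
    have h := hw _ hu'
    have e : op (g⁻¹ * u * g) = conjOp g⁻¹ (op u) := by rw [← op_conj, inv_inv]
    rw [e, conjOp, inv_inv] at h
    have h' := congrArg (g : Module.End k M) h
    rw [map_zero] at h'
    rw [← h']
    show _ = (g : Module.End k M) ((((g⁻¹ : LinearMap.GeneralLinearGroup k M) : Module.End k M)
      * op u * (g : Module.End k M)) w)
    rw [← Module.End.mul_apply (g : Module.End k M), ← mul_assoc, ← mul_assoc, Units.mul_inv, one_mul]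
    rfl
  rcases hG.1.2 W' hinv with h | h
  · exact absurd ((Submodule.eq_bot_iff _).1 h v hv) hv0
  · rw [eq_bot_iff]
    intro g hg
    rw [Subgroup.mem_bot, ← op_eq_zero]
    exact LinearMap.ext fun m => (h.ge trivial : m ∈ W') g hg

omit hk2 hk3 hG in
/-- The members of the component of `s₀`. -/
def part (G : Subgroup (LinearMap.GeneralLinearGroup k M)) (d : ℕ) (s₀ : Module.End k M) :
    Set (Subgroup (LinearMap.GeneralLinearGroup k M)) :=
  {A | ∃ σ ∈ minimalQuadraticElements G, Linked G d s₀ (op σ) ∧ A = sameActionSubgroup G σ}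

omit hk2 hk3 hG in
/-- The group generated by the component of `s₀`. -/
def gen (G : Subgroup (LinearMap.GeneralLinearGroup k M)) (d : ℕ) (s₀ : Module.End k M) :
    Subgroup (LinearMap.GeneralLinearGroup k M) :=
  ⨆ A ∈ part G d s₀, A

variable {s₀ : Module.End k M}

omit [FiniteDimensional k M] hk2 hk3 hG in
theorem E_le_gen {σ : LinearMap.GeneralLinearGroup k M} (hσ : σ ∈ minimalQuadraticElements G)
    (hl : Linked G d s₀ (op σ)) : sameActionSubgroup G σ ≤ gen G d s₀ :=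
  le_biSup (fun A : Subgroup (LinearMap.GeneralLinearGroup k M) => A) ⟨σ, hσ, hl, rfl⟩

theorem gen_le : gen G d s₀ ≤ G :=
  iSup₂_le fun _ ⟨_, hσ, _, e⟩ => e ▸ E_le hk2 hk3 hG hσ

omit hk2 hk3 hG in
theorem root_of_min (hm : MinRank G d) {x : Module.End k M} (hx : Root G d x)
    {σ : LinearMap.GeneralLinearGroup k M} (hσ : σ ∈ minimalQuadraticElements G) : Root G d (op σ) := by
  obtain ⟨τ, hτ, rfl⟩ := exists_min hm hx
  have h := root_of_mem hτ hσ
  rwa [hx.rank] at h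

theorem E_eq {σ a : LinearMap.GeneralLinearGroup k M} (hσ : σ ∈ minimalQuadraticElements G)
    (ha : a ∈ sameActionSubgroup G σ) (ha1 : a ≠ 1) :
    a ∈ minimalQuadraticElements G ∧ sameActionSubgroup G a = sameActionSubgroup G σ := by
  have hm := minRank_of_mem hσ
  have hs := root_of_mem hσ hσ
  have hc := (mem_E_iff hk2 hk3 hG hσ).1 ha
  have h0 : op a ≠ 0 := fun e => ha1 (op_eq_zero.1 e)
  have ha' := mem_of_root hm (Cls.root hm hs hc h0).1
  refine ⟨ha', ?_⟩
  ext y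
  rw [mem_E_iff hk2 hk3 hG ha', mem_E_iff hk2 hk3 hG hσ, Cls.eq hm hs hc h0]

theorem conjOp_E_self {σ g : LinearMap.GeneralLinearGroup k M} (hσ : σ ∈ minimalQuadraticElements G)
    (hg : g ∈ sameActionSubgroup G σ) : conjOp g (op σ) = op σ := by
  haveI := (Cfsg.Agent.S5059.result hk2 hk3 hG hσ).2.1
  have h := congrArg (fun u : sameActionSubgroup G σ => (u : LinearMap.GeneralLinearGroup k M))
    (mul_comm' (⟨g, hg⟩ : sameActionSubgroup G σ) ⟨σ, self_mem_E hk2 hk3 hG hσ⟩)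
  simp only [Subgroup.coe_mul] at h
  rw [← op_conj, h, mul_inv_cancel_right]

/-- Conjugation by the group of a component fixes the component. -/
theorem linked_conj {g : LinearMap.GeneralLinearGroup k M} (hg : g ∈ gen G d s₀) {s : Module.End k M}
    (hs : Linked G d s₀ s) : Linked G d s₀ (conjOp g s) := by
  let H : Subgroup (LinearMap.GeneralLinearGroup k M) :=
    { carrier := {g | g ∈ G ∧ Linked G d s₀ (conjOp g s₀)}
      one_mem' := ⟨G.one_mem, by rw [conjOp_one']⟩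
      mul_mem' := fun {a b} ha hb => ⟨G.mul_mem ha.1 hb.1, ha.2.trans (by
        rw [← conjOp_comp]; exact hb.2.conj ha.1)⟩
      inv_mem' := fun {a} ha => ⟨G.inv_mem ha.1, Linked.symm (by
        have := ha.2.conj (G.inv_mem ha.1)
        rwa [conjOp_comp, inv_mul_cancel, conjOp_one'] at this)⟩ }
  have hle : gen G d s₀ ≤ H := by
    refine iSup₂_le ?_
    rintro A ⟨σ, hσ, hl, rfl⟩ a ha
    have haG := E_le hk2 hk3 hG hσ ha
    have := hl.conj haG
    rw [conjOp_E_self hk2 hk3 hG hσ ha] at this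
    exact ⟨haG, hl.trans this.symm⟩
  obtain ⟨hgG, h⟩ := hle hg
  exact h.trans (hs.conj hgG)

theorem conj_part {A : Subgroup (LinearMap.GeneralLinearGroup k M)} (hA : A ∈ part G d s₀)
    {g : LinearMap.GeneralLinearGroup k M} (hg : g ∈ gen G d s₀) : conjBy A g ∈ part G d s₀ := by
  obtain ⟨σ, hσ, hl, rfl⟩ := hA
  obtain ⟨h1, h2⟩ := conj_E hk2 hk3 hG hσ (gen_le hk2 hk3 hG hg)
  exact ⟨_, h1, by rw [op_conj]; exact linked_conj hk2 hk3 hG hg hl, h2⟩

theorem gen_comm (hm : MinRank G d) (hs₀ : Root G d s₀) {s₁ : Module.End k M}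
    (h : ¬ Linked G d s₀ s₁) : ⁅gen G d s₀, gen G d s₁⁆ = ⊥ := by
  rw [Subgroup.commutator_eq_bot_iff_le_centralizer]
  refine iSup₂_le ?_
  rintro A ⟨σ, hσ, hl, rfl⟩
  rw [← Subgroup.commutator_eq_bot_iff_le_centralizer, Subgroup.commutator_comm,
    Subgroup.commutator_eq_bot_iff_le_centralizer]
  refine iSup₂_le ?_
  rintro B ⟨τ, hτ, hl', rfl⟩
  rw [← Subgroup.commutator_eq_bot_iff_le_centralizer]
  obtain ⟨h1, h2⟩ := comm_of_not_linked hk2 hk3 hG hm (root_of_min hm hs₀ hτ) (root_of_min hm hs₀ hσ)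
    fun e => h (hl.trans (e.symm.trans hl'.symm))
  exact commutator_eq_bot hk2 hk3 hG hτ hσ h1 h2

/-- The component is one class under its group. -/
theorem exists_conj (hm : MinRank G d) {σ τ : LinearMap.GeneralLinearGroup k M}
    (hσ : σ ∈ minimalQuadraticElements G) (hl : Linked G d s₀ (op σ))
    (hτ : τ ∈ minimalQuadraticElements G) (h : Linked G d (op σ) (op τ)) :
    ∃ g ∈ gen G d s₀, conjBy (sameActionSubgroup G σ) g = sameActionSubgroup G τ := by
  generalize hy : op τ = y at h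
  induction h generalizing τ with
  | refl =>
    obtain rfl := op_inj hy
    exact ⟨1, one_mem _, conjBy_unit _⟩
  | @tail b c hab hbc ih =>
    obtain ⟨ρ, hρ, rfl⟩ := exists_min hm hbc.1
    obtain ⟨g, hg, hge⟩ := ih hρ rfl
    subst hy
    have hρl : Linked G d s₀ (op ρ) := hl.trans hab
    have hτl : Linked G d s₀ (op τ) := hρl.tail hbc
    have hρ1 : ρ ≠ 1 := fun e => hbc.1.ne_zero hm (op_eq_zero.2 e)
    have hρE := self_mem_E hk2 hk3 hG hρ
    obtain ⟨b, hb, -, he, -⟩ := opp_conj hk2 hk3 hG hρ hτ hbc.2.2 hρE hρ1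
    refine ⟨ρ * b⁻¹ * g, mul_mem (mul_mem (E_le_gen hρ hρl hρE) (inv_mem (E_le_gen hτ hτl hb))) hg, ?_⟩
    rw [← conjBy_comp, hge, ← conjBy_comp, he, conjBy_comp, mul_inv_cancel, conjBy_unit]

theorem root_class (hm : MinRank G d) (hs₀ : Root G d s₀) :
    IsRootSubgroupClass ((fun A : Subgroup (LinearMap.GeneralLinearGroup k M) =>
      A.subgroupOf (gen G d s₀)) '' part G d s₀) := by
  set Z := gen G d s₀ with hZ
  refine ⟨⟨?_, ?_, ?_, ?_, ?_⟩, ?_, ?_⟩
  · rintro _ ⟨A, ⟨σ, hσ, -, rfl⟩, rfl⟩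
    haveI := (Cfsg.Agent.S5059.result hk2 hk3 hG hσ).2.1
    refine ⟨⟨fun x y => Subtype.ext (Subtype.ext ?_)⟩⟩
    have h := congrArg (fun u : sameActionSubgroup G σ => (u : LinearMap.GeneralLinearGroup k M))
      (mul_comm' (⟨((x : Z) : LinearMap.GeneralLinearGroup k M), Subgroup.mem_subgroupOf.1 x.2⟩ :
        sameActionSubgroup G σ) ⟨((y : Z) : LinearMap.GeneralLinearGroup k M), Subgroup.mem_subgroupOf.1 y.2⟩)
    simpa using h
  · rintro _ ⟨A, ⟨σ, hσ, hl, rfl⟩, rfl⟩ e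
    have h1 : (⟨σ, E_le_gen hσ hl (self_mem_E hk2 hk3 hG hσ)⟩ : Z) ∈
        (sameActionSubgroup G σ).subgroupOf Z :=
      Subgroup.mem_subgroupOf.2 (self_mem_E hk2 hk3 hG hσ)
    have h0 : (sameActionSubgroup G σ).subgroupOf Z = ⊥ := e
    rw [h0, Subgroup.mem_bot] at h1
    exact (root_of_min hm hs₀ hσ).ne_zero hm (op_eq_zero.2 (congrArg Subtype.val h1))
  · apply Subgroup.map_injective Z.subtype_injective
    rw [Subgroup.map_iSup, ← MonoidHom.range_eq_map, Subgroup.range_subtype]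
    refine le_antisymm (iSup_le fun A => ?_) ?_
    · rw [Subgroup.map_iSup]
      exact iSup_le fun _ => Subgroup.map_subtype_le _
    · refine iSup₂_le ?_
      intro A hA
      have hAZ : A ≤ Z := le_biSup (fun B : Subgroup (LinearMap.GeneralLinearGroup k M) => B) hA
      refine le_trans (le_of_eq (Subgroup.map_subgroupOf_eq_of_le hAZ).symm) ?_
      refine le_trans ?_ (le_iSup _ (A.subgroupOf Z))
      rw [Subgroup.map_iSup]
      exact le_iSup_of_le ⟨A, hA, rfl⟩ le_rfl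
  · rintro _ ⟨A, hA, rfl⟩ g
    exact ⟨_, conj_part hk2 hk3 hG hA g.2, (conjBy_subgroupOf g).symm⟩
  · rintro _ ⟨A, ⟨σ, hσ, hl, rfl⟩, rfl⟩ _ ⟨B, ⟨τ, hτ, hl', rfl⟩, rfl⟩
    have hAZ := E_le_gen hσ hl
    have hBZ := E_le_gen hτ hl'
    by_cases hnil : IsNilpotent (op τ * op σ)
    · by_cases h0 : op σ * op τ = op τ * op σ
      · exact Or.inl (comm_subgroupOf hAZ hBZ (commutator_eq_bot hk2 hk3 hG hσ hτ hnil h0))
      · obtain ⟨ξ, hξ, hξe, hL, h1, h3⟩ := commutator_case hk2 hk3 hG hσ hτ hnil (sub_ne_zero.2 h0)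
        obtain ⟨v, hv1, hv2⟩ := exists_common hk2 hk3 hG hm (root_of_min hm hs₀ hσ)
          (root_of_min hm hs₀ hτ) hnil (sub_ne_zero.2 h0)
        have hlξ : Linked G d s₀ (op ξ) := by rw [hξe]; exact (hl.tail hv1).tail hv2
        refine Or.inr (Or.inr (commutatorCase_subgroupOf _ hAZ hBZ (hL ▸ ⟨ξ, hξ, hlξ, rfl⟩) ?_
          (fun e he he1 => hL ▸ h1 e he he1) (fun f hf hf1 => hL ▸ h3 f hf hf1)))
        intro c hc x hx
        have hb := class_two_comm hk2 hk3 hG hσ hτ hnil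
        rw [Subgroup.commutator_eq_bot_iff_le_centralizer] at hb
        exact (Subgroup.mem_centralizer_iff.1
          (hb (Subgroup.commutator_mono le_sup_left le_sup_right hc)) x hx).symm
    · exact Or.inr (Or.inl (rankOne_subgroupOf hAZ hBZ (special_pair hk2 hk3 hG hσ hτ hnil).1))
  · obtain ⟨σ, hσ, he⟩ := exists_min hm hs₀
    exact ⟨_, _, ⟨σ, hσ, by rw [he], rfl⟩, rfl⟩
  · rintro _ ⟨A, ⟨σ, hσ, hl, rfl⟩, rfl⟩ _ ⟨B, ⟨τ, hτ, hl', rfl⟩, rfl⟩
    obtain ⟨g, hg, hge⟩ := exists_conj hk2 hk3 hG hm hσ hl hτ (hl.symm.trans hl')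
    exact ⟨⟨g, hg⟩, by rw [conjBy_subgroupOf]; exact congrArg (fun X => X.subgroupOf Z) hge.symm⟩

theorem gen_perfect (hm : MinRank G d) (hs₀ : Root G d s₀) : Group.IsPerfect ↥(gen G d s₀) := by
  rw [Subgroup.isPerfect_iff]
  refine le_antisymm ?_ (iSup₂_le ?_)
  · rw [Subgroup.commutator_le]
    intro a ha b hb
    exact mul_mem (mul_mem (mul_mem ha hb) (inv_mem ha)) (inv_mem hb)
  rintro A ⟨σ, hσ, hl, rfl⟩ a ha
  by_cases ha1 : a = 1
  · rw [ha1]; exact one_mem _
  obtain ⟨τ, hτ, hn⟩ := exists_partner hk2 hk3 hG hσ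
  have hlτ : Linked G d s₀ (op τ) := hl.tail ⟨root_of_min hm hs₀ hσ, root_of_min hm hs₀ hτ, hn⟩
  obtain ⟨b, hb, hopp, -, -⟩ := opp_conj hk2 hk3 hG hσ hτ hn ha ha1
  set hact := opp_act hk2 hk3 hG hopp with hhact
  set X := gen G d s₀
  set ρ := hact.rep with hρ
  have hup : ∀ c : k, ρ (up c) ∈ X := by
    intro c
    refine E_le_gen hσ hl ((mem_E_iff hk2 hk3 hG hσ).2 ?_)
    change ((hact.rep (up c) : LinearMap.GeneralLinearGroup k M) : Module.End k M) - 1 ∈ _
    rw [hact.rep_up, add_sub_cancel_left, LinearMap.toSpanSingleton_apply, smul_mul_assoc, hact.f_left.1]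
    exact Cls.smul ((mem_E_iff hk2 hk3 hG hσ).1 ha) c
  have hlo : ∀ c : k, ρ (lo c) ∈ X := by
    intro c
    refine E_le_gen hτ hlτ ((mem_E_iff hk2 hk3 hG hτ).2 ?_)
    change ((hact.rep (lo c) : LinearMap.GeneralLinearGroup k M) : Module.End k M) - 1 ∈ _
    rw [hact.rep_lo, add_sub_cancel_left, LinearMap.toSpanSingleton_apply, smul_mul_assoc, hact.f_left.2]
    exact Cls.smul ((mem_E_iff hk2 hk3 hG hτ).1 hb) c
  have htop : (⊤ : Subgroup (Matrix.SpecialLinearGroup (Fin 2) k)).map ρ ≤ X := by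
    rw [← CfsgLib.ThreeTrans.RankOneSL2.sup_eq_top (k := k), Subgroup.map_sup, sup_le_iff]
    constructor <;> rintro _ ⟨g, hg, rfl⟩
    · obtain ⟨c, rfl⟩ := CfsgLib.ThreeTrans.RankOneSL2.mem_lower.1 hg
      exact hlo c
    · obtain ⟨c, rfl⟩ := CfsgLib.ThreeTrans.RankOneSL2.mem_upper.1 hg
      exact hup c
  have hau : ρ (up 1) = a := by
    apply Units.ext
    rw [hact.rep_up, LinearMap.toSpanSingleton_apply, one_smul, hact.f_left.1, ← val_eq]
  obtain ⟨c, hc0, hc2⟩ := exists_sq_ne_one' (Ring.two_ne_zero hk2) hk3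
  have hperf := Matrix.SL2.commutator_eq_top hc0 hc2
  refine Subgroup.commutator_mono htop htop ?_
  rw [← Subgroup.map_commutator, ← commutator_def, hperf]
  exact ⟨up 1, trivial, hau⟩

/-- A normal subgroup meeting a rank one pair in a noncentral element contains the root. -/
theorem mem_of_pair {σ τ : LinearMap.GeneralLinearGroup k M} (hσ : σ ∈ minimalQuadraticElements G)
    (hτ : τ ∈ minimalQuadraticElements G) (hnil : ¬ IsNilpotent (op τ * op σ))
    {N : Subgroup (LinearMap.GeneralLinearGroup k M)}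
    (hN : ∀ g ∈ sameActionSubgroup G σ ⊔ sameActionSubgroup G τ, ∀ n ∈ N, g * n * g⁻¹ ∈ N)
    (hz : τ * σ⁻¹ ∈ N) : σ ∈ N := by
  have hm := minRank_of_mem hσ
  have h2 := Ring.two_ne_zero hk2
  obtain ⟨K, fK, aK, lam, κ, q, hact, -, -, hlam, hκ, hlq, hS, hQ⟩ :=
    split hm h2 hk3 (root_of_mem hσ hσ) (root_of_mem hσ hτ) hnil
  set ρ := hact.rep with hρ
  have hrange : ∀ g, ρ g ∈ sameActionSubgroup G σ ⊔ sameActionSubgroup G τ := by
    intro g
    have hg : ρ g ∈ (⊤ : Subgroup (Matrix.SpecialLinearGroup (Fin 2) K)).map ρ := ⟨g, trivial, rfl⟩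
    rw [← CfsgLib.ThreeTrans.RankOneSL2.sup_eq_top (k := K), Subgroup.map_sup] at hg
    refine SetLike.le_def.1 (sup_le ?_ ?_) hg <;> rintro _ ⟨y, hy, rfl⟩
    · obtain ⟨c, rfl⟩ := CfsgLib.ThreeTrans.RankOneSL2.mem_lower.1 hy
      refine Subgroup.mem_sup_right ((mem_E_iff hk2 hk3 hG hτ).2 ?_)
      change ((hact.rep (lo c) : LinearMap.GeneralLinearGroup k M) : Module.End k M) - 1 ∈ _
      rw [hact.rep_lo, add_sub_cancel_left]
      exact hQ c
    · obtain ⟨c, rfl⟩ := CfsgLib.ThreeTrans.RankOneSL2.mem_upper.1 hy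
      refine Subgroup.mem_sup_left ((mem_E_iff hk2 hk3 hG hσ).2 ?_)
      change ((hact.rep (up c) : LinearMap.GeneralLinearGroup k M) : Module.End k M) - 1 ∈ _
      rw [hact.rep_up, add_sub_cancel_left]
      exact hS c
  have hσu : ρ (up 1) = σ := by
    apply Units.ext
    rw [hact.rep_up, hact.one, hact.f_left.1, ← val_eq]
  have hτl : ρ (lo lam) = τ := by
    apply Units.ext
    rw [hact.rep_lo, hlq, ← val_eq]
  haveI : (N.comap ρ).Normal := ⟨fun n hn g => by
    rw [Subgroup.mem_comap, map_mul, map_mul, map_inv]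
    exact hN _ (hrange g) _ hn⟩
  have hmem : lo lam * (up 1)⁻¹ ∈ N.comap ρ := by
    rw [Subgroup.mem_comap, map_mul, map_inv, hσu, hτl]; exact hz
  have hnc : ¬ N.comap ρ ≤ Subgroup.center (Matrix.SpecialLinearGroup (Fin 2) K) := by
    intro h
    have hc := Subgroup.mem_center_iff.1 (h hmem) (up 1)
    have e : up 1 * lo lam = lo lam * up 1 := by
      calc up 1 * lo lam = up 1 * (lo lam * (up 1)⁻¹) * up 1 := by group
        _ = lo lam * (up 1)⁻¹ * up 1 * up 1 := by rw [hc]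
        _ = lo lam * up 1 := by group
    have := congrArg (fun X : Matrix.SpecialLinearGroup (Fin 2) K => mat X 0 0) e
    simp [mat_mul, up_coe, lo_coe, Matrix.mul_apply, Fin.sum_univ_two] at this
    exact hlam this
  obtain ⟨c, hc0, hc2⟩ := exists_sq_ne_one' h2 hk3
  have htop := normal_eq_top ⟨algebraMap k K c, fun e => hc0 ((algebraMap k K).injective (e.trans (map_zero _).symm)),
    fun e => hc2 ((algebraMap k K).injective (by rw [map_pow, e, map_one]))⟩ (N.comap ρ) hnc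
  have := htop.ge (Subgroup.mem_top (up (1 : K)))
  rwa [Subgroup.mem_comap, hσu] at this

theorem le_of_normal (hm : MinRank G d) (hs₀ : Root G d s₀)
    {N : Subgroup (LinearMap.GeneralLinearGroup k M)} (hNX : N ≤ gen G d s₀)
    (hN : ∀ g ∈ gen G d s₀, ∀ n ∈ N, g * n * g⁻¹ ∈ N)
    (hnc : ∃ n ∈ N, ∃ g ∈ gen G d s₀, n * g ≠ g * n) : gen G d s₀ ≤ N := by
  set X := gen G d s₀ with hX
  have hNn : ∀ g ∈ X, conjBy N g = N := conjBy_eq_of_le fun g hg => by
    rintro _ ⟨n, hn, rfl⟩; exact hN g hg n hn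
  obtain ⟨n, hn, σ, hσ, hl, a, ha, hna⟩ : ∃ n ∈ N, ∃ σ ∈ minimalQuadraticElements G,
      Linked G d s₀ (op σ) ∧ ∃ a ∈ sameActionSubgroup G σ, n * a ≠ a * n := by
    by_contra! hall
    obtain ⟨n, hn, g, hg, hne⟩ := hnc
    refine hne ?_
    have hle : X ≤ Subgroup.centralizer {n} := by
      refine iSup₂_le ?_
      rintro A ⟨σ, hσ, hl, rfl⟩ a ha
      rw [Subgroup.mem_centralizer_singleton_iff]
      exact (hall n hn σ hσ hl a ha).symm
    exact (Subgroup.mem_centralizer_singleton_iff.1 (hle hg)).symm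
  have hAX := E_le_gen hσ hl
  -- some conjugate is a partner
  obtain ⟨m, hmN, hpair⟩ : ∃ m ∈ N, ¬ IsNilpotent (op (m * σ * m⁻¹) * op σ) := by
    by_contra! hall
    set A := sameActionSubgroup G σ with hA
    set W : Set (Subgroup (LinearMap.GeneralLinearGroup k M)) := {B | ∃ m ∈ N, B = conjBy A m} with hW
    have hGN : ∀ m ∈ N, m ∈ G := fun m hm' => gen_le hk2 hk3 hG (hNX hm')
    have hu : IsUnipotentOn (⨆ B ∈ W, B) := by
      refine CfsgLib.ThreeTrans.Unipotent.isUnipotentOn_iSup ?_ ?_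
      · rintro _ ⟨g, hg, rfl⟩ _ ⟨h, hh, rfl⟩
        obtain ⟨a1, a2⟩ := conj_E hk2 hk3 hG hσ (hGN g hg)
        obtain ⟨b1, b2⟩ := conj_E hk2 hk3 hG hσ (hGN h hh)
        rw [hA, a2, b2, unipotent_iff hk2 hk3 hG a1 b1]
        have h1 := conjOp_nilpotent g (hall (g⁻¹ * h) (N.mul_mem (N.inv_mem hg) hh))
        rw [conjOp_mul, ← op_conj, ← op_conj] at h1
        have e : g * (g⁻¹ * h * σ * (g⁻¹ * h)⁻¹) * g⁻¹ = h * σ * h⁻¹ := by group
        rwa [e] at h1
      · rintro _ ⟨g, hg, rfl⟩ _ ⟨h, hh, rfl⟩ y ⟨y₀, hy₀, rfl⟩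
        have hmem : g * (y₀ * (g⁻¹ * h) * y₀⁻¹) ∈ N :=
          N.mul_mem hg (hN y₀ (hAX hy₀) _ (N.mul_mem (N.inv_mem hg) hh))
        refine ⟨_, hmem, ?_⟩
        show conjBy (conjBy A h) (g * y₀ * g⁻¹) = _
        rw [conjBy_comp, show g * y₀ * g⁻¹ * h = g * (y₀ * (g⁻¹ * h) * y₀⁻¹) * y₀ by group,
          ← conjBy_comp, conjBy_self hy₀]
    set U := ⨆ B ∈ W, B with hU
    have hAU : A ≤ U := le_biSup (fun B : Subgroup (LinearMap.GeneralLinearGroup k M) => B)
      ⟨1, N.one_mem, (conjBy_unit A).symm⟩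
    have hUn : ∀ g ∈ N, conjBy U g = U := conjBy_eq_of_le fun g hg => conjBy_iSup_le (by
      rintro _ ⟨h, hh, rfl⟩
      exact ⟨g * h, N.mul_mem hg hh, conjBy_comp A g h⟩)
    set V := U ⊓ N with hV
    have hVn : ∀ g ∈ N, conjBy V g = V := conjBy_eq_of_le fun g hg => le_inf
      (le_of_le_of_eq (conjBy_mono inf_le_left g) (hUn g hg))
      (le_of_le_of_eq (conjBy_mono inf_le_right g) (conjBy_self hg))
    obtain ⟨V₁, hVV₁, hV₁X, hV₁u, hV₁n⟩ :=
      unip_extend (inf_le_right : V ≤ N) (unipotentOn_mono inf_le_left hu) hVn hNn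
    set Y := ⨆ B ∈ quadraticRootSubgroups G, B with hY
    have hXY : X ≤ Y := iSup₂_le fun B ⟨τ, hτ, _, e⟩ =>
      le_biSup (fun B : Subgroup (LinearMap.GeneralLinearGroup k M) => B) ⟨τ, hτ, e⟩
    have hV₁Y : ∀ g ∈ Y, conjBy V₁ g = V₁ := by
      let H : Subgroup (LinearMap.GeneralLinearGroup k M) :=
        { carrier := {g | conjBy V₁ g = V₁}
          one_mem' := conjBy_unit _
          mul_mem' := fun {p p'} (hp : _ = _) (hp' : _ = _) => by
            show _ = _; rw [← conjBy_comp, hp', hp]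
          inv_mem' := fun {p} (hp : _ = _) => by
            show _ = _
            conv_lhs => rw [← hp]
            rw [conjBy_comp, inv_mul_cancel, conjBy_unit] }
      have : Y ≤ H := by
        refine iSup₂_le ?_
        rintro B ⟨τ, hτ, rfl⟩ g hg
        by_cases hlτ : Linked G d s₀ (op τ)
        · exact hV₁n g (E_le_gen hτ hlτ hg)
        · have hc := gen_comm hk2 hk3 hG hm hs₀ hlτ
          rw [Subgroup.commutator_eq_bot_iff_le_centralizer] at hc
          have hgτ : g ∈ gen G d (op τ) := E_le_gen hτ .refl hg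
          show conjBy V₁ g = V₁
          ext x
          rw [mem_conjBy]
          have key : ∀ v ∈ V₁, g * v = v * g := fun v hv =>
            Subgroup.mem_centralizer_iff.1 (hc (hNX (hV₁X hv))) g hgτ
          constructor
          · intro hx
            have h1 := key _ hx
            have : g⁻¹ * x * g = x := by
              calc g⁻¹ * x * g = g * (g⁻¹ * x * g) * g⁻¹ := by rw [h1, mul_inv_cancel_right]
                _ = x := by group
            rwa [this] at hx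
          · intro hx
            rwa [mul_assoc, ← key x hx, inv_mul_cancel_left]
      exact fun g hg => this hg
    have hYn : ∀ g ∈ G, conjBy Y g = Y := conjBy_eq_of_le fun g hg => conjBy_iSup_le (by
      rintro _ ⟨τ, hτ, rfl⟩
      obtain ⟨h1, h2⟩ := conj_E hk2 hk3 hG hτ hg
      exact ⟨_, h1, h2⟩)
    obtain ⟨V₂, hV₁V₂, -, hV₂u, hV₂n⟩ := unip_extend ((hV₁X.trans hNX).trans hXY) hV₁u hV₁Y hYn
    have hbot := unipotent_normal_bot hG hV₂u hV₂n
    have hc : n * a * n⁻¹ * a⁻¹ ∈ V := by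
      refine ⟨U.mul_mem ?_ (U.inv_mem (hAU ha)), ?_⟩
      · exact le_biSup (fun B : Subgroup (LinearMap.GeneralLinearGroup k M) => B)
          (⟨n, hn, rfl⟩ : conjBy A n ∈ W) (conj_mem_conjBy ha n)
      · have := N.mul_mem hn (hN a (hAX ha) n⁻¹ (N.inv_mem hn))
        simpa [mul_assoc] using this
    have h1 := hV₁V₂ (hVV₁ hc)
    rw [hbot, Subgroup.mem_bot, mul_inv_eq_one, mul_inv_eq_iff_eq_mul] at h1
    exact hna h1
  have hmX := hNX hmN
  have hmG := gen_le hk2 hk3 hG hmX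
  have hAN : sameActionSubgroup G σ ≤ N := by
    intro b hb
    by_cases hb1 : b = 1
    · rw [hb1]; exact N.one_mem
    obtain ⟨hbm, hbe⟩ := E_eq hk2 hk3 hG hσ hb hb1
    obtain ⟨hcm, hce⟩ := conj_E hk2 hk3 hG hbm hmG
    refine mem_of_pair hk2 hk3 hG hbm hcm (fun hnil => hpair ?_) (fun g hg => hN g ?_) ?_
    · have hm' := minRank_of_mem hbm
      refine nilp_of_cls hm' (Ring.two_ne_zero hk2) hk3 (root_of_mem hbm hbm) (root_of_mem hbm hcm)
        ((mem_E_iff hk2 hk3 hG hbm).1 (hbe ▸ self_mem_E hk2 hk3 hG hσ))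
        ((mem_E_iff hk2 hk3 hG hcm).1 ?_) hnil
      rw [← hce, hbe]
      exact conj_mem_conjBy (self_mem_E hk2 hk3 hG hσ) m
    · refine SetLike.le_def.1 (sup_le ?_ ?_) hg
      · rw [hbe]; exact hAX
      · rw [← hce, hbe]
        rintro _ ⟨y, hy, rfl⟩
        exact mul_mem (mul_mem hmX (hAX hy)) (inv_mem hmX)
    · have := N.mul_mem hmN (hN b (hAX hb) m⁻¹ (N.inv_mem hmN))
      simpa [mul_assoc] using this
  refine iSup₂_le ?_
  rintro B ⟨τ, hτ, hlτ, rfl⟩
  obtain ⟨g, hg, hge⟩ := exists_conj hk2 hk3 hG hm hσ hl hτ (hl.symm.trans hlτ)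
  rw [← hge]
  exact le_of_le_of_eq (conjBy_mono hAN g) (hNn g hg)

theorem gen_quasisimple (hm : MinRank G d) (hs₀ : Root G d s₀) : IsQuasisimple ↥(gen G d s₀) := by
  have hperf := gen_perfect hk2 hk3 hG hm hs₀
  refine ⟨hperf, ?_⟩
  set X := gen G d s₀ with hX
  have hne : Subgroup.center X ≠ ⊤ := by
    intro h
    obtain ⟨σ, hσ, he⟩ := exists_min hm hs₀
    have hc : commutator X = ⊥ := by
      rw [commutator_def, Subgroup.commutator_eq_bot_iff_le_centralizer, Subgroup.coe_top,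
        Subgroup.centralizer_univ, h]
    rw [hperf.commutator_eq_top] at hc
    have h1 : (⟨σ, E_le_gen hσ (he ▸ .refl) (self_mem_E hk2 hk3 hG hσ)⟩ : X) ∈ (⊥ : Subgroup X) :=
      hc ▸ Subgroup.mem_top _
    rw [Subgroup.mem_bot] at h1
    exact hs₀.ne_zero hm (he ▸ op_eq_zero.2 (congrArg Subtype.val h1))
  haveI : Nontrivial (X ⧸ Subgroup.center X) := by
    rw [← not_subsingleton_iff_nontrivial]
    exact fun h => hne (QuotientGroup.subgroup_eq_top_of_subsingleton _ h)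
  refine ⟨fun Q hQ => ?_⟩
  set N := Q.comap (QuotientGroup.mk' (Subgroup.center X)) with hNdef
  haveI hNnormal : N.Normal := hQ.comap _
  have hQN : Q = N.map (QuotientGroup.mk' (Subgroup.center X)) :=
    (Subgroup.map_comap_eq_self_of_surjective (QuotientGroup.mk'_surjective _) Q).symm
  by_cases hNZ : N ≤ Subgroup.center X
  · left
    rw [hQN, Subgroup.map_eq_bot_iff, QuotientGroup.ker_mk']
    exact hNZ
  · right
    obtain ⟨n, hn, g, hne'⟩ : ∃ n ∈ N, ∃ g : X, n * g ≠ g * n := by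
      by_contra! h
      exact hNZ fun n hn => Subgroup.mem_center_iff.2 fun g => (h n hn g).symm
    have hle := le_of_normal hk2 hk3 hG hm hs₀ (N := N.map X.subtype) (Subgroup.map_subtype_le N)
      (by rintro g hg _ ⟨p, hp, rfl⟩
          exact ⟨(⟨g, hg⟩ : X) * p * (⟨g, hg⟩ : X)⁻¹, hNnormal.conj_mem p hp _, rfl⟩)
      ⟨(n : LinearMap.GeneralLinearGroup k M), ⟨n, hn, rfl⟩, (g : LinearMap.GeneralLinearGroup k M), g.2,
        fun e => hne' (Subtype.ext e)⟩
    have hNtop : N = ⊤ := eq_top_iff.2 fun y _ => by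
      obtain ⟨p, hp, he⟩ := hle y.2
      rwa [← Subtype.ext he]
    rw [hQN, hNtop, Subgroup.map_top_of_surjective _ (QuotientGroup.mk'_surjective _)]

end CfsgLib.QuadPair
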