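import Cfsg.Agent.Lib.QuadPair.Corner
import Cfsg.Agent.Lib.QuadPair.Quasi

/-!
A quadratic operator is a sum of roots and an operator commuting with all roots.
-/

set_option autoImplicit false

namespace CfsgLib.QuadPair

open Cfsg

universe u

variable {k : Type u} [Field k] {M : Type u} [AddCommGroup M] [Module k M] [FiniteDimensional k M]
variable {G : Subgroup (LinearMap.GeneralLinearGroup k M)} {d : ℕ}

/-- A quadratic operator nilpotent against all roots. -/
def Sandwich (G : Subgroup (LinearMap.GeneralLinearGroup k M)) (d : ℕ) (x : Module.End k M) : Prop :=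
  x * x = 0 ∧ Fam G x ∧ ∀ t, Root G d t → IsNilpotent (t * x)

omit [FiniteDimensional k M] in
theorem Sandwich.conj {x : Module.End k M} (hx : Sandwich G d x)
    {g : LinearMap.GeneralLinearGroup k M} (hg : g ∈ G) : Sandwich G d (conjOp g x) := by
  refine ⟨by rw [← conjOp_mul, hx.1, conjOp_zero], hx.2.1.conj hg, fun t ht => ?_⟩
  have h := conjOp_nilpotent g (hx.2.2 (conjOp g⁻¹ t) (ht.conj (G.inv_mem hg)))
  rwa [conjOp_mul, conjOp_comp, mul_inv_cancel, conjOp_one'] at h

variable (hk2 : ringChar k ≠ 2) (hk3 : Nat.card k ≠ 3) (hG : IsQuadraticPair G)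
include hk2 hk3 hG

/-- An operator of rank at most `d` killed by the middle of every root triple vanishes. -/
theorem eq_zero_of_tut (hm : MinRank G d) {u : Module.End k M} (huu : u * u = 0) (huF : Fam G u)
    (hr : rk u ≤ d) (h : ∀ t, Root G d t → t * u * t = 0) : u = 0 := by
  by_contra h0
  have hur : Root G d u := ⟨huu, huF, le_antisymm hr (hm.min u huu huF h0)⟩
  obtain ⟨q, hq⟩ := exists_opposite hk2 hk3 hG hm hur
  exact hq.right.ne_zero hm (hq.qsq ▸ h q hq.right)

/-- A quadratic operator nilpotent against all roots commutes with all roots. -/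
theorem Sandwich.comm (hm : MinRank G d) {x s : Module.End k M} (hx : Sandwich G d x) (hs : Root G d s) :
    x * s = s * x := by
  have h2 := Ring.two_ne_zero hk2
  obtain ⟨hxx, hxF, -⟩ := id hx
  have key : ∀ y, Sandwich G d y → ∀ t, Root G d t → t * y * t = 0 := fun y hy t ht =>
    tst_quad hm h2 hy.1 hy.2.1 ht (hy.2.2 t ht)
  have hss := hs.sq
  have hsxs := key x hx s hs
  set a := x * s - s * x with ha
  set b := x * s * x with hb
  obtain ⟨g, hg, hgv⟩ := hxF 1
  obtain ⟨g', hg', hgv'⟩ := hxF (-1)
  obtain ⟨h, hh, hhv⟩ := hs.fam 1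
  -- products vanish
  have e1 : s * a = 0 := by
    rw [ha]; linear_combination (norm := noncomm_ring) hsxs - hss * x
  have e2 : a * s = 0 := by
    rw [ha]; linear_combination (norm := noncomm_ring) x * hss - hsxs
  have e3 : s * b = 0 := by
    rw [hb]; linear_combination (norm := noncomm_ring) hsxs * x
  have e4 : b * s = 0 := by
    rw [hb]; linear_combination (norm := noncomm_ring) x * hsxs
  have e5 : a * a = 0 := by
    rw [ha]
    linear_combination (norm := noncomm_ring) x * hsxs + hsxs * x - x * hss * x - s * hxx * s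
  have e6 : a * b = 0 := by
    rw [ha, hb]; linear_combination (norm := noncomm_ring) x * hsxs * x - s * hxx * s * x
  have e7 : b * a = 0 := by
    rw [ha, hb]; linear_combination (norm := noncomm_ring) x * s * hxx * s - x * hsxs * x
  have e8 : b * b = 0 := by
    rw [hb]; linear_combination (norm := noncomm_ring) x * s * hxx * s * x
  have c1 : conjOp g s = s + (a - b) := by
    rw [conjOp_one_add hxx hgv s, one_smul, mul_one, one_smul, ha, hb]; abel
  have c2 : conjOp g' s = s + (-a - b) := by
    rw [conjOp_one_add hxx hgv' s, neg_mul_neg, mul_one, one_smul, neg_one_smul, ha, hb]; abel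
  have hD1 : Fam G (a - b) := by
    have := (hs.conj hg).fam.sub hs.fam (by rw [c1, add_mul, hss, sub_mul, e2, e4]; simp)
    rwa [c1, add_sub_cancel_left] at this
  have hD2 : Fam G (-a - b) := by
    have := (hs.conj hg').fam.sub hs.fam (by rw [c2, add_mul, hss, sub_mul, neg_mul, e2, e4]; simp)
    rwa [c2, add_sub_cancel_left] at this
  have hp : (a - b) * (-a - b) = 0 := by
    linear_combination (norm := noncomm_ring) e7 - e6 - e5 + e8
  have hbF : Fam G b := by
    refine Fam.of_smul (a := -2) (neg_ne_zero.2 h2) ?_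
    have := hD1.add hD2 hp
    convert this using 1
    rw [neg_smul, two_smul]; abel
  have haF : Fam G a := by
    refine Fam.of_smul (a := 2) h2 ?_
    have := hD1.sub hD2 hp
    convert this using 1
    rw [two_smul]; abel
  -- conjugates of `x`
  have c3 : conjOp h x = x - a := by
    rw [conjOp_one_add hss hhv x, one_smul, mul_one, one_smul, hsxs, sub_zero, ha]; abel
  have c4 : conjOp g (conjOp h x) = x - a + (b + b) := by
    rw [c3, conjOp_one_add hxx hgv, one_smul, mul_one, one_smul]
    rw [ha, hb]
    linear_combination (norm := noncomm_ring) -(hxx * s) - s * hxx - hxx * x + hxx * s * x - x * s * hxx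
  have hta : ∀ t, Root G d t → t * a * t = 0 := fun t ht => by
    have h1 := key x hx t ht
    have h2' := key _ (hx.conj hh) t ht
    rw [c3, mul_sub, sub_mul, h1, zero_sub, neg_eq_zero] at h2'
    exact h2'
  have htb : ∀ t, Root G d t → t * b * t = 0 := fun t ht => by
    have h2' := key _ ((hx.conj hh).conj hg) t ht
    rw [c4] at h2'
    simp only [mul_add, add_mul, mul_sub, sub_mul, key x hx t ht, hta t ht, sub_zero, zero_add] at h2'
    have h3 : (2 : k) • (t * b * t) = 0 := by rw [two_smul]; exact h2'
    exact (smul_eq_zero.1 h3).resolve_left h2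
  have hb0 : b = 0 := eq_zero_of_tut hk2 hk3 hG hm e8 hbF
    (((rk_mul_le_left (x * s) x).trans (rk_mul_le_right x s)).trans hs.rank.le) htb
  have hra : rk a ≤ d := by
    have h1 : rk a ≤ rk (x * s) + rk (s * x) := by
      refine le_trans (Submodule.finrank_mono (t := LinearMap.range (x * s) ⊔ LinearMap.range (s * x)) ?_)
        (Submodule.finrank_add_le_finrank_add_finrank _ _)
      rintro m ⟨v, rfl⟩
      rw [ha, LinearMap.sub_apply]
      exact Submodule.sub_mem _ (Submodule.mem_sup_left ⟨v, rfl⟩) (Submodule.mem_sup_right ⟨v, rfl⟩)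
    have h3 := rk_mul_add x s
    have h4 : rk (s * x) ≤ Module.finrank k ↥(LinearMap.range s ⊓ LinearMap.ker x) :=
      Submodule.finrank_mono (le_inf (range_mul_le s x)
        (mul_eq_zero_iff.1 (by rw [← mul_assoc]; exact hb0)))
    rw [hs.rank] at h3
    omega
  exact sub_eq_zero.1 (eq_zero_of_tut hk2 hk3 hG hm e5 haF hra hta)

/-- A quadratic operator not commuting with all roots splits off a root. -/
theorem exists_root_part (hm : MinRank G d) {x : Module.End k M} (hxx : x * x = 0) (hxF : Fam G x)
    (hne : ∃ s, Root G d s ∧ x * s ≠ s * x) :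
    ∃ q, Root G d q ∧ q * (x - q) = 0 ∧ (x - q) * q = 0 ∧ (x - q) * (x - q) = 0 ∧ Fam G (x - q) ∧
      rk (x - q) < rk x := by
  obtain ⟨s, hs, hne⟩ := hne
  obtain ⟨t, ht, hn⟩ : ∃ t, Root G d t ∧ ¬ IsNilpotent (t * x) := by
    by_contra! hall
    exact hne (Sandwich.comm hk2 hk3 hG hm ⟨hxx, hxF, hall⟩ hs)
  obtain ⟨f, hff, hft, hfx, -, hqF, hq0, hqr⟩ :=
    corner (Ring.two_ne_zero hk2) hk3 ht.sq ht.fam hxx hxF (fun e => hn (isNilpotent_swap e))
  have hqq : x * f * (x * f) = 0 := by
    linear_combination (norm := noncomm_ring) x * hfx * f + hxx * f * f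
  have hxq : x * (x * f) = 0 := by rw [← mul_assoc, hxx, zero_mul]
  have hqx : x * f * x = 0 := by linear_combination (norm := noncomm_ring) x * hfx + hxx * f
  have hqroot : Root G d (x * f) := ⟨hqq, hqF,
    le_antisymm ((hqr.trans (rk_mul_le_left t f)).trans ht.rank.le) (hm.min _ hqq hqF hq0)⟩
  refine ⟨x * f, hqroot, ?_, ?_, ?_, hxF.sub hqF hxq, ?_⟩
  · rw [mul_sub, hqx, hqq, sub_zero]
  · rw [sub_mul, hxq, hqq, sub_zero]
  · rw [sub_mul, mul_sub, mul_sub, hxx, hxq, hqx, hqq]; simp
  · have hle : LinearMap.range (x - x * f) ≤ LinearMap.range x := by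
      rintro m ⟨v, rfl⟩
      exact ⟨v - f v, by rw [map_sub]; rfl⟩
    refine lt_of_le_of_ne (Submodule.finrank_mono hle) fun e => hq0 ?_
    have heq := Submodule.eq_of_le_of_finrank_le hle e.ge
    have h0 : f * (x - x * f) = 0 := by
      linear_combination (norm := noncomm_ring) hfx - hfx * f - x * hff
    ext m
    obtain ⟨v, hv⟩ := (heq.ge ⟨f m, rfl⟩ : x (f m) ∈ LinearMap.range (x - x * f))
    have h1 : f (x (f m)) = 0 := by rw [← hv, ← Module.End.mul_apply, h0, LinearMap.zero_apply]
    rw [← Module.End.mul_apply, hfx, Module.End.mul_apply, ← Module.End.mul_apply f f, hff] at h1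
    exact h1

omit hk2 hk3 hG in
theorem comm_of_op {g h : LinearMap.GeneralLinearGroup k M} (e : op g * op h = op h * op g) :
    g * h = h * g := by
  apply Units.ext
  rw [Units.val_mul, Units.val_mul, val_eq g, val_eq h]
  linear_combination (norm := noncomm_ring) e

omit hk2 hk3 hG in
theorem op_comm {g h : LinearMap.GeneralLinearGroup k M} (e : g * h = h * g) :
    op g * op h = op h * op g := by
  have := congrArg (fun u : LinearMap.GeneralLinearGroup k M => (u : Module.End k M)) e
  simp only [Units.val_mul] at this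
  rw [val_eq g, val_eq h] at this
  linear_combination (norm := noncomm_ring) this

/-- An element commuting with all roots centralizes the root subgroups. -/
theorem mem_centralizer_roots (hm : MinRank G d) {x : Module.End k M} (hd : Root G d x)
    {g : LinearMap.GeneralLinearGroup k M} (hg : ∀ s, Root G d s → op g * s = s * op g) :
    g ∈ Subgroup.centralizer
      ((⨆ A ∈ quadraticRootSubgroups G, A : Subgroup (LinearMap.GeneralLinearGroup k M)) :
        Set (LinearMap.GeneralLinearGroup k M)) := by
  rw [Subgroup.mem_centralizer_iff]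
  intro y hy
  have hle : (⨆ A ∈ quadraticRootSubgroups G, A) ≤ Subgroup.centralizer {g} := by
    refine iSup₂_le ?_
    rintro A ⟨σ, hσ, rfl⟩ b hb
    rw [Subgroup.mem_centralizer_singleton_iff]
    refine comm_of_op ?_
    by_cases hb0 : op b = 0
    · rw [hb0, mul_zero, zero_mul]
    · exact (hg _ (Cls.root hm (root_of_min hm hd hσ) ((mem_E_iff hk2 hk3 hG hσ).1 hb) hb0).1).symm
  exact Subgroup.mem_centralizer_singleton_iff.1 (hle hy)

/-- Every quadratic element lies in the root subgroups times their centralizer. -/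
theorem mem_cocentral (hm : MinRank G d) {y : Module.End k M} (hy : Root G d y)
    {g : LinearMap.GeneralLinearGroup k M} (hg : g ∈ quadraticElements G) :
    g ∈ (⨆ A ∈ quadraticRootSubgroups G, A) ⊔
      (G ⊓ Subgroup.centralizer
        ((⨆ A ∈ quadraticRootSubgroups G, A : Subgroup (LinearMap.GeneralLinearGroup k M)) :
          Set (LinearMap.GeneralLinearGroup k M))) := by
  obtain ⟨hgg, -, hgF⟩ := mem_quadraticElements.1 hg
  have hgG := hg.1
  suffices H : ∀ n, ∀ g ∈ G, op g * op g = 0 → Fam G (op g) → rk (op g) = n →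
      g ∈ (⨆ A ∈ quadraticRootSubgroups G, A) ⊔ (G ⊓ Subgroup.centralizer
        ((⨆ A ∈ quadraticRootSubgroups G, A : Subgroup (LinearMap.GeneralLinearGroup k M)) :
          Set (LinearMap.GeneralLinearGroup k M))) from H _ g hgG hgg hgF rfl
  intro n
  induction n using Nat.strong_induction_on with
  | _ n ih =>
    intro g hgG hgg hgF hn
    by_cases hc : ∀ s, Root G d s → op g * s = s * op g
    · exact Subgroup.mem_sup_right ⟨hgG, mem_centralizer_roots hk2 hk3 hG hm hy hc⟩
    · push Not at hc
      obtain ⟨q, hq, h1, h2, h3, h4, h5⟩ := exists_root_part hk2 hk3 hG hm hgg hgF hc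
      obtain ⟨σ, hσ, he⟩ := exists_min hm hq
      obtain ⟨h, hh⟩ := exists_elem h3
      have hhe : op h = op g - q := by rw [op, hh, add_sub_cancel_left]
      have hprod : g = σ * h := by
        apply Units.ext
        rw [Units.val_mul, val_eq g, val_eq σ, hh, he]
        linear_combination (norm := noncomm_ring) -h1
      rw [hprod]
      refine mul_mem (Subgroup.mem_sup_left (le_biSup (fun A : Subgroup (LinearMap.GeneralLinearGroup k M) => A)
        (⟨σ, hσ, rfl⟩ : sameActionSubgroup G σ ∈ quadraticRootSubgroups G) (self_mem_E hk2 hk3 hG hσ))) ?_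
      exact ih _ (hn ▸ h5) h (fam_mem h4 hh) (by rw [hhe]; exact h3) (by rw [hhe]; exact h4) (by rw [hhe])

end CfsgLib.QuadPair

namespace CfsgLib.QuadPair

open Cfsg

universe w

variable {k : Type w} [Field k] {M : Type w} [AddCommGroup M] [Module k M]
variable {G : Subgroup (LinearMap.GeneralLinearGroup k M)}

/-- The least rank is attained. -/
theorem exists_minimal (h : (quadraticElements G).Nonempty) : (minimalQuadraticElements G).Nonempty := by
  classical
  have hex : ∃ n, ∃ σ ∈ quadraticElements G, commutatorRank σ = n := ⟨_, _, h.choose_spec, rfl⟩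
  obtain ⟨σ, hσ, he⟩ := Nat.find_spec hex
  exact ⟨σ, hσ, fun τ hτ => he ▸ Nat.find_min' hex ⟨τ, hτ, rfl⟩⟩

end CfsgLib.QuadPair
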