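import Cfsg.Agent.Lib.QuadPair.Bridge

/-!
Pairs of root subgroups of a quadratic pair.
-/

set_option autoImplicit false

namespace CfsgLib.QuadPair

open Cfsg
open scoped commutatorElement

universe u

variable {k : Type u} [Field k] {M : Type u} [AddCommGroup M] [Module k M] [FiniteDimensional k M]
variable {G : Subgroup (LinearMap.GeneralLinearGroup k M)}
variable (hk2 : ringChar k ≠ 2) (hk3 : Nat.card k ≠ 3) (hG : IsQuadraticPair G)
include hk2 hk3 hG

omit [FiniteDimensional k M] hk2 hk3 hG in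
theorem op_commutator {g h : LinearMap.GeneralLinearGroup k M} (hg : op g * op g = 0)
    (hh : op h * op h = 0) (h1 : op g * op h * op g = 0) (h2 : op h * op g * op h = 0) :
    op ⁅g, h⁆ = op g * op h - op h * op g := by
  have hi : ∀ u : LinearMap.GeneralLinearGroup k M, op u * op u = 0 →
      ((u⁻¹ : LinearMap.GeneralLinearGroup k M) : Module.End k M) = 1 - op u := fun u hu => by
    refine Units.inv_eq_of_mul_eq_one_right ?_
    rw [val_eq u]
    linear_combination (norm := noncomm_ring) (-(1 : Module.End k M)) * hu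
  change ((⁅g, h⁆ : LinearMap.GeneralLinearGroup k M) : Module.End k M) - 1 = _
  rw [commutatorElement_def, Units.val_mul, Units.val_mul, Units.val_mul, hi g hg, hi h hh,
    val_eq g, val_eq h]
  have h3 : op g * op h * op h = 0 := by rw [mul_assoc, hh, mul_zero]
  have h4 : op h * op g * op g = 0 := by rw [mul_assoc, hg, mul_zero]
  have h5 : op g * op h * op g * op h = 0 := by rw [h1, zero_mul]
  linear_combination (norm := noncomm_ring) -hg - hh - h1 + h2 - h3 + h5 + hg * op h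

/-- Two classes with nilpotent product. -/
theorem commutator_op {σ τ : LinearMap.GeneralLinearGroup k M} (hσ : σ ∈ minimalQuadraticElements G)
    (hτ : τ ∈ minimalQuadraticElements G) (hnil : IsNilpotent (op τ * op σ))
    {e f : LinearMap.GeneralLinearGroup k M} (he : e ∈ sameActionSubgroup G σ)
    (hf : f ∈ sameActionSubgroup G τ) : op ⁅e, f⁆ = op e * op f - op f * op e := by
  have hm := minRank_of_mem hσ
  obtain ⟨N, hN, h1, h2⟩ := exists_cubeZero hm (Ring.two_ne_zero hk2) hk3 (root_of_mem hσ hσ)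
    (root_of_mem hσ hτ) hnil
  have a := (mem_E_iff hk2 hk3 hG hσ).1 he
  have b := (mem_E_iff hk2 hk3 hG hτ).1 hf
  exact op_commutator a.1 b.1 (hN.triple _ (h1 a) _ (h2 b) _ (h1 a))
    (hN.triple _ (h2 b) _ (h1 a) _ (h2 b))

theorem class_two_comm {σ τ : LinearMap.GeneralLinearGroup k M}
    (hσ : σ ∈ minimalQuadraticElements G) (hτ : τ ∈ minimalQuadraticElements G)
    (hnil : IsNilpotent (op τ * op σ)) :
    ⁅⁅sameActionSubgroup G σ ⊔ sameActionSubgroup G τ, sameActionSubgroup G σ ⊔ sameActionSubgroup G τ⁆,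
      sameActionSubgroup G σ ⊔ sameActionSubgroup G τ⁆ = ⊥ := by
  have hm := minRank_of_mem hσ
  obtain ⟨N, hN, h1, h2⟩ := exists_cubeZero hm (Ring.two_ne_zero hk2) hk3 (root_of_mem hσ hσ)
    (root_of_mem hσ hτ) hnil
  set X := sameActionSubgroup G σ ⊔ sameActionSubgroup G τ
  have hX : ∀ g ∈ X, op g ∈ N := fun g hg => op_mem_sup hk2 hk3 hG hσ hτ hN h1 h2 hg
  rw [Subgroup.commutator_eq_bot_iff_le_centralizer, Subgroup.commutator_le]
  intro g hg h hh
  rw [Subgroup.mem_centralizer_iff]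
  intro w hw
  apply Units.ext
  set c := ⁅g, h⁆ with hc
  have hcval : op c = (op g * op h - op h * op g) *
      (((g⁻¹ * h⁻¹ : LinearMap.GeneralLinearGroup k M)) : Module.End k M) := by
    have e : ((h * g : LinearMap.GeneralLinearGroup k M) : Module.End k M) *
        (((g⁻¹ * h⁻¹ : LinearMap.GeneralLinearGroup k M)) : Module.End k M) = 1 := by
      rw [← Units.val_mul, show h * g * (g⁻¹ * h⁻¹) = 1 by group, Units.val_one]
    rw [op, hc, show ⁅g, h⁆ = (g * h) * (g⁻¹ * h⁻¹) by rw [commutatorElement_def]; group, Units.val_mul,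
      Units.val_mul g h]
    rw [Units.val_mul h g] at e
    simp only [op]
    linear_combination (norm := noncomm_ring) e
  have ha := hX _ (X.mul_mem (X.inv_mem hg) (X.inv_mem hh))
  have t1 : ∀ v ∈ N, (op g * op h - op h * op g) * v = 0 ∧ v * (op g * op h - op h * op g) = 0 := by
    intro v hv
    constructor
    · rw [sub_mul, hN.triple _ (hX g hg) _ (hX h hh) _ hv, hN.triple _ (hX h hh) _ (hX g hg) _ hv,
        sub_zero]
    · rw [mul_sub, ← mul_assoc, ← mul_assoc, hN.triple _ hv _ (hX g hg) _ (hX h hh),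
        hN.triple _ hv _ (hX h hh) _ (hX g hg), sub_zero]
  have hc' : op c = op g * op h - op h * op g := by
    rw [hcval, val_eq (g⁻¹ * h⁻¹), mul_add, mul_one, (t1 _ ha).1, add_zero]
  rw [Units.val_mul, Units.val_mul, val_eq c, val_eq w, hc']
  obtain ⟨e1, e2⟩ := t1 _ (hX w hw)
  linear_combination (norm := noncomm_ring) e2 - e1

/-- A commuting pair of classes. -/
theorem commutator_eq_bot {σ τ : LinearMap.GeneralLinearGroup k M}
    (hσ : σ ∈ minimalQuadraticElements G) (hτ : τ ∈ minimalQuadraticElements G)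
    (hnil : IsNilpotent (op τ * op σ)) (h0 : op σ * op τ = op τ * op σ) :
    ⁅sameActionSubgroup G σ, sameActionSubgroup G τ⁆ = ⊥ := by
  have hm := minRank_of_mem hσ
  rw [Subgroup.commutator_eq_bot_iff_le_centralizer]
  intro e he
  rw [Subgroup.mem_centralizer_iff]
  intro f hf
  have hc := cls_commute hm (Ring.two_ne_zero hk2) hk3 (root_of_mem hσ hσ) (root_of_mem hσ hτ) hnil
    h0 ((mem_E_iff hk2 hk3 hG hσ).1 he) ((mem_E_iff hk2 hk3 hG hτ).1 hf)
  apply Units.ext
  rw [Units.val_mul, Units.val_mul, val_eq e, val_eq f]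
  linear_combination (norm := noncomm_ring) -hc

/-- The commutator case. -/
theorem commutator_case {σ τ : LinearMap.GeneralLinearGroup k M}
    (hσ : σ ∈ minimalQuadraticElements G) (hτ : τ ∈ minimalQuadraticElements G)
    (hnil : IsNilpotent (op τ * op σ)) (hne : op σ * op τ - op τ * op σ ≠ 0) :
    ∃ ξ ∈ minimalQuadraticElements G, op ξ = op σ * op τ - op τ * op σ ∧
      ⁅sameActionSubgroup G σ, sameActionSubgroup G τ⁆ = sameActionSubgroup G ξ ∧
      (∀ e ∈ sameActionSubgroup G σ, e ≠ 1 →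
        Subgroup.closure ((fun f => e * f * e⁻¹ * f⁻¹) '' (sameActionSubgroup G τ : Set _)) =
          sameActionSubgroup G ξ) ∧
      (∀ f ∈ sameActionSubgroup G τ, f ≠ 1 →
        Subgroup.closure ((fun e => e * f * e⁻¹ * f⁻¹) '' (sameActionSubgroup G σ : Set _)) =
          sameActionSubgroup G ξ) := by
  have hm := minRank_of_mem hσ
  have h2 := Ring.two_ne_zero hk2
  have hs := root_of_mem hσ hσ
  have ht := root_of_mem hσ hτ
  have hP := commPair hm h2 hs ht hnil hne
  obtain ⟨ξ, hξ, hξe⟩ := exists_min hm hP.root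
  have hx : ∀ {y : LinearMap.GeneralLinearGroup k M}, y ∈ sameActionSubgroup G ξ ↔
      op y ∈ Cls G (op σ * op τ - op τ * op σ) := fun {y} => by
    rw [mem_E_iff hk2 hk3 hG hξ, hξe]
  have hsub : ∀ e ∈ sameActionSubgroup G σ, ∀ f ∈ sameActionSubgroup G τ,
      ⁅e, f⁆ ∈ sameActionSubgroup G ξ := by
    intro e he f hf
    rw [hx, commutator_op hk2 hk3 hG hσ hτ hnil he hf]
    exact (comm_cls hm h2 hk3 hs ht hnil hne ((mem_E_iff hk2 hk3 hG hσ).1 he)
      ((mem_E_iff hk2 hk3 hG hτ).1 hf)).1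
  have hleft : ∀ e ∈ sameActionSubgroup G σ, e ≠ 1 → ∀ y ∈ sameActionSubgroup G ξ,
      ∃ f ∈ sameActionSubgroup G τ, ⁅e, f⁆ = y := by
    intro e he he1 y hy
    have ha := (mem_E_iff hk2 hk3 hG hσ).1 he
    have ha0 : op e ≠ 0 := fun h => he1 (op_eq_zero.1 h)
    obtain ⟨hc, hc0⟩ := comm_cls hm h2 hk3 hs ht hnil hne ha ht.mem_cls
    have har := (Cls.root hm hs ha ha0).1
    have hne' := hc0 ha0 (ht.ne_zero hm)
    obtain ⟨q, hq⟩ := exists_opposite hk2 hk3 hG hm (Cls.root hm hP.root hc hne').1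
    obtain ⟨z, hz, hzy⟩ := comm_surj hm h2 har ht (nilp_of_cls hm h2 hk3 hs ht ha ht.mem_cls hnil)
      hne' hq (y := op y) ((Cls.eq hm hP.root hc hne').symm ▸ hx.1 hy)
    obtain ⟨f, hf⟩ := exists_elem hz.1
    have hfz : op f = z := by rw [op, hf, add_sub_cancel_left]
    have hfE : f ∈ sameActionSubgroup G τ := (mem_E_iff hk2 hk3 hG hτ).2 (hfz ▸ hz)
    exact ⟨f, hfE, op_inj (by rw [commutator_op hk2 hk3 hG hσ hτ hnil he hfE, hfz, hzy])⟩
  have hright : ∀ f ∈ sameActionSubgroup G τ, f ≠ 1 → ∀ y ∈ sameActionSubgroup G ξ,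
      ∃ e ∈ sameActionSubgroup G σ, ⁅e, f⁆ = y := by
    intro f hf hf1 y hy
    have hb := (mem_E_iff hk2 hk3 hG hτ).1 hf
    have hb0 : op f ≠ 0 := fun h => hf1 (op_eq_zero.1 h)
    have hne2 : op τ * op σ - op σ * op τ ≠ 0 := fun e => hne (by
      rw [sub_eq_zero] at e ⊢; exact e.symm)
    obtain ⟨hc, hc0⟩ := comm_cls hm h2 hk3 ht hs (isNilpotent_swap hnil) hne2 hb hs.mem_cls
    have hbr := (Cls.root hm ht hb hb0).1
    have hne' := hc0 hb0 (hs.ne_zero hm)
    have hR2 := (commPair hm h2 ht hs (isNilpotent_swap hnil) hne2).root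
    obtain ⟨q, hq⟩ := exists_opposite hk2 hk3 hG hm (Cls.root hm hR2 hc hne').1
    have hy' : -op y ∈ Cls G (op τ * op σ - op σ * op τ) := by
      obtain ⟨y1, y2, y3, y4⟩ := hx.1 hy
      have e0 : op τ * op σ - op σ * op τ = -(op σ * op τ - op τ * op σ) := by abel
      refine ⟨by rw [neg_mul_neg, y1], y2.neg, ?_, ?_⟩
      · rw [e0, LinearMap.range_neg, LinearMap.range_neg]; exact y3
      · intro m hm'
        rw [e0, LinearMap.mem_ker, LinearMap.neg_apply, neg_eq_zero] at hm'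
        rw [LinearMap.mem_ker, LinearMap.neg_apply, y4 (LinearMap.mem_ker.2 hm'), neg_zero]
    obtain ⟨z, hz, hzy⟩ := comm_surj hm h2 hbr hs
      (nilp_of_cls hm h2 hk3 ht hs hb hs.mem_cls (isNilpotent_swap hnil)) hne' hq
      (y := -op y) ((Cls.eq hm hR2 hc hne').symm ▸ hy')
    obtain ⟨e, he⟩ := exists_elem hz.1
    have hez : op e = z := by rw [op, he, add_sub_cancel_left]
    have heE : e ∈ sameActionSubgroup G σ := (mem_E_iff hk2 hk3 hG hσ).2 (hez ▸ hz)
    refine ⟨e, heE, op_inj ?_⟩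
    rw [commutator_op hk2 hk3 hG hσ hτ hnil heE hf, hez, ← neg_sub, hzy, neg_neg]
  refine ⟨ξ, hξ, hξe, le_antisymm (Subgroup.commutator_le.2 hsub) fun y hy => ?_, ?_, ?_⟩
  · have hσ1 : σ ≠ 1 := fun e => hs.ne_zero hm (op_eq_zero.2 e)
    obtain ⟨f, hf, rfl⟩ := hleft σ (self_mem_E hk2 hk3 hG hσ) hσ1 y hy
    exact Subgroup.commutator_mem_commutator (self_mem_E hk2 hk3 hG hσ) hf
  · intro e he he1
    refine le_antisymm ((Subgroup.closure_le _).2 ?_) fun y hy => ?_
    · rintro _ ⟨f, hf, rfl⟩; exact hsub e he f hf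
    · obtain ⟨f, hf, rfl⟩ := hleft e he he1 y hy
      exact Subgroup.subset_closure ⟨f, hf, rfl⟩
  · intro f hf hf1
    refine le_antisymm ((Subgroup.closure_le _).2 ?_) fun y hy => ?_
    · rintro _ ⟨e, he, rfl⟩; exact hsub e he f hf
    · obtain ⟨e, he, rfl⟩ := hright f hf hf1 y hy
      exact Subgroup.subset_closure ⟨e, he, rfl⟩

/-- The pair lies in the unipotent core of its commutator. -/
theorem subset_core {σ τ ξ : LinearMap.GeneralLinearGroup k M}
    (hσ : σ ∈ minimalQuadraticElements G) (hτ : τ ∈ minimalQuadraticElements G)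
    (hnil : IsNilpotent (op τ * op σ)) (hne : op σ * op τ - op τ * op σ ≠ 0)
    (hξ : ξ ∈ minimalQuadraticElements G) (hξe : op ξ = op σ * op τ - op τ * op σ) :
    ((sameActionSubgroup G σ ⊔ sameActionSubgroup G τ : Subgroup (LinearMap.GeneralLinearGroup k M)) :
      Set (LinearMap.GeneralLinearGroup k M)) ⊆ quadraticUnipotentCore G (sameActionSubgroup G ξ) := by
  have hm := minRank_of_mem hσ
  have h2 := Ring.two_ne_zero hk2
  have hs := root_of_mem hσ hσ
  have ht := root_of_mem hσ hτ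
  have hxr := root_of_mem hσ hξ
  intro g hg
  have hu : op g ∈ uOps (op ξ) := by
    refine op_mem_sup hk2 hk3 hG hσ hτ (cubeZero_uOps hxr.sq) ?_ ?_ hg
    · rw [hξe]; exact cls_subset_uOps hm h2 hk3 hs ht hnil hne
    · rw [hξe]; exact cls_subset_uOps' hm h2 hk3 hs ht hnil hne
  have hfix : fixedSubmodule (sameActionSubgroup G ξ) = LinearMap.ker (op ξ) := by
    refine le_antisymm (iInf₂_le ξ (self_mem_E hk2 hk3 hG hξ)) (le_iInf₂ fun y hy => ?_)
    exact ((mem_E_iff hk2 hk3 hG hξ).1 hy).2.2.2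
  have hcom : commutatorSubmodule (sameActionSubgroup G ξ) = LinearMap.range (op ξ) := by
    refine le_antisymm (iSup₂_le fun y hy => ((mem_E_iff hk2 hk3 hG hξ).1 hy).2.2.1)
      (le_iSup₂ (f := fun (g : LinearMap.GeneralLinearGroup k M) (_ : g ∈ sameActionSubgroup G ξ) =>
        LinearMap.range (op g)) ξ (self_mem_E hk2 hk3 hG hξ))
  refine ⟨?_, ?_, fun m => ?_, fun m hm' => ?_, fun m hm' => ?_⟩
  · exact (sup_le (E_le hk2 hk3 hG hσ) (E_le hk2 hk3 hG hτ)) hg
  · refine Subgroup.centralizer_le_normalizer _ (Subgroup.mem_centralizer_iff.2 fun y hy => ?_)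
    have hy' := cls_le_g ((mem_E_iff hk2 hk3 hG hξ).1 hy)
    apply Units.ext
    rw [Units.val_mul, Units.val_mul, val_eq y, val_eq g]
    linear_combination (norm := noncomm_ring) g_mul_u hy' hu - u_mul_g hu hy'
  · rw [hfix, LinearMap.mem_ker]
    exact LinearMap.congr_fun hu.1 m
  · rw [hfix] at hm'
    rw [hcom]
    exact hu.2.2 m hm'
  · rw [hcom] at hm'
    obtain ⟨w, rfl⟩ := hm'
    exact sub_eq_zero.1 (LinearMap.congr_fun hu.2.1 w)

/-- The scalar action on an opposite pair. -/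
theorem opp_act {d : ℕ} {s q : Module.End k M} (h : Opp G d s q) :
    SL2Act ((LinearMap.toSpanSingleton k (Module.End k M) (s * q + q * s))) s q := by
  have hf : (s * q + q * s) * (s * q + q * s) = s * q + q * s := by
    linear_combination (norm := noncomm_ring) h.sqs * q + h.qsq * s + s * h.right.sq * s + q * h.left.sq * q
  refine ⟨h.left.sq, h.right.sq, h.sqs, h.qsq, fun a b => ?_, by simp, fun a => ?_, fun a => ?_⟩
  · simp only [LinearMap.toSpanSingleton_apply, smul_mul_assoc, mul_smul_comm, hf, smul_smul]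
    rw [mul_comm]
  · simp only [LinearMap.toSpanSingleton_apply, smul_mul_assoc, mul_smul_comm]
    congr 1
    linear_combination (norm := noncomm_ring) q * h.left.sq - h.left.sq * q
  · simp only [LinearMap.toSpanSingleton_apply, smul_mul_assoc, mul_smul_comm]
    congr 1
    linear_combination (norm := noncomm_ring) s * h.right.sq - h.right.sq * s

/-- An opposite pair inside the join of the classes. -/
theorem exists_opp_elems {σ τ : LinearMap.GeneralLinearGroup k M}
    (hσ : σ ∈ minimalQuadraticElements G) (hτ : τ ∈ minimalQuadraticElements G)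
    (hnil : ¬ IsNilpotent (op τ * op σ)) :
    ∃ q, q ∈ Cls G (op τ) ∧ Opp G (rk (op σ)) (op σ) q :=
  exists_opp (minRank_of_mem hσ) (Ring.two_ne_zero hk2) hk3 (root_of_mem hσ hσ) (root_of_mem hσ hτ) hnil

/-- A class two pair has nilpotent product. -/
theorem nil_of_class_two {σ τ : LinearMap.GeneralLinearGroup k M}
    (hσ : σ ∈ minimalQuadraticElements G) (hτ : τ ∈ minimalQuadraticElements G)
    (h : ⁅⁅sameActionSubgroup G σ ⊔ sameActionSubgroup G τ, sameActionSubgroup G σ ⊔ sameActionSubgroup G τ⁆,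
      sameActionSubgroup G σ ⊔ sameActionSubgroup G τ⁆ = ⊥) : IsNilpotent (op τ * op σ) := by
  by_contra hnil
  obtain ⟨q, hq, hopp⟩ := exists_opp_elems hk2 hk3 hG hσ hτ hnil
  have hm := minRank_of_mem hσ
  set X := sameActionSubgroup G σ ⊔ sameActionSubgroup G τ
  set ρ := (opp_act hk2 hk3 hG hopp).rep
  have hup : ∀ a : k, ρ (up a) ∈ X := by
    intro a
    refine Subgroup.mem_sup_left ((mem_E_iff hk2 hk3 hG hσ).2 ?_)
    change ((((opp_act hk2 hk3 hG hopp).rep (up a)) : LinearMap.GeneralLinearGroup k M) : Module.End k M) - 1 ∈ _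
    rw [(opp_act hk2 hk3 hG hopp).rep_up, add_sub_cancel_left, LinearMap.toSpanSingleton_apply,
      smul_mul_assoc, (opp_act hk2 hk3 hG hopp).f_left.1]
    exact Cls.smul hopp.left.mem_cls a
  have hlo : ∀ a : k, ρ (lo a) ∈ X := by
    intro a
    refine Subgroup.mem_sup_right ((mem_E_iff hk2 hk3 hG hτ).2 ?_)
    change ((((opp_act hk2 hk3 hG hopp).rep (lo a)) : LinearMap.GeneralLinearGroup k M) : Module.End k M) - 1 ∈ _
    rw [(opp_act hk2 hk3 hG hopp).rep_lo, add_sub_cancel_left, LinearMap.toSpanSingleton_apply,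
      smul_mul_assoc, (opp_act hk2 hk3 hG hopp).f_left.2]
    exact Cls.smul hq a
  have htop : (⊤ : Subgroup (Matrix.SpecialLinearGroup (Fin 2) k)).map ρ ≤ X := by
    rw [← CfsgLib.ThreeTrans.RankOneSL2.sup_eq_top (k := k), Subgroup.map_sup, sup_le_iff]
    constructor <;> rintro _ ⟨g, hg, rfl⟩
    · obtain ⟨a, rfl⟩ := CfsgLib.ThreeTrans.RankOneSL2.mem_lower.1 hg
      exact hlo a
    · obtain ⟨a, rfl⟩ := CfsgLib.ThreeTrans.RankOneSL2.mem_upper.1 hg
      exact hup a
  obtain ⟨c, hc0, hc2⟩ := exists_sq_ne_one' (Ring.two_ne_zero hk2) hk3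
  have hperf := Matrix.SL2.commutator_eq_top hc0 hc2
  set R := (⊤ : Subgroup (Matrix.SpecialLinearGroup (Fin 2) k)).map ρ
  have hR : ⁅R, R⁆ = R := by rw [← Subgroup.map_commutator, ← commutator_def, hperf]
  have hbot : R ≤ ⊥ := by
    rw [← h]
    calc R = ⁅⁅R, R⁆, R⁆ := by rw [hR, hR]
      _ ≤ _ := Subgroup.commutator_mono (Subgroup.commutator_mono htop htop) htop
  have h1 : ρ (up 1) = 1 := hbot ⟨up 1, trivial, rfl⟩
  have h1' := (opp_act hk2 hk3 hG hopp).rep_up 1
  rw [show (opp_act hk2 hk3 hG hopp).rep (up 1) = 1 from h1, LinearMap.toSpanSingleton_apply, one_smul,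
    (opp_act hk2 hk3 hG hopp).f_left.1, Units.val_one, left_eq_add] at h1'
  exact hopp.left.ne_zero hm h1'

/-- Elements commuting or normalizing force commuting classes. -/
theorem commute_criterion {σ τ : LinearMap.GeneralLinearGroup k M}
    (hσ : σ ∈ minimalQuadraticElements G) (hτ : τ ∈ minimalQuadraticElements G)
    (h : (∃ e ∈ sameActionSubgroup G σ, e ≠ 1 ∧ ∃ f ∈ sameActionSubgroup G τ, f ≠ 1 ∧ e * f = f * e) ∨
      sameActionSubgroup G σ ⊓
        Subgroup.normalizer (sameActionSubgroup G τ : Set (LinearMap.GeneralLinearGroup k M)) ≠ ⊥) :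
    ⁅sameActionSubgroup G σ, sameActionSubgroup G τ⁆ = ⊥ := by
  have hm := minRank_of_mem hσ
  have h2 := Ring.two_ne_zero hk2
  have hs := root_of_mem hσ hσ
  have ht := root_of_mem hσ hτ
  suffices h' : ∃ a ∈ Cls G (op σ), a ≠ 0 ∧ ∃ b ∈ Cls G (op τ), b ≠ 0 ∧
      IsNilpotent (b * a) ∧ a * b = b * a by
    obtain ⟨a, ha, ha0, b, hb, hb0, hn, hab⟩ := h'
    obtain ⟨har, haR, haK⟩ := Cls.root hm hs ha ha0
    obtain ⟨hbr, hbR, hbK⟩ := Cls.root hm ht hb hb0
    have h1 : op σ ∈ Cls G a := (Cls.eq hm hs ha ha0).symm ▸ hs.mem_cls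
    have h2' : op τ ∈ Cls G b := (Cls.eq hm ht hb hb0).symm ▸ ht.mem_cls
    exact commutator_eq_bot hk2 hk3 hG hσ hτ (nilp_of_cls hm h2 hk3 har hbr h1 h2' hn)
      (cls_commute hm h2 hk3 har hbr hn hab h1 h2')
  rcases h with ⟨e, he, he1, f, hf, hf1, hef⟩ | h
  · have ha := (mem_E_iff hk2 hk3 hG hσ).1 he
    have hb := (mem_E_iff hk2 hk3 hG hτ).1 hf
    have hab : op e * op f = op f * op e := by
      have := congrArg (fun g : LinearMap.GeneralLinearGroup k M => (g : Module.End k M)) hef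
      simp only [Units.val_mul] at this
      rw [val_eq e, val_eq f] at this
      linear_combination (norm := noncomm_ring) this
    refine ⟨op e, ha, fun x => he1 (op_eq_zero.1 x), op f, hb, fun x => hf1 (op_eq_zero.1 x), ⟨2, ?_⟩, hab⟩
    rw [pow_two, ← mul_assoc, mul_assoc (op f) (op e) (op f), hab, ← mul_assoc, hb.1, zero_mul, zero_mul]
  · obtain ⟨e, ⟨he, hen⟩, he1⟩ := (Subgroup.bot_or_exists_ne_one _).resolve_left h
    have ha := (mem_E_iff hk2 hk3 hG hσ).1 he
    have ha0 : op e ≠ 0 := fun x => he1 (op_eq_zero.1 x)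
    set a := op e with hadef
    have hconj : ∀ b ∈ Cls G (op τ), b + (a * b - b * a) - a * b * a ∈ Cls G (op τ) := by
      intro b hb
      obtain ⟨f, hf⟩ := exists_elem hb.1
      have hfb : op f = b := by rw [op, hf, add_sub_cancel_left]
      have hf' : f ∈ sameActionSubgroup G τ := (mem_E_iff hk2 hk3 hG hτ).2 (hfb ▸ hb)
      have := (mem_E_iff hk2 hk3 hG hτ).1 ((Subgroup.mem_normalizer_iff.1 hen f).1 hf')
      rw [op_conj, hfb, conjOp_one_add ha.1 (c := 1) (by rw [one_smul]; exact val_eq e)] at this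
      simpa using this
    obtain ⟨har, -, -⟩ := Cls.root hm hs ha ha0
    have hnil : IsNilpotent (op τ * a) := by
      by_contra hn
      obtain ⟨q, hq, hopp⟩ := exists_opp hm h2 hk3 har ht hn
      have hu := Cls.mul_eq_zero ht.sq hq (hconj q hq)
      have h0 : q - q * a = 0 := by
        linear_combination (norm := noncomm_ring) hu - hopp.right.sq + hopp.right.sq * a
          + hopp.qsq * a - hopp.qsq
      have h1 : q * a = 0 := by
        linear_combination (norm := noncomm_ring) h0 * a + q * har.sq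
      exact hopp.right.ne_zero hm (by rw [← hopp.qsq, h1, zero_mul])
    refine ⟨a, ha, ha0, op τ, ht.mem_cls, ht.ne_zero hm, hnil, ?_⟩
    obtain ⟨-, h3, -⟩ := unip hm h2 har ht hnil
    by_contra hab
    have hne := sub_ne_zero.2 hab
    have hP := commPair hm h2 har ht hnil hne
    have hu := hconj _ ht.mem_cls
    rw [h3, sub_zero] at hu
    have hx : a * op τ - op τ * a ∈ Cls G (op τ) := by
      have := Cls.add ht.sq hu (Cls.smul ht.mem_cls (-1 : k))
      convert this using 1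
      rw [neg_one_smul]; abel
    obtain ⟨-, hR, hK⟩ := Cls.root hm ht hx hne
    have e1 : op τ * a = 0 := mul_eq_zero_iff.2 (hK ▸ mul_eq_zero_iff.1 hP.s_mem.1)
    have e2 : a * op τ = 0 := mul_eq_zero_iff.2 (hR ▸ mul_eq_zero_iff.1 hP.s_mem.2.1)
    exact hne (by rw [e1, e2, sub_zero])

end CfsgLib.QuadPair
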