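import Cfsg.Agent.Lib.QuadPair.Special

/-!
The root subgroups of a quadratic pair form a set of abstract root subgroups.
-/

set_option autoImplicit false

namespace CfsgLib.QuadPair

open Cfsg
open scoped commutatorElement

section Transfer

variable {Γ : Type*} [Group Γ]

theorem conjBy_subgroupOf {Z A : Subgroup Γ} (g : Z) :
    conjBy (A.subgroupOf Z) g = (conjBy A (g : Γ)).subgroupOf Z := by
  ext x
  rw [Subgroup.mem_map, Subgroup.mem_subgroupOf, Subgroup.mem_map]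
  constructor
  · rintro ⟨y, hy, rfl⟩; exact ⟨(y : Γ), hy, by simp⟩
  · rintro ⟨y, hy, e⟩
    have e' : (g : Γ) * y * (g : Γ)⁻¹ = (x : Γ) := e
    refine ⟨g⁻¹ * x * g, ?_, by simp [mul_assoc]⟩
    rw [Subgroup.mem_subgroupOf]
    simpa [← e', mul_assoc] using hy

theorem rankOne_subgroupOf {Z A B : Subgroup Γ} (hA : A ≤ Z) (hB : B ≤ Z) (h : IsRankOnePair A B) :
    IsRankOnePair (A.subgroupOf Z) (B.subgroupOf Z) := by
  have hc : ∀ A B : Subgroup Γ, B ≤ Z → RankOneCondition A B →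
      RankOneCondition (A.subgroupOf Z) (B.subgroupOf Z) := by
    intro A B hB hc a ha ha1
    obtain ⟨b, hb, hb1, e⟩ := hc a ha (fun e => ha1 (Subtype.ext e))
    refine ⟨⟨b, hB hb⟩, hb, fun e' => hb1 (congrArg Subtype.val e'), ?_⟩
    rw [conjBy_subgroupOf, conjBy_subgroupOf]
    exact congrArg (fun X : Subgroup Γ => X.subgroupOf Z) e
  refine ⟨fun e => h.ne ?_, ?_, ?_, hc A B hB h.cond_left, hc B A hA h.cond_right⟩
  · have := congrArg (Subgroup.map Z.subtype) e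
    rwa [Subgroup.map_subgroupOf_eq_of_le hA, Subgroup.map_subgroupOf_eq_of_le hB] at this
  · haveI := h.nilpotent_left
    exact Group.nilpotent_of_mulEquiv (Subgroup.subgroupOfEquivOfLe hA).symm
  · haveI := h.nilpotent_right
    exact Group.nilpotent_of_mulEquiv (Subgroup.subgroupOfEquivOfLe hB).symm

theorem commutatorCase_subgroupOf {Z A B : Subgroup Γ} (S : Set (Subgroup Γ)) (hA : A ≤ Z) (hB : B ≤ Z)
    (hmem : ⁅A, B⁆ ∈ S) (hcen : ∀ c ∈ ⁅A, B⁆, ∀ x ∈ A ⊔ B, c * x = x * c)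
    (hl : ∀ a ∈ A, a ≠ 1 → Subgroup.closure ((fun b : Γ => a * b * a⁻¹ * b⁻¹) '' (B : Set Γ)) = ⁅A, B⁆)
    (hr : ∀ b ∈ B, b ≠ 1 → Subgroup.closure ((fun a : Γ => a * b * a⁻¹ * b⁻¹) '' (A : Set Γ)) = ⁅A, B⁆) :
    RootCommutatorCase ((fun X : Subgroup Γ => X.subgroupOf Z) '' S) (A.subgroupOf Z) (B.subgroupOf Z) := by
  have hAm := Subgroup.map_subgroupOf_eq_of_le hA
  have hBm := Subgroup.map_subgroupOf_eq_of_le hB
  have hmapc : (⁅A.subgroupOf Z, B.subgroupOf Z⁆).map Z.subtype = ⁅A, B⁆ := by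
    rw [Subgroup.map_commutator, hAm, hBm]
  have hcZ : ⁅A, B⁆ ≤ Z := by rw [← hmapc]; exact Subgroup.map_subtype_le _
  have hc : ⁅A.subgroupOf Z, B.subgroupOf Z⁆ = ⁅A, B⁆.subgroupOf Z := by
    apply Subgroup.map_injective Z.subtype_injective
    rw [hmapc, Subgroup.map_subgroupOf_eq_of_le hcZ]
  refine ⟨⟨_, hmem, hc.symm⟩, ?_, ?_, ?_⟩
  · intro c hc' x hx
    apply Subtype.ext
    refine hcen _ (hmapc ▸ ⟨c, hc', rfl⟩) _ ?_
    rw [← hAm, ← hBm, ← Subgroup.map_sup]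
    exact ⟨x, hx, rfl⟩
  · intro a ha ha1
    apply Subgroup.map_injective Z.subtype_injective
    rw [MonoidHom.map_closure, hmapc, ← hl a ha (fun e => ha1 (Subtype.ext e))]
    congr 1
    ext x
    constructor
    · rintro ⟨_, ⟨b, hb, rfl⟩, rfl⟩; exact ⟨(b : Γ), hb, by simp⟩
    · rintro ⟨b, hb, rfl⟩; exact ⟨_, ⟨⟨b, hB hb⟩, hb, rfl⟩, by simp⟩
  · intro b hb hb1
    apply Subgroup.map_injective Z.subtype_injective
    rw [MonoidHom.map_closure, hmapc, ← hr b hb (fun e => hb1 (Subtype.ext e))]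
    congr 1
    ext x
    constructor
    · rintro ⟨_, ⟨a, ha, rfl⟩, rfl⟩; exact ⟨(a : Γ), ha, by simp⟩
    · rintro ⟨a, ha, rfl⟩; exact ⟨_, ⟨⟨a, hA ha⟩, ha, rfl⟩, by simp⟩

theorem comm_subgroupOf {Z A B : Subgroup Γ} (hA : A ≤ Z) (hB : B ≤ Z) (h : ⁅A, B⁆ = ⊥) :
    ⁅A.subgroupOf Z, B.subgroupOf Z⁆ = ⊥ := by
  apply Subgroup.map_injective Z.subtype_injective
  rw [Subgroup.map_commutator, Subgroup.map_subgroupOf_eq_of_le hA, Subgroup.map_subgroupOf_eq_of_le hB, h,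
    Subgroup.map_bot]

end Transfer

universe u

variable {k : Type u} [Field k] {M : Type u} [AddCommGroup M] [Module k M] [FiniteDimensional k M]
variable {G : Subgroup (LinearMap.GeneralLinearGroup k M)}
variable (hk2 : ringChar k ≠ 2) (hk3 : Nat.card k ≠ 3) (hG : IsQuadraticPair G)
include hk2 hk3 hG

theorem rootSubgroupSet :
    IsRootSubgroupSet ((fun A : Subgroup (LinearMap.GeneralLinearGroup k M) =>
        A.subgroupOf (⨆ B ∈ quadraticRootSubgroups G, B)) '' quadraticRootSubgroups G) := by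
  set Z := ⨆ B ∈ quadraticRootSubgroups G, B with hZ
  have hle : ∀ A ∈ quadraticRootSubgroups G, A ≤ Z := fun A hA =>
    le_biSup (fun B : Subgroup (LinearMap.GeneralLinearGroup k M) => B) hA
  have hZG : Z ≤ G := iSup₂_le fun A ⟨σ, hσ, e⟩ => e ▸ E_le hk2 hk3 hG hσ
  constructor
  · rintro _ ⟨A, hA, rfl⟩
    obtain ⟨σ, hσ, rfl⟩ := hA
    haveI := (Cfsg.Agent.S5059.result hk2 hk3 hG hσ).2.1
    refine ⟨⟨fun x y => Subtype.ext (Subtype.ext ?_)⟩⟩
    have h := congrArg (fun u : sameActionSubgroup G σ => (u : LinearMap.GeneralLinearGroup k M))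
      (mul_comm' (⟨((x : Z) : LinearMap.GeneralLinearGroup k M), Subgroup.mem_subgroupOf.1 x.2⟩ :
        sameActionSubgroup G σ) ⟨((y : Z) : LinearMap.GeneralLinearGroup k M), Subgroup.mem_subgroupOf.1 y.2⟩)
    simpa using h
  · rintro _ ⟨A, hA, rfl⟩
    obtain ⟨σ, hσ, rfl⟩ := hA
    intro e
    have h1 : (⟨σ, hle _ ⟨σ, hσ, rfl⟩ (self_mem_E hk2 hk3 hG hσ)⟩ : Z) ∈
        (sameActionSubgroup G σ).subgroupOf Z :=
      Subgroup.mem_subgroupOf.2 (self_mem_E hk2 hk3 hG hσ)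
    have h0 : (sameActionSubgroup G σ).subgroupOf Z = ⊥ := e
    rw [h0, Subgroup.mem_bot] at h1
    exact (root_of_mem hσ hσ).ne_zero (minRank_of_mem hσ) (op_eq_zero.2 (congrArg Subtype.val h1))
  · apply Subgroup.map_injective Z.subtype_injective
    rw [Subgroup.map_iSup, ← MonoidHom.range_eq_map, Subgroup.range_subtype]
    refine le_antisymm (iSup_le fun A => ?_) ?_
    · rw [Subgroup.map_iSup]
      exact iSup_le fun _ => Subgroup.map_subtype_le _
    · refine iSup₂_le fun A hA => ?_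
      refine le_trans (le_of_eq (Subgroup.map_subgroupOf_eq_of_le (hle A hA)).symm) ?_
      refine le_trans ?_ (le_iSup _ (A.subgroupOf Z))
      rw [Subgroup.map_iSup]
      exact le_iSup_of_le ⟨A, hA, rfl⟩ le_rfl
  · rintro _ ⟨A, hA, rfl⟩ g
    obtain ⟨σ, hσ, rfl⟩ := hA
    obtain ⟨h1, h2⟩ := conj_E hk2 hk3 hG hσ (hZG g.2)
    refine ⟨_, ⟨(g : LinearMap.GeneralLinearGroup k M) * σ * (g : LinearMap.GeneralLinearGroup k M)⁻¹, h1, rfl⟩, ?_⟩
    rw [conjBy_subgroupOf, h2]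
  · rintro _ ⟨A, hA, rfl⟩ _ ⟨B, hB, rfl⟩
    obtain ⟨σ, hσ, rfl⟩ := hA
    obtain ⟨τ, hτ, rfl⟩ := hB
    have hAZ := hle _ ⟨σ, hσ, rfl⟩
    have hBZ := hle _ ⟨τ, hτ, rfl⟩
    by_cases hnil : IsNilpotent (op τ * op σ)
    · by_cases h0 : op σ * op τ = op τ * op σ
      · exact Or.inl (comm_subgroupOf hAZ hBZ (commutator_eq_bot hk2 hk3 hG hσ hτ hnil h0))
      · obtain ⟨ξ, hξ, -, hL, h1, h3⟩ := commutator_case hk2 hk3 hG hσ hτ hnil (sub_ne_zero.2 h0)
        refine Or.inr (Or.inr (commutatorCase_subgroupOf _ hAZ hBZ (hL ▸ ⟨ξ, hξ, rfl⟩) ?_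
          (fun e he he1 => hL ▸ h1 e he he1) (fun f hf hf1 => hL ▸ h3 f hf hf1)))
        intro c hc x hx
        have hb := class_two_comm hk2 hk3 hG hσ hτ hnil
        rw [Subgroup.commutator_eq_bot_iff_le_centralizer] at hb
        exact (Subgroup.mem_centralizer_iff.1
          (hb (Subgroup.commutator_mono le_sup_left le_sup_right hc)) x hx).symm
    · exact Or.inr (Or.inl (rankOne_subgroupOf hAZ hBZ (special_pair hk2 hk3 hG hσ hτ hnil).1))

theorem not_isolated : ∀ A ∈ quadraticRootSubgroups G,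
    ¬ IsIsolatedIn (FAdj (quadraticRootSubgroups G)) (quadraticRootSubgroups G) A := by
  rintro A ⟨σ, hσ, rfl⟩ ⟨-, h⟩
  obtain ⟨τ, hτ, hn⟩ := exists_partner hk2 hk3 hG hσ
  exact (h (sameActionSubgroup G τ)).1
    ⟨⟨σ, hσ, rfl⟩, ⟨τ, hτ, rfl⟩, (special_pair hk2 hk3 hG hσ hτ hn).1⟩

/-- A rank one pair is not unipotent. -/
theorem nonnil_of_rankOne {σ τ : LinearMap.GeneralLinearGroup k M} (hσ : σ ∈ minimalQuadraticElements G)
    (hτ : τ ∈ minimalQuadraticElements G)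
    (h : IsRankOnePair (sameActionSubgroup G σ) (sameActionSubgroup G τ)) :
    ¬ IsNilpotent (op τ * op σ) := by
  intro hnil
  have hm := minRank_of_mem hσ
  have h2 := Ring.two_ne_zero hk2
  have hs := root_of_mem hσ hσ
  have ht := root_of_mem hσ hτ
  have hσ1 : σ ≠ 1 := fun e => hs.ne_zero hm (op_eq_zero.2 e)
  have hσE := self_mem_E hk2 hk3 hG hσ
  obtain ⟨b, hb, -, e⟩ := h.cond_left σ hσE hσ1
  obtain ⟨f, hf, hfe⟩ : b⁻¹ * σ * b ∈ conjBy (sameActionSubgroup G τ) σ⁻¹ := e ▸ ⟨σ, hσE, by simp⟩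
  have hfe' : σ⁻¹ * f * σ = b⁻¹ * σ * b := by simpa using hfe
  by_cases h0 : op σ * op τ = op τ * op σ
  · have hc := commutator_eq_bot hk2 hk3 hG hσ hτ hnil h0
    rw [Subgroup.commutator_eq_bot_iff_le_centralizer] at hc
    have hcb := Subgroup.mem_centralizer_iff.1 (hc hσE) b hb
    have hcf := Subgroup.mem_centralizer_iff.1 (hc hσE) f hf
    have : σ ∈ sameActionSubgroup G τ := by
      have e1 : σ⁻¹ * f * σ = f := by rw [mul_assoc, hcf, inv_mul_cancel_left]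
      have e2 : b⁻¹ * σ * b = σ := by rw [mul_assoc, ← hcb, inv_mul_cancel_left]
      rw [← e2, ← hfe', e1]; exact hf
    refine h.ne (Subgroup.ext fun y => ?_)
    rw [mem_E_iff hk2 hk3 hG hσ, mem_E_iff hk2 hk3 hG hτ,
      Cls.eq hm ht ((mem_E_iff hk2 hk3 hG hτ).1 this) (hs.ne_zero hm)]
  · have hne := sub_ne_zero.2 h0
    have hP := commPair hm h2 hs ht hnil hne
    set x := op σ * op τ - op τ * op σ with hx
    have hb' := (mem_E_iff hk2 hk3 hG hτ).1 hb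
    have hf' := (mem_E_iff hk2 hk3 hG hτ).1 hf
    have hbU := cls_subset_uOps' hm h2 hk3 hs ht hnil hne hb'
    have hfU := cls_subset_uOps' hm h2 hk3 hs ht hnil hne hf'
    have hconj : ∀ g v : LinearMap.GeneralLinearGroup k M, op g * op g = 0 → op g ∈ uOps x →
        op v ∈ uOps x → op (g⁻¹ * v * g) - op v ∈ gOps x := by
      intro g v hgg hg hv
      have e : op (g⁻¹ * v * g) = conjOp g⁻¹ (op v) := by rw [← op_conj, inv_inv]
      rw [e, conjOp, inv_inv, val_eq g⁻¹, op_inv hgg, val_eq g]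
      have : (1 + -op g) * op v * (1 + op g) - op v =
          op v * op g - op g * op v - op g * op v * op g := by noncomm_ring
      rw [this, u_mul_u_mul_u hg hv hg, sub_zero]
      exact Submodule.sub_mem _ (u_mul_u hv hg) (u_mul_u hg hv)
    have h3 := hconj σ f hs.sq hP.s_mem hfU
    rw [hfe'] at h3
    have h4 := hconj b σ hb'.1 hbU hP.s_mem
    have hd : op σ - op f ∈ gOps x := by
      have := Submodule.sub_mem _ h3 h4
      convert this using 1
      abel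
    have hprod : op f * op τ = 0 ∧ op τ * op f = 0 :=
      ⟨Cls.mul_eq_zero ht.sq hf' ht.mem_cls, Cls.mul_eq_zero ht.sq ht.mem_cls hf'⟩
    have e1 : (op σ - op f) * op τ = 0 := g_mul_u hd hP.t_mem
    have e2 : op τ * (op σ - op f) = 0 := u_mul_g hP.t_mem hd
    rw [sub_mul, hprod.1, sub_zero] at e1
    rw [mul_sub, hprod.2, sub_zero] at e2
    exact hne (by rw [hx, e1, e2, sub_zero])

theorem sl_two_pair {A B : Subgroup (LinearMap.GeneralLinearGroup k M)}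
    (hA : A ∈ quadraticRootSubgroups G) (hB : B ∈ rankOnePartners (quadraticRootSubgroups G) A) :
    ∃ A₀ B₀ : Subgroup (LinearMap.GeneralLinearGroup k M), A₀ ≤ A ∧ B₀ ≤ B ∧
      ∃ (k₁ : Type u) (_ : Field k₁), 3 < ENat.card k₁ ∧ IsPSL2PairOver k₁ A₀ B₀ := by
  obtain ⟨σ, hσ, rfl⟩ := hA
  obtain ⟨⟨τ, hτ, rfl⟩, hR⟩ := hB
  have hnil := nonnil_of_rankOne hk2 hk3 hG hσ hτ hR
  have hm := minRank_of_mem hσ
  obtain ⟨K, fK, aK, lam, κ, q, hact, -, -, -, hκ, -, hS, hQ⟩ :=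
    split hm (Ring.two_ne_zero hk2) hk3 (root_of_mem hσ hσ) (root_of_mem hσ hτ) hnil
  refine ⟨(upperUnipotentSL2 K).map hact.rep, (lowerUnipotentSL2 K).map hact.rep, ?_, ?_, K, fK, ?_,
    hact.rep, ?_, ?_, rfl, rfl⟩
  · rintro _ ⟨g, hg, rfl⟩
    obtain ⟨a, rfl⟩ := CfsgLib.ThreeTrans.RankOneSL2.mem_upper.1 hg
    rw [mem_E_iff hk2 hk3 hG hσ]
    change ((hact.rep (up a) : LinearMap.GeneralLinearGroup k M) : Module.End k M) - 1 ∈ _
    rw [hact.rep_up, add_sub_cancel_left]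
    exact hS a
  · rintro _ ⟨g, hg, rfl⟩
    obtain ⟨a, rfl⟩ := CfsgLib.ThreeTrans.RankOneSL2.mem_lower.1 hg
    rw [mem_E_iff hk2 hk3 hG hτ]
    change ((hact.rep (lo a) : LinearMap.GeneralLinearGroup k M) : Module.End k M) - 1 ∈ _
    rw [hact.rep_lo, add_sub_cancel_left]
    exact hQ a
  · obtain ⟨c, hc0, hc2⟩ := exists_sq_ne_one' (Ring.two_ne_zero hk2) hk3
    have h11 : (1 : k) ≠ -1 := fun e => Ring.two_ne_zero hk2 (by linear_combination e)
    have hc1 : c ≠ 1 := fun e => hc2 (by rw [e, one_pow])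
    have hcm : c ≠ -1 := fun e => hc2 (by rw [e]; ring)
    have hinj : Function.Injective (![(0 : k), 1, -1, c]) := by
      intro i j hij
      fin_cases i <;> fin_cases j <;> simp_all [eq_comm]
    have h4 := ENat.card_le_card_of_injective ((algebraMap k K).injective.comp hinj)
    rw [ENat.card_eq_coe_fintype_card, Fintype.card_fin] at h4
    exact lt_of_lt_of_le (by norm_num) h4
  · rw [← Subgroup.map_sup, sup_comm, CfsgLib.ThreeTrans.RankOneSL2.sup_eq_top, MonoidHom.range_eq_map]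
  · rw [(MonoidHom.ker_eq_bot_iff _).2 (hact.rep_injective hκ)]
    exact bot_le

end CfsgLib.QuadPair
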