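import Cfsg.Agent.Lib.ThreeTrans.DicksonSL2

/-!
`SL₂` over a finite-dimensional commutative algebra `k[z]`, `z` a unit, is generated on the
unitriangular parts by the upper elements with entries in `k` and the lower ones with entries in
`k z` (characteristic not two, `k` not of order three).
-/

set_option autoImplicit false

namespace CfsgLib.QuadPair

open Matrix

section Ring

variable {A : Type*} [CommRing A]

/-- `!![1, a; 0, 1]`. -/
def up (a : A) : SpecialLinearGroup (Fin 2) A := ⟨!![1, a; 0, 1], by simp [Matrix.det_fin_two]⟩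

/-- `!![1, 0; a, 1]`. -/
def lo (a : A) : SpecialLinearGroup (Fin 2) A := ⟨!![1, 0; a, 1], by simp [Matrix.det_fin_two]⟩

/-- The underlying matrix. -/
def mat (g : SpecialLinearGroup (Fin 2) A) : Matrix (Fin 2) (Fin 2) A := g.1

theorem mat_mul (g h : SpecialLinearGroup (Fin 2) A) : mat (g * h) = mat g * mat h := rfl

theorem mat_inv (g : SpecialLinearGroup (Fin 2) A) : mat g⁻¹ = (mat g).adjugate := rfl

theorem mat_one : mat (1 : SpecialLinearGroup (Fin 2) A) = 1 := rfl

theorem mat_det (g : SpecialLinearGroup (Fin 2) A) :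
    mat g 0 0 * mat g 1 1 - mat g 0 1 * mat g 1 0 = 1 := by
  rw [← Matrix.det_fin_two]; exact g.2

theorem mat_injective : Function.Injective (mat (A := A)) := fun _ _ h => Subtype.ext h

theorem mat_map {B : Type*} [CommRing B] (f : A →+* B) (g : SpecialLinearGroup (Fin 2) A) (i j : Fin 2) :
    mat (SpecialLinearGroup.map f g) i j = f (mat g i j) := rfl

theorem up_coe (a : A) : mat (up a) = !![1, a; 0, 1] := rfl

theorem lo_coe (a : A) : mat (lo a) = !![1, 0; a, 1] := rfl

theorem up_add (a b : A) : up a * up b = up (a + b) := by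
  apply Subtype.ext
  show !![1, a; 0, 1] * !![1, b; 0, 1] = !![1, a + b; 0, 1]
  simp [add_comm]

theorem lo_add (a b : A) : lo a * lo b = lo (a + b) := by
  apply Subtype.ext
  show !![1, 0; a, 1] * !![1, 0; b, 1] = !![1, 0; a + b, 1]
  simp

theorem up_zero : up (0 : A) = 1 := Subtype.ext Matrix.one_fin_two.symm

theorem lo_zero : lo (0 : A) = 1 := Subtype.ext Matrix.one_fin_two.symm

theorem up_inv (a : A) : (up a)⁻¹ = up (-a) := by
  rw [inv_eq_iff_mul_eq_one, up_add, add_neg_cancel, up_zero]

theorem lo_inv (a : A) : (lo a)⁻¹ = lo (-a) := by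
  rw [inv_eq_iff_mul_eq_one, lo_add, add_neg_cancel, lo_zero]

theorem up_inj {a b : A} (h : up a = up b) : a = b := by
  simpa [up_coe] using congrFun (congrFun (congrArg mat h) 0) 1

theorem map_up {B : Type*} [CommRing B] (f : A →+* B) (a : A) :
    SpecialLinearGroup.map f (up a) = up (f a) := by
  apply mat_injective; ext i j
  fin_cases i <;> fin_cases j <;> simp [mat_map, up_coe]

theorem map_lo {B : Type*} [CommRing B] (f : A →+* B) (a : A) :
    SpecialLinearGroup.map f (lo a) = lo (f a) := by
  apply mat_injective; ext i j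
  fin_cases i <;> fin_cases j <;> simp [mat_map, lo_coe]

theorem conj_up_coe (g : SpecialLinearGroup (Fin 2) A) (y : A) :
    mat (g * up y * g⁻¹) =
      !![1 - y * (mat g) 0 0 * (mat g) 1 0, y * (mat g) 0 0 ^ 2; -(y * (mat g) 1 0 ^ 2), 1 + y * (mat g) 0 0 * (mat g) 1 0] := by
  have hd := mat_det g
  rw [mat_mul, mat_mul, mat_inv, up_coe,
    Matrix.adjugate_fin_two]
  ext i j
  fin_cases i <;> fin_cases j <;>
    simp [Matrix.mul_apply, Fin.sum_univ_two] <;> first | ring1 | linear_combination hd

/-- The subgroup generated by the upper and lower elements. -/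
def elem (A : Type*) [CommRing A] : Subgroup (SpecialLinearGroup (Fin 2) A) :=
  Subgroup.closure (Set.range up ∪ Set.range lo)

theorem elem_le_iff {H : Subgroup (SpecialLinearGroup (Fin 2) A)} :
    elem A ≤ H ↔ (∀ a, up a ∈ H) ∧ ∀ a, lo a ∈ H := by
  rw [elem, Subgroup.closure_le, Set.union_subset_iff, Set.range_subset_iff, Set.range_subset_iff]
  rfl

theorem up_mem_elem (a : A) : up a ∈ elem A := Subgroup.subset_closure (Or.inl ⟨a, rfl⟩)

theorem lo_mem_elem (a : A) : lo a ∈ elem A := Subgroup.subset_closure (Or.inr ⟨a, rfl⟩)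

/-- `diag(a, a⁻¹)`, as a word, when `a * b = -1`. -/
def dia (a b : A) : SpecialLinearGroup (Fin 2) A :=
  up a * lo b * up a * (up 1 * lo (-1) * up 1)⁻¹

theorem dia_coe {a b : A} (h : a * b = -1) :
    mat (dia a b) = !![a, 0; 0, -b] := by
  rw [dia, mat_mul, mat_inv]
  have h1 : mat (up a * lo b * up a) = !![0, a; b, 0] := by
    simp only [mat_mul, up_coe, lo_coe]
    ext i j
    fin_cases i <;> fin_cases j <;>
      simp [Matrix.mul_apply, Fin.sum_univ_two] <;>
      first | linear_combination h | linear_combination a * h | linear_combination b * h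
  have h2 : mat (up (1 : A) * lo (-1) * up 1) = !![0, 1; -1, 0] := by
    simp only [mat_mul, up_coe, lo_coe]
    ext i j
    fin_cases i <;> fin_cases j <;> simp [Matrix.mul_apply, Fin.sum_univ_two]
  rw [h1, h2, Matrix.adjugate_fin_two]
  ext i j
  fin_cases i <;> fin_cases j <;> simp [Matrix.mul_apply, Fin.sum_univ_two]

theorem dia_conj_up {a b : A} (h : a * b = -1) (y : A) :
    dia a b * up y * (dia a b)⁻¹ = up (a * a * y) := by
  apply mat_injective
  rw [conj_up_coe, dia_coe h, up_coe]
  ext i j
  fin_cases i <;> fin_cases j <;> simp <;> ring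

theorem dia_mem_elem (a b : A) : dia a b ∈ elem A :=
  mul_mem (mul_mem (mul_mem (up_mem_elem _) (lo_mem_elem _)) (up_mem_elem _))
    (inv_mem (mul_mem (mul_mem (up_mem_elem _) (lo_mem_elem _)) (up_mem_elem _)))

theorem weyl_conj_up (y : A) :
    (up 1 * lo (-1) * up 1) * up y * (up 1 * lo (-1) * up 1)⁻¹ = lo (-y) := by
  apply mat_injective
  rw [conj_up_coe, lo_coe]
  simp only [mat_mul, up_coe, lo_coe]
  ext i j
  fin_cases i <;> fin_cases j <;> simp [Matrix.mul_apply, Fin.sum_univ_two]

theorem scalar_of_commute {X : SpecialLinearGroup (Fin 2) A}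
    (h : ∀ g ∈ elem A, g * X = X * g) : (mat X) 0 1 = 0 ∧ (mat X) 1 0 = 0 ∧ (mat X) 0 0 = (mat X) 1 1 := by
  have e1 := congrArg mat (h _ (up_mem_elem 1))
  have e2 := congrArg mat (h _ (lo_mem_elem 1))
  simp only [mat_mul, up_coe, lo_coe] at e1 e2
  have a := congrFun (congrFun e1 0) 0
  have b := congrFun (congrFun e1 0) 1
  have c := congrFun (congrFun e2 0) 0
  simp [Matrix.mul_apply, Fin.sum_univ_two] at a b c
  exact ⟨c, a, by linear_combination -b⟩

variable {I J : Ideal A}

/-- Reduction modulo an ideal. -/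
noncomputable abbrev red (I : Ideal A) :
    SpecialLinearGroup (Fin 2) A →* SpecialLinearGroup (Fin 2) (A ⧸ I) :=
  SpecialLinearGroup.map (Ideal.Quotient.mk I)

theorem red_eq_one {g : SpecialLinearGroup (Fin 2) A} :
    red I g = 1 ↔ ∀ i j, (mat g) i j - (1 : Matrix (Fin 2) (Fin 2) A) i j ∈ I := by
  constructor
  · intro h i j
    have := congrFun (congrFun (congrArg mat h) i) j
    rw [← Ideal.Quotient.mk_eq_mk_iff_sub_mem]
    rw [mat_map, mat_one] at this
    fin_cases i <;> fin_cases j <;> simpa using this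
  · intro h
    apply mat_injective; ext i j
    rw [mat_map, mat_one]
    have := (Ideal.Quotient.mk_eq_mk_iff_sub_mem _ _).2 (h i j)
    fin_cases i <;> fin_cases j <;> simpa using this

theorem commute_of_red (hIJ : I * J = ⊥) {X m : SpecialLinearGroup (Fin 2) A}
    (hX : red I X = 1) (hm : red J m = 1) : X * m = m * X := by
  have hX' := red_eq_one.1 hX
  have hm' := red_eq_one.1 hm
  have e1 : ((mat X) - 1) * ((mat m) - 1) = 0 := by
    ext i j
    rw [Matrix.mul_apply, Matrix.zero_apply]
    refine Finset.sum_eq_zero fun l _ => ?_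
    have := Ideal.mul_mem_mul (hX' i l) (hm' l j)
    rwa [hIJ, Submodule.mem_bot] at this
  have e2 : ((mat m) - 1) * ((mat X) - 1) = 0 := by
    ext i j
    rw [Matrix.mul_apply, Matrix.zero_apply]
    refine Finset.sum_eq_zero fun l _ => ?_
    have := Ideal.mul_mem_mul (hX' l j) (hm' i l)
    rw [hIJ, Submodule.mem_bot, mul_comm] at this
    exact this
  apply mat_injective
  rw [mat_mul, mat_mul]
  show (mat X) * (mat m) = (mat m) * (mat X)
  have h3 : (mat X) * (mat m) - (mat m) * (mat X) = ((mat X) - 1) * ((mat m) - 1) - ((mat m) - 1) * ((mat X) - 1) := by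
    noncomm_ring
  rw [← sub_eq_zero, h3, e1, e2, sub_zero]

end Ring

end CfsgLib.QuadPair
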