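import Cfsg.Agent.Lib.QuadPair.Pairs

/-!
Non-unipotent pairs of root subgroups are special rank one pairs.
-/

set_option autoImplicit false

namespace CfsgLib.QuadPair

open Cfsg
open scoped commutatorElement

universe u

variable {k : Type u} [Field k] {M : Type u} [AddCommGroup M] [Module k M] [FiniteDimensional k M]
variable {G : Subgroup (LinearMap.GeneralLinearGroup k M)}

theorem weyl_inv_val {d : ℕ} {s q : Module.End k M} (h : Opp G d s q) :
    (1 - (s * q + q * s) + s - q) * (1 - (s * q + q * s) - s + q) = 1 := by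
  linear_combination (norm := noncomm_ring) h.sqs * q + h.qsq * s + s * h.right.sq * s +
    q * h.left.sq * q + q * h.left.sq - h.left.sq * q - s * h.right.sq + h.right.sq * s -
    h.left.sq - h.right.sq

theorem weyl_sq_val {d : ℕ} {s q : Module.End k M} (h : Opp G d s q) :
    (1 - (s * q + q * s) + s - q) * (1 - (s * q + q * s) + s - q) =
      1 - (2 : k) • (s * q + q * s) := by
  rw [two_smul]
  linear_combination (norm := noncomm_ring) h.sqs * q + h.qsq * s + s * h.right.sq * s +
    q * h.left.sq * q + h.left.sq + h.right.sq - q * h.left.sq - h.left.sq * q + s * h.right.sq +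
    h.right.sq * s - h.sqs - h.sqs + h.qsq + h.qsq

/-- The Weyl element of an opposite pair carries the class of `s` to that of `q`. -/
theorem weyl_cls {d : ℕ} {s q : Module.End k M} (h : Opp G d s q)
    {w : LinearMap.GeneralLinearGroup k M} (hw : (w : Module.End k M) = 1 - (s * q + q * s) + s - q)
    (hwG : w ∈ G) {x : Module.End k M} (hx : x ∈ Cls G s) : conjOp w x ∈ Cls G q := by
  have hi : ((w⁻¹ : LinearMap.GeneralLinearGroup k M) : Module.End k M) =
      1 - (s * q + q * s) - s + q := by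
    refine Units.inv_eq_of_mul_eq_one_right ?_
    rw [hw]; exact weyl_inv_val h
  have hxs : x * s = 0 := Cls.mul_eq_zero h.left.sq hx h.left.mem_cls
  have hsx : s * x = 0 := Cls.mul_eq_zero h.left.sq h.left.mem_cls hx
  have h1 : s * q * x = x := by
    ext m
    obtain ⟨v, hv⟩ := hx.2.2.1 ⟨m, rfl⟩
    rw [Module.End.mul_apply, ← hv, ← Module.End.mul_apply, h.sqs]
  have h2 : x * (q * s) = x := by
    ext m
    have : s ((q * s) m - m) = 0 := by
      rw [map_sub, ← Module.End.mul_apply, ← mul_assoc, h.sqs, sub_self]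
    have := hx.2.2.2 this
    rwa [LinearMap.mem_ker, map_sub, sub_eq_zero] at this
  have hc : conjOp w x = -(q * x * q) := by
    rw [conjOp, hw, hi]
    have hl : (1 - (s * q + q * s) + s - q) * x = -(q * x) := by
      linear_combination (norm := noncomm_ring) -h1 - q * hsx + hsx
    rw [hl]
    linear_combination (norm := noncomm_ring) q * h2 + q * hxs * q + q * hxs
  refine ⟨by rw [← conjOp_mul, hx.1, conjOp_zero], hx.2.1.conj hwG, ?_, ?_⟩
  · rw [hc, LinearMap.range_neg, mul_assoc]; exact range_mul_le _ _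
  · intro m hm
    rw [hc, LinearMap.mem_ker, LinearMap.neg_apply, LinearMap.mem_ker.1 (ker_le_ker_mul (q * x) q hm),
      neg_zero]

variable (hk2 : ringChar k ≠ 2) (hk3 : Nat.card k ≠ 3) (hG : IsQuadraticPair G)
include hk2 hk3 hG

omit hk2 hk3 hG in
theorem op_inv {g : LinearMap.GeneralLinearGroup k M} (h : op g * op g = 0) : op g⁻¹ = -op g := by
  have : ((g⁻¹ : LinearMap.GeneralLinearGroup k M) : Module.End k M) = 1 - op g := by
    refine Units.inv_eq_of_mul_eq_one_right ?_
    rw [val_eq g]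
    linear_combination (norm := noncomm_ring) -h
  show ((g⁻¹ : LinearMap.GeneralLinearGroup k M) : Module.End k M) - 1 = _
  rw [this]; abel

omit hk2 hk3 hG in
/-- The word `a b⁻¹ a` of an opposite pair. -/
theorem weyl_val {d : ℕ} {a b : LinearMap.GeneralLinearGroup k M} (h : Opp G d (op a) (op b)) :
    ((a * b⁻¹ * a : LinearMap.GeneralLinearGroup k M) : Module.End k M) =
      1 - (op a * op b + op b * op a) + op a - op b := by
  have hb : ((b⁻¹ : LinearMap.GeneralLinearGroup k M) : Module.End k M) = 1 - op b := by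
    rw [val_eq b⁻¹, op_inv h.right.sq]; abel
  rw [Units.val_mul, Units.val_mul, hb, val_eq a]
  linear_combination (norm := noncomm_ring) h.left.sq - h.sqs

/-- The rank one condition, with its uniqueness. -/
theorem opp_conj {σ τ : LinearMap.GeneralLinearGroup k M} (hσ : σ ∈ minimalQuadraticElements G)
    (hτ : τ ∈ minimalQuadraticElements G) (hnil : ¬ IsNilpotent (op τ * op σ))
    {a : LinearMap.GeneralLinearGroup k M} (ha : a ∈ sameActionSubgroup G σ) (ha1 : a ≠ 1) :
    ∃ b ∈ sameActionSubgroup G τ, Opp G (rk (op σ)) (op a) (op b) ∧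
      conjBy (sameActionSubgroup G σ) b⁻¹ = conjBy (sameActionSubgroup G τ) a⁻¹ ∧
      ∀ b' ∈ sameActionSubgroup G τ,
        conjBy (sameActionSubgroup G σ) b'⁻¹ = conjBy (sameActionSubgroup G τ) a⁻¹ → b' = b := by
  have hm := minRank_of_mem hσ
  have h2 := Ring.two_ne_zero hk2
  have hs := root_of_mem hσ hσ
  have ht := root_of_mem hσ hτ
  have hs' := (mem_E_iff hk2 hk3 hG hσ).1 ha
  have hs0 : op a ≠ 0 := fun e => ha1 (op_eq_zero.1 e)
  obtain ⟨har, haR, haK⟩ := Cls.root hm hs hs' hs0
  have hclsa := Cls.eq hm hs hs' hs0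
  have hnil' : ¬ IsNilpotent (op τ * op a) := fun h =>
    hnil (nilp_of_cls hm h2 hk3 har ht (hclsa.symm ▸ hs.mem_cls) ht.mem_cls h)
  obtain ⟨q, hq, hopp⟩ := exists_opp hm h2 hk3 har ht hnil'
  obtain ⟨b, hb⟩ := exists_elem hq.1
  have hbq : op b = q := by rw [op, hb, add_sub_cancel_left]
  subst hbq
  have hclsb := Cls.eq hm ht hq (hopp.right.ne_zero hm)
  have hbE : b ∈ sameActionSubgroup G τ := (mem_E_iff hk2 hk3 hG hτ).2 hq
  set w := a * b⁻¹ * a with hw
  have hwv := weyl_val hopp
  have haG := E_le hk2 hk3 hG hσ ha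
  have hbG := E_le hk2 hk3 hG hτ hbE
  have hwG : w ∈ G := G.mul_mem (G.mul_mem haG (G.inv_mem hbG)) haG
  have hw1 : ((w⁻¹ : LinearMap.GeneralLinearGroup k M) : Module.End k M) =
      1 - (op b * op a + op a * op b) + op b - op a := by
    refine Units.inv_eq_of_mul_eq_one_right ?_
    rw [hw, hwv]
    have h' := weyl_inv_val hopp
    rw [add_comm (op b * op a) (op a * op b),
      show 1 - (op a * op b + op b * op a) + op b - op a = 1 - (op a * op b + op b * op a) - op a + op b by abel]
    exact h'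
  have hmap : conjBy (sameActionSubgroup G σ) w = sameActionSubgroup G τ := by
    ext y
    rw [Subgroup.mem_map]
    constructor
    · rintro ⟨z, hz, rfl⟩
      rw [mem_E_iff hk2 hk3 hG hτ]
      show op (w * z * w⁻¹) ∈ _
      rw [op_conj, ← hclsb]
      exact weyl_cls hopp hwv hwG (hclsa.symm ▸ (mem_E_iff hk2 hk3 hG hσ).1 hz)
    · intro hy
      refine ⟨w⁻¹ * y * w, (mem_E_iff hk2 hk3 hG hσ).2 ?_, by simp [mul_assoc]⟩
      have := weyl_cls hopp.symm hw1 (G.inv_mem hwG) (hclsb.symm ▸ (mem_E_iff hk2 hk3 hG hτ).1 hy)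
      rwa [hclsa, ← op_conj, inv_inv] at this
  have hcomp : ∀ (A : Subgroup (LinearMap.GeneralLinearGroup k M)) (g h : LinearMap.GeneralLinearGroup k M),
      conjBy (conjBy A h) g = conjBy A (g * h) := by
    intro A g h
    ext y
    simp only [Subgroup.mem_map, exists_exists_and_eq_and]
    refine exists_congr fun z => and_congr_right fun _ => ?_
    simp [mul_assoc]
  have hfix : conjBy (sameActionSubgroup G σ) a = sameActionSubgroup G σ := by
    ext y
    rw [Subgroup.mem_map]
    constructor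
    · rintro ⟨z, hz, rfl⟩; exact mul_mem (mul_mem ha hz) (inv_mem ha)
    · intro hy; exact ⟨a⁻¹ * y * a, mul_mem (mul_mem (inv_mem ha) hy) ha, by simp [mul_assoc]⟩
  have hiff : ∀ b' : LinearMap.GeneralLinearGroup k M,
      conjBy (sameActionSubgroup G σ) b'⁻¹ = conjBy (sameActionSubgroup G τ) a⁻¹ ↔
        conjBy (sameActionSubgroup G σ) (a * b'⁻¹ * a) = sameActionSubgroup G τ := by
    intro b'
    have e1 : conjBy (sameActionSubgroup G σ) (a * b'⁻¹ * a) =
        conjBy (conjBy (sameActionSubgroup G σ) b'⁻¹) a := by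
      rw [← hcomp, hfix, ← hcomp]
    have e2 : ∀ A, conjBy (conjBy A a⁻¹) a = A := fun A => by
      rw [hcomp, mul_inv_cancel]; ext y; simp
    have e3 : ∀ A, conjBy (conjBy A a) a⁻¹ = A := fun A => by
      rw [hcomp, inv_mul_cancel]; ext y; simp
    constructor
    · intro h; rw [e1, h, e2]
    · intro h; rw [← h, e1, e3]
  refine ⟨b, hbE, hopp, (hiff b).2 hmap, fun b' hb' h => ?_⟩
  have hmap' := (hiff b').1 h
  set t' := op b' with ht'
  have ht'c := (mem_E_iff hk2 hk3 hG hτ).1 hb'
  have hin : a * b'⁻¹ * a * a * (a * b'⁻¹ * a)⁻¹ ∈ sameActionSubgroup G τ := hmap' ▸ ⟨a, ha, rfl⟩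
  have hR := ((mem_E_iff hk2 hk3 hG hτ).1 hin).2.2.1
  rw [op_conj, range_conjOp, ← range_mul] at hR
  have hval : ((a * b'⁻¹ * a : LinearMap.GeneralLinearGroup k M) : Module.End k M) * op a =
      op a - t' * op a - op a * t' * op a := by
    have hb' : ((b'⁻¹ : LinearMap.GeneralLinearGroup k M) : Module.End k M) = 1 - t' := by
      rw [val_eq b'⁻¹, op_inv ht'c.1]; abel
    rw [Units.val_mul, Units.val_mul, hb', val_eq a]
    linear_combination (norm := noncomm_ring) hs'.1 + hs'.1 + op a * hs'.1 - t' * hs'.1 - op a * t' * hs'.1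
  have hdisj := ((nonnil_iff hm h2 hk3 har ht).1 hnil').1
  have hsts : op a * t' * op a = op a := by
    ext m
    have h1 : (op a - op a * t' * op a) m ∈ LinearMap.range (op τ) := by
      have e : (op a - op a * t' * op a) m =
          (((a * b'⁻¹ * a : LinearMap.GeneralLinearGroup k M) : Module.End k M) * op a) m + t' (op a m) := by
        rw [hval]
        simp only [LinearMap.sub_apply, Module.End.mul_apply]
        abel
      rw [e]
      exact Submodule.add_mem _ (hR ⟨m, rfl⟩) (ht'c.2.2.1 ⟨_, rfl⟩)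
    have h3 : (op a - op a * t' * op a) m ∈ LinearMap.range (op a) :=
      ⟨m - t' (op a m), by simp only [LinearMap.sub_apply, Module.End.mul_apply, map_sub]⟩
    have h4 : (op a - op a * t' * op a) m ∈ LinearMap.range (op a) ⊓ LinearMap.ker (op τ) :=
      ⟨h3, (mul_eq_zero_iff.1 ht.sq) h1⟩
    rw [hdisj, Submodule.mem_bot, LinearMap.sub_apply, sub_eq_zero] at h4
    exact h4.symm
  refine op_inj (sub_eq_zero.1 ?_)
  have hd : t' - op b ∈ Cls G (op τ) := by
    rw [sub_eq_add_neg]
    have := Cls.smul hq (-1 : k)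
    rw [neg_one_smul] at this
    exact Cls.add ht.sq ht'c this
  rw [← hclsb] at hd
  have e1 : op b * op a * (t' - op b) = t' - op b := by
    ext m
    obtain ⟨v, hv⟩ := hd.2.2.1 ⟨m, rfl⟩
    rw [Module.End.mul_apply, ← hv, ← Module.End.mul_apply, hopp.qsq]
  have e2 : (t' - op b) * (op a * op b) = t' - op b := by
    ext m
    have : op b ((op a * op b) m - m) = 0 := by
      rw [map_sub, ← Module.End.mul_apply, ← mul_assoc, hopp.qsq, sub_self]
    have := hd.2.2.2 this
    rwa [LinearMap.mem_ker, map_sub, sub_eq_zero] at this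
  calc t' - op b = op b * op a * ((t' - op b) * (op a * op b)) := by rw [e2, e1]
    _ = op b * (op a * t' * op a - op a * op b * op a) * op b := by noncomm_ring
    _ = 0 := by rw [hsts, hopp.sqs, sub_self, mul_zero, zero_mul]

theorem special_pair {σ τ : LinearMap.GeneralLinearGroup k M} (hσ : σ ∈ minimalQuadraticElements G)
    (hτ : τ ∈ minimalQuadraticElements G) (hnil : ¬ IsNilpotent (op τ * op σ)) :
    IsSpecialRankOnePair (sameActionSubgroup G σ) (sameActionSubgroup G τ) := by
  have hcond : ∀ σ τ : LinearMap.GeneralLinearGroup k M, σ ∈ minimalQuadraticElements G →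
      τ ∈ minimalQuadraticElements G → ¬ IsNilpotent (op τ * op σ) →
      RankOneCondition (sameActionSubgroup G σ) (sameActionSubgroup G τ) := by
    intro σ τ hσ hτ hnil a ha ha1
    obtain ⟨b, hb, hopp, hc, -⟩ := opp_conj hk2 hk3 hG hσ hτ hnil ha ha1
    refine ⟨b, hb, fun e => hopp.right.ne_zero (minRank_of_mem hσ) (op_eq_zero.2 e), hc⟩
  haveI := (Cfsg.Agent.S5059.result hk2 hk3 hG hσ).2.1
  haveI := (Cfsg.Agent.S5059.result hk2 hk3 hG hτ).2.1
  refine ⟨⟨fun e => ?_, CfsgLib.ThreeTrans.RankOneSL2.nilp _, CfsgLib.ThreeTrans.RankOneSL2.nilp _,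
    hcond σ τ hσ hτ hnil, hcond τ σ hτ hσ (fun h => hnil (isNilpotent_swap h))⟩, ?_⟩
  · have hσ' : σ ∈ sameActionSubgroup G τ := e ▸ self_mem_E hk2 hk3 hG hσ
    refine hnil ⟨1, ?_⟩
    rw [pow_one, Cls.mul_eq_zero (root_of_mem hτ hτ).sq (root_of_mem hτ hτ).mem_cls
      ((mem_E_iff hk2 hk3 hG hτ).1 hσ')]
  · intro a ha ha1 b hb _ hc
    obtain ⟨b₀, hb₀, hopp, -, huniq⟩ := opp_conj hk2 hk3 hG hσ hτ hnil ha ha1
    obtain rfl := huniq b hb hc
    have hb' : ((b⁻¹ : LinearMap.GeneralLinearGroup k M) : Module.End k M) = 1 - op b := by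
      rw [val_eq b⁻¹, op_inv hopp.right.sq]; abel
    have ha' : ((a⁻¹ : LinearMap.GeneralLinearGroup k M) : Module.End k M) = 1 - op a := by
      rw [val_eq a⁻¹, op_inv hopp.left.sq]; abel
    apply Units.ext
    rw [Units.val_mul, Units.val_mul, Units.val_mul, Units.val_mul, hb', ha', val_eq a, val_eq b]
    linear_combination (norm := noncomm_ring) -hopp.qsq - hopp.sqs - hopp.right.sq + hopp.left.sq

/-- The central involution and the decomposition. -/
theorem involution_part {σ τ : LinearMap.GeneralLinearGroup k M} (hσ : σ ∈ minimalQuadraticElements G)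
    (hτ : τ ∈ minimalQuadraticElements G) (hnil : ¬ IsNilpotent (op τ * op σ)) :
    (∃! i : LinearMap.GeneralLinearGroup k M, i ∈ sameActionSubgroup G σ ⊔ sameActionSubgroup G τ ∧
        i ≠ 1 ∧ i * i = 1 ∧
        (∀ x ∈ sameActionSubgroup G σ ⊔ sameActionSubgroup G τ, i * x = x * i) ∧
        (∀ m ∈ commutatorSubmodule (sameActionSubgroup G σ ⊔ sameActionSubgroup G τ),
          (i : M →ₗ[k] M) m = -m) ∧
        (∀ m ∈ fixedSubmodule (sameActionSubgroup G σ ⊔ sameActionSubgroup G τ),
          (i : M →ₗ[k] M) m = m)) ∧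
      IsCompl (fixedSubmodule (sameActionSubgroup G σ ⊔ sameActionSubgroup G τ))
        (commutatorSubmodule (sameActionSubgroup G σ ⊔ sameActionSubgroup G τ)) := by
  have hm := minRank_of_mem hσ
  have hs := root_of_mem hσ hσ
  have hσ1 : σ ≠ 1 := fun e => hs.ne_zero hm (op_eq_zero.2 e)
  obtain ⟨b, hb, hopp, -, -⟩ := opp_conj hk2 hk3 hG hσ hτ hnil (self_mem_E hk2 hk3 hG hσ) hσ1
  set X := sameActionSubgroup G σ ⊔ sameActionSubgroup G τ with hX
  set f := op σ * op b + op b * op σ with hf
  set s := op σ with hsd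
  set q := op b with hqd
  have hff : f * f = f := by
    rw [hf]
    linear_combination (norm := noncomm_ring) hopp.sqs * q + hopp.qsq * s + s * hopp.right.sq * s + q * hopp.left.sq * q
  have hclsb := Cls.eq hm (root_of_mem hσ hτ) ((mem_E_iff hk2 hk3 hG hτ).1 hb) (hopp.right.ne_zero hm)
  have hgen : ∀ (x y : Module.End k M), Opp G (rk s) x y → x * y + y * x = f → ∀ z ∈ Cls G x,
      f * z = z ∧ z * f = z := by
    intro x y hxy hxyf z hz
    rw [← hxyf]
    have hzx : z * x = 0 := Cls.mul_eq_zero hxy.left.sq hz hxy.left.mem_cls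
    have hxz : x * z = 0 := Cls.mul_eq_zero hxy.left.sq hxy.left.mem_cls hz
    have h1 : x * y * z = z := by
      ext m
      obtain ⟨v, hv⟩ := hz.2.2.1 ⟨m, rfl⟩
      rw [Module.End.mul_apply, ← hv, ← Module.End.mul_apply, hxy.sqs]
    have h2 : z * (y * x) = z := by
      ext m
      have : x ((y * x) m - m) = 0 := by
        rw [map_sub, ← Module.End.mul_apply, ← mul_assoc, hxy.sqs, sub_self]
      have := hz.2.2.2 this
      rwa [LinearMap.mem_ker, map_sub, sub_eq_zero] at this
    exact ⟨by linear_combination (norm := noncomm_ring) h1 + y * hxz,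
      by linear_combination (norm := noncomm_ring) h2 + hzx * y⟩
  have hmemX : ∀ g ∈ X, f * op g = op g ∧ op g * f = op g := by
    intro g hg
    rw [hX, ← Subgroup.closure_eq (sameActionSubgroup G σ), ← Subgroup.closure_eq (sameActionSubgroup G τ),
      ← Subgroup.closure_union] at hg
    induction hg using Subgroup.closure_induction with
    | mem x hx =>
      rcases hx with hx | hx
      · exact hgen s q hopp rfl _ ((mem_E_iff hk2 hk3 hG hσ).1 hx)
      · exact hgen q s hopp.symm (add_comm _ _) _ (hclsb.symm ▸ (mem_E_iff hk2 hk3 hG hτ).1 hx)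
    | one => simp [op]
    | mul x y _ _ hx hy =>
      have e : op (x * y) = op x + op y + op x * op y := by simp only [op, Units.val_mul]; noncomm_ring
      rw [e]
      exact ⟨by rw [mul_add, mul_add, hx.1, hy.1, ← mul_assoc, hx.1],
        by rw [add_mul, add_mul, hx.2, hy.2, mul_assoc, hy.2]⟩
    | inv x _ hx =>
      have e1 : op x⁻¹ = -(((x⁻¹ : LinearMap.GeneralLinearGroup k M) : Module.End k M) * op x) := by
        simp only [op, mul_sub, Units.inv_mul, mul_one]; abel
      have e2 : op x⁻¹ = -(op x * ((x⁻¹ : LinearMap.GeneralLinearGroup k M) : Module.End k M)) := by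
        simp only [op, sub_mul, Units.mul_inv, one_mul]; abel
      exact ⟨by rw [e2, mul_neg, ← mul_assoc, hx.1], by rw [e1, neg_mul, mul_assoc, hx.2]⟩
  have hσX : σ ∈ X := Subgroup.mem_sup_left (self_mem_E hk2 hk3 hG hσ)
  have hbX : b ∈ X := Subgroup.mem_sup_right hb
  have hcomm : commutatorSubmodule X = LinearMap.range f := by
    refine le_antisymm (iSup₂_le fun g hg => ?_) ?_
    · show LinearMap.range (op g) ≤ _
      rw [← (hmemX g hg).1]; exact range_mul_le _ _
    · rintro m ⟨v, rfl⟩
      rw [hf, LinearMap.add_apply]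
      exact Submodule.add_mem _
        (le_iSup₂ (f := fun (g : LinearMap.GeneralLinearGroup k M) (_ : g ∈ X) => LinearMap.range (op g))
          σ hσX ⟨q v, rfl⟩)
        (le_iSup₂ (f := fun (g : LinearMap.GeneralLinearGroup k M) (_ : g ∈ X) => LinearMap.range (op g))
          b hbX ⟨s v, rfl⟩)
  have hfix : fixedSubmodule X = LinearMap.ker f := by
    refine le_antisymm (fun m hm' => ?_) (le_iInf₂ fun g hg => ?_)
    · have h1 : s m = 0 := LinearMap.mem_ker.1 ((Submodule.mem_iInf _).1 ((Submodule.mem_iInf _).1 hm' σ) hσX)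
      have h2 : q m = 0 := LinearMap.mem_ker.1 ((Submodule.mem_iInf _).1 ((Submodule.mem_iInf _).1 hm' b) hbX)
      rw [LinearMap.mem_ker, hf, LinearMap.add_apply, Module.End.mul_apply, Module.End.mul_apply, h1, h2,
        map_zero, map_zero, add_zero]
    · show LinearMap.ker f ≤ LinearMap.ker (op g)
      rw [← (hmemX g hg).2]; exact ker_le_ker_mul _ _
  rw [hcomm, hfix]
  have hwv := weyl_val hopp
  set w := σ * b⁻¹ * σ with hw
  have hiv : ((w * w : LinearMap.GeneralLinearGroup k M) : Module.End k M) = 1 - (2 : k) • f := by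
    rw [Units.val_mul, hwv]
    exact weyl_sq_val hopp
  have hfix1 : ∀ m, f m = 0 → ((w * w : LinearMap.GeneralLinearGroup k M) : M →ₗ[k] M) m = m := by
    intro m hm'
    show ((w * w : LinearMap.GeneralLinearGroup k M) : Module.End k M) m = m
    rw [hiv, LinearMap.sub_apply, LinearMap.smul_apply, hm', smul_zero, sub_zero]; rfl
  have hneg : ∀ v, ((w * w : LinearMap.GeneralLinearGroup k M) : M →ₗ[k] M) (f v) = -f v := by
    intro v
    show ((w * w : LinearMap.GeneralLinearGroup k M) : Module.End k M) (f v) = -f v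
    rw [hiv, LinearMap.sub_apply, LinearMap.smul_apply, ← Module.End.mul_apply, ← Module.End.mul_apply, hff,
      one_mul, two_smul]
    abel
  have hwX : w ∈ X := X.mul_mem (X.mul_mem hσX (X.inv_mem hbX)) hσX
  have hsplit : ∀ m : M, f (m - f m) = 0 := fun m => by
    rw [map_sub, ← Module.End.mul_apply, hff, sub_self]
  refine ⟨⟨w * w, ⟨X.mul_mem hwX hwX, fun e => ?_, ?_, fun x hx => ?_, ?_, ?_⟩, fun j hj => ?_⟩, ?_⟩
  · have h1 := congrArg (fun g : LinearMap.GeneralLinearGroup k M => (g : Module.End k M)) e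
    simp only [hiv, Units.val_one, sub_eq_self, smul_eq_zero] at h1
    have hf0 : f = 0 := h1.resolve_left (Ring.two_ne_zero hk2)
    have := (hgen s q hopp rfl s hopp.left.mem_cls).1
    rw [hf0, zero_mul] at this
    exact hs.ne_zero hm this.symm
  · apply Units.ext
    rw [Units.val_mul (w * w), hiv, Units.val_one]
    simp only [mul_sub, sub_mul, one_mul, mul_one, smul_mul_assoc, mul_smul_comm, hff, smul_smul]
    module
  · apply Units.ext
    rw [Units.val_mul (w * w), Units.val_mul x, hiv]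
    obtain ⟨e1, e2⟩ := hmemX x hx
    have e3 : f * (x : Module.End k M) = (x : Module.End k M) * f := by
      rw [val_eq x, mul_add f, add_mul _ (op x), e1, e2, mul_one f, one_mul f]
    rw [sub_mul, mul_sub, one_mul, mul_one, smul_mul_assoc, mul_smul_comm, e3]
  · rintro _ ⟨v, rfl⟩; exact hneg v
  · exact fun m hm' => hfix1 m hm'
  · obtain ⟨-, -, -, -, hj1, hj2⟩ := hj
    apply Units.ext
    refine LinearMap.ext fun m => ?_
    conv_lhs => rw [← sub_add_cancel m (f m), map_add]
    conv_rhs => rw [← sub_add_cancel m (f m), map_add]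
    rw [hj2 _ (hsplit m), hj1 _ ⟨m, rfl⟩, hfix1 _ (hsplit m), hneg m]
  · refine ⟨?_, ?_⟩
    · rw [disjoint_iff, eq_bot_iff]
      rintro _ ⟨h1, v, rfl⟩
      rw [Submodule.mem_bot, ← hff, Module.End.mul_apply]
      exact LinearMap.mem_ker.1 h1
    · rw [codisjoint_iff, eq_top_iff]
      intro m _
      rw [← sub_add_cancel m (f m)]
      exact Submodule.add_mem_sup (hsplit m) ⟨m, rfl⟩

end CfsgLib.QuadPair
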