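import Cfsg.Agent.Lib.QuadPair.Basic
import Cfsg.Agent.Lib.QuadPair.SL2Gen

/-!
`SL₂(A)` acting through a pair `s`, `q` with `sqs = s`, `qsq = q`, and the graded filtration of
a pair of operators with nilpotent products.
-/

set_option autoImplicit false

namespace CfsgLib.QuadPair

open Matrix

variable {k : Type*} [Field k] {M : Type*} [AddCommGroup M] [Module k M]
variable {A : Type*} [CommRing A] [Algebra k A]

/-- The data turning `SL₂(A)` into operators on `M`. -/
structure SL2Act (κ : A →ₗ[k] Module.End k M) (s q : Module.End k M) : Prop where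
  ss : s * s = 0
  qq : q * q = 0
  sqs : s * q * s = s
  qsq : q * s * q = q
  mul : ∀ a b, κ (a * b) = κ a * κ b
  one : κ 1 = s * q + q * s
  comm_s : ∀ a, κ a * s = s * κ a
  comm_q : ∀ a, κ a * q = q * κ a

/-- The four matrix units. -/
def theta (κ : A →ₗ[k] Module.End k M) (s q : Module.End k M) (X : Matrix (Fin 2) (Fin 2) A) :
    Module.End k M :=
  κ (X 0 0) * (s * q) + κ (X 0 1) * s + κ (X 1 0) * q + κ (X 1 1) * (q * s)

variable {κ : A →ₗ[k] Module.End k M} {s q : Module.End k M}

theorem SL2Act.f_left (h : SL2Act κ s q) : (s * q + q * s) * s = s ∧ (s * q + q * s) * q = q := by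
  constructor
  · rw [add_mul, h.sqs, mul_assoc q, h.ss, mul_zero, add_zero]
  · rw [add_mul, mul_assoc s, h.qq, mul_zero, h.qsq, zero_add]

theorem SL2Act.f_right (h : SL2Act κ s q) : s * (s * q + q * s) = s ∧ q * (s * q + q * s) = q := by
  constructor
  · rw [mul_add, ← mul_assoc, h.ss, zero_mul, zero_add, ← mul_assoc, h.sqs]
  · rw [mul_add, ← mul_assoc, h.qsq, ← mul_assoc, h.qq, zero_mul, add_zero]

theorem SL2Act.theta_mul (h : SL2Act κ s q) (X Y : Matrix (Fin 2) (Fin 2) A) :
    theta κ s q (X * Y) = theta κ s q X * theta κ s q Y := by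
  have r1 : ∀ a x, s * (κ a * x) = κ a * (s * x) := fun a x => by
    rw [← mul_assoc, ← h.comm_s, mul_assoc]
  have r2 : ∀ a x, q * (κ a * x) = κ a * (q * x) := fun a x => by
    rw [← mul_assoc, ← h.comm_q, mul_assoc]
  have ss : ∀ x, s * (s * x) = 0 := fun x => by rw [← mul_assoc, h.ss, zero_mul]
  have qq : ∀ x, q * (q * x) = 0 := fun x => by rw [← mul_assoc, h.qq, zero_mul]
  have sqs : ∀ x, s * (q * (s * x)) = s * x := fun x => by rw [← mul_assoc, ← mul_assoc, h.sqs]
  have qsq : ∀ x, q * (s * (q * x)) = q * x := fun x => by rw [← mul_assoc, ← mul_assoc, h.qsq]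
  have sqs' : s * (q * s) = s := by rw [← mul_assoc, h.sqs]
  have qsq' : q * (s * q) = q := by rw [← mul_assoc, h.qsq]
  simp only [theta, Matrix.mul_apply, Fin.sum_univ_two, map_add, h.mul, mul_add, add_mul, mul_assoc,
    r1, r2, ss, qq, sqs, qsq, sqs', qsq', h.ss, h.qq, mul_zero, add_zero, zero_add]
  abel

theorem SL2Act.theta_one (h : SL2Act κ s q) :
    theta κ s q 1 = s * q + q * s := by
  simp [theta, h.one, add_mul, mul_assoc]
  have sqs : ∀ x, s * (q * (s * x)) = s * x := fun x => by rw [← mul_assoc, ← mul_assoc, h.sqs]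
  have qsq : ∀ x, q * (s * (q * x)) = q * x := fun x => by rw [← mul_assoc, ← mul_assoc, h.qsq]
  have ss : ∀ x, s * (s * x) = 0 := fun x => by rw [← mul_assoc, h.ss, zero_mul]
  have qq : ∀ x, q * (q * x) = 0 := fun x => by rw [← mul_assoc, h.qq, zero_mul]
  simp [sqs, qsq, ss, qq]

theorem SL2Act.corner (h : SL2Act κ s q) (X : Matrix (Fin 2) (Fin 2) A) :
    theta κ s q X * (s * q + q * s) = theta κ s q X ∧
      (s * q + q * s) * theta κ s q X = theta κ s q X := by
  rw [← h.theta_one]
  constructor
  · rw [← h.theta_mul, mul_one]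
  · rw [← h.theta_mul, one_mul]

/-- The representation as operators. -/
noncomputable def SL2Act.repEnd (h : SL2Act κ s q) :
    SpecialLinearGroup (Fin 2) A →* Module.End k M where
  toFun g := 1 - (s * q + q * s) + theta κ s q (mat g)
  map_one' := by rw [mat_one, h.theta_one, sub_add_cancel]
  map_mul' g g' := by
    have h1 := h.corner (mat g)
    have h2 := h.corner (mat g')
    have hf : (s * q + q * s) * (s * q + q * s) = s * q + q * s := by
      rw [← h.theta_one, ← h.theta_mul, mul_one]
    rw [mat_mul, h.theta_mul]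
    simp only [mul_add, add_mul, mul_sub, sub_mul, one_mul, mul_one, mul_assoc] at h1 h2 hf ⊢
    rw [← sub_eq_zero]
    linear_combination (norm := noncomm_ring) h1.1 + h2.2 - hf

/-- The representation. -/
noncomputable def SL2Act.rep (h : SL2Act κ s q) :
    SpecialLinearGroup (Fin 2) A →* LinearMap.GeneralLinearGroup k M :=
  h.repEnd.toHomUnits

theorem SL2Act.rep_val (h : SL2Act κ s q) (g : SpecialLinearGroup (Fin 2) A) :
    ((h.rep g : LinearMap.GeneralLinearGroup k M) : Module.End k M) =
      1 - (s * q + q * s) + theta κ s q (mat g) := rfl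

theorem SL2Act.rep_up (h : SL2Act κ s q) (a : A) :
    ((h.rep (up a) : LinearMap.GeneralLinearGroup k M) : Module.End k M) = 1 + κ a * s := by
  rw [h.rep_val]
  have h1 := h.theta_one
  simp only [theta, up_coe] at h1 ⊢
  simp at h1 ⊢
  rw [← h1]
  abel

theorem SL2Act.rep_lo (h : SL2Act κ s q) (a : A) :
    ((h.rep (lo a) : LinearMap.GeneralLinearGroup k M) : Module.End k M) = 1 + κ a * q := by
  rw [h.rep_val]
  have h1 := h.theta_one
  simp only [theta, lo_coe] at h1 ⊢
  simp at h1 ⊢
  rw [← h1]
  abel

theorem SL2Act.rep_injective (h : SL2Act κ s q) (hκ : Function.Injective κ) :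
    Function.Injective h.rep := by
  rw [injective_iff_map_eq_one]
  intro g hg
  have hv := congrArg (fun u : LinearMap.GeneralLinearGroup k M => (u : Module.End k M)) hg
  simp only [h.rep_val, Units.val_one] at hv
  have ht : theta κ s q (mat g) = theta κ s q 1 := by
    rw [h.theta_one]; linear_combination (norm := noncomm_ring) hv
  -- recover the entries
  have hkey : ∀ X : Matrix (Fin 2) (Fin 2) A, theta κ s q X = 0 → X = 0 := by
    intro X hX
    have hE : ∀ i j : Fin 2, theta κ s q (Matrix.single 0 i 1 * X * Matrix.single j 0 1) = 0 := by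
      intro i j; rw [h.theta_mul, h.theta_mul, hX, mul_zero, zero_mul]
    ext i j
    have := hE i j
    rw [Matrix.single_mul_mul_single] at this
    simp [theta] at this
    apply hκ
    have h2 : κ (X i j) * (s * q) * s = 0 := by rw [this, zero_mul]
    rw [mul_assoc, h.sqs] at h2
    rw [Matrix.zero_apply, map_zero]
    calc κ (X i j) = κ (X i j * 1) := by rw [mul_one]
      _ = κ (X i j) * s * q + q * (κ (X i j) * s) := by
        rw [h.mul, h.one, mul_add, ← mul_assoc, ← mul_assoc, h.comm_q, mul_assoc q]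
      _ = 0 := by rw [h2, mul_zero, zero_mul, add_zero]
  have hsub : theta κ s q (mat g - 1) = 0 := by
    have : theta κ s q (mat g - 1) = theta κ s q (mat g) - theta κ s q 1 := by
      simp [theta, map_sub, sub_mul]
      abel
    rw [this, ht, sub_self]
  exact mat_injective (by rw [mat_one]; exact sub_eq_zero.1 (hkey _ hsub))

end CfsgLib.QuadPair
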