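import Cfsg.Agent.Lib.QuadPair.Unip
import Cfsg.Agent.Lib.QuadPair.Theta
import Cfsg.Agent.Lib.QuadPair.Graded

/-!
Two roots `s`, `t` with `ts` not nilpotent generate an `SL₂` over a simple extension field.
-/

set_option autoImplicit false

namespace CfsgLib.QuadPair

open Matrix Polynomial

universe u v

variable {k : Type u} [Field k] {M : Type v} [AddCommGroup M] [Module k M] [FiniteDimensional k M]
variable {G : Subgroup (LinearMap.GeneralLinearGroup k M)} {d : ℕ}

theorem exists_fitting (z : Module.End k M) :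
    ∃ f v : k[X], ∃ N : ℕ, aeval z f * aeval z f = aeval z f ∧
      aeval z v * aeval z f = aeval z v ∧ z * aeval z v = aeval z f ∧
      z ^ N * (1 - aeval z f) = 0 := by
  have hne : minpoly k z ≠ 0 := minpoly.ne_zero (Algebra.IsIntegral.isIntegral z)
  obtain ⟨q, hq, hnd⟩ := (Polynomial.finiteMultiplicity_of_degree_pos_of_monic
    (p := (X : k[X])) (by rw [Polynomial.degree_X]; exact zero_lt_one) Polynomial.monic_X hne).exists_eq_pow_mul_and_not_dvd
  set m := multiplicity (X : k[X]) (minpoly k z)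
  have hcop : IsCoprime ((X : k[X]) ^ (m + 1)) q :=
    ((Polynomial.irreducible_X.coprime_iff_not_dvd).2 hnd).pow_left
  obtain ⟨a, b, hab⟩ := hcop
  have hzero : aeval z (X ^ m * q) = 0 := by rw [← hq]; exact minpoly.aeval k z
  have hX : aeval z ((X : k[X]) ^ (m + 1) * q) = 0 := by
    rw [pow_succ', mul_assoc, map_mul, hzero, mul_zero]
  refine ⟨a * X ^ (m + 1), a * X ^ m * (a * X ^ (m + 1)), m + 1, ?_, ?_, ?_, ?_⟩
  · rw [← map_mul, ← sub_eq_zero, ← map_sub,
      show a * X ^ (m + 1) * (a * X ^ (m + 1)) - a * X ^ (m + 1) = (-(a * b)) * (X ^ (m + 1) * q) by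
        linear_combination (a * X ^ (m + 1)) * hab, map_mul, hX, mul_zero]
  · rw [← map_mul, ← sub_eq_zero, ← map_sub,
      show a * X ^ m * (a * X ^ (m + 1)) * (a * X ^ (m + 1)) - a * X ^ m * (a * X ^ (m + 1)) =
        (-(a * a * b * X ^ m)) * (X ^ (m + 1) * q) by
        linear_combination (a * X ^ m * a * X ^ (m + 1)) * hab, map_mul, hX, mul_zero]
  · have e : z * aeval z (a * X ^ m * (a * X ^ (m + 1))) =
        aeval z (X * (a * X ^ m * (a * X ^ (m + 1)))) := by rw [map_mul (aeval z) X, aeval_X]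
    rw [e, ← sub_eq_zero, ← map_sub,
      show X * (a * X ^ m * (a * X ^ (m + 1))) - a * X ^ (m + 1) =
        (-(a * b)) * (X ^ (m + 1) * q) by
        linear_combination (a * X ^ (m + 1)) * hab, map_mul, hX, mul_zero]
  · have e : z ^ (m + 1) * (1 - aeval z (a * X ^ (m + 1))) =
        aeval z (X ^ (m + 1) * (1 - a * X ^ (m + 1))) := by simp [mul_sub]
    rw [e, show X ^ (m + 1) * (1 - a * X ^ (m + 1)) = b * (X ^ (m + 1) * q) by
      linear_combination (-(X : k[X]) ^ (m + 1)) * hab, map_mul, hX, mul_zero]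

set_option maxHeartbeats 800000 in
/-- The structure of two roots with non-nilpotent product. -/
theorem split (hm : MinRank G d) (h2 : (2 : k) ≠ 0) (hk3 : Nat.card k ≠ 3) {s t : Module.End k M}
    (hs : Root G d s) (ht : Root G d t) (hnil : ¬ IsNilpotent (t * s)) :
    ∃ (K : Type u) (_ : Field K) (_ : Algebra k K) (lam : K) (κ : K →ₗ[k] Module.End k M)
      (q : Module.End k M) (h : SL2Act κ s q),
      IsAlgebraic k lam ∧ Algebra.adjoin k ({lam} : Set K) = ⊤ ∧ lam ≠ 0 ∧ Function.Injective κ ∧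
      κ lam * q = t ∧ (∀ a, κ a * s ∈ Cls G s) ∧ (∀ a, κ a * q ∈ Cls G t) := by
  set z := s * t + t * s with hz
  have hzs : z * s = s * z := by
    rw [hz, add_mul, mul_add, mul_assoc t, hs.sq, mul_zero, add_zero, ← mul_assoc s s, hs.sq,
      zero_mul, zero_add, mul_assoc]
  have hzt : z * t = t * z := by
    rw [hz, add_mul, mul_add, mul_assoc s, ht.sq, mul_zero, zero_add, ← mul_assoc t t, ht.sq,
      zero_mul, add_zero, mul_assoc]
  obtain ⟨fp, vp, N, hff, hvf, hzv, hN⟩ := exists_fitting z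
  set f := aeval z fp with hf
  set v := aeval z vp with hv
  have hcomm : ∀ (p : k[X]) (x : Module.End k M), z * x = x * z → aeval z p * x = x * aeval z p := by
    intro p x hx
    induction p using Polynomial.induction_on' with
    | add p r hp hr => rw [map_add, add_mul, mul_add, hp, hr]
    | monomial n a =>
      rw [Polynomial.aeval_monomial, mul_assoc, (Commute.pow_left hx n).eq, ← mul_assoc,
        ← mul_assoc, (Algebra.commutes a x)]
  have hfs : f * s = s * f := hcomm fp s hzs
  have hft : f * t = t * f := hcomm fp t hzt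
  have hvs : v * s = s * v := hcomm vp s hzs
  have hvt : v * t = t * v := hcomm vp t hzt
  have hfv : f * v = v := by
    rw [hf, hv, ← map_mul, mul_comm, map_mul]; exact hvf
  -- the pair
  obtain ⟨s1, hs1⟩ : ∃ x, x = s * f := ⟨_, rfl⟩
  obtain ⟨q, hq⟩ : ∃ x, x = t * v := ⟨_, rfl⟩
  have hsts : s * t * s = s * z := by
    rw [hz, mul_add, ← mul_assoc s s, hs.sq, zero_mul, zero_add, mul_assoc]
  have htst : t * s * t = t * z := by
    rw [hz, mul_add, ← mul_assoc t t, ht.sq, zero_mul, add_zero, mul_assoc]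
  have q1 : s1 * s1 = 0 := by
    rw [hs1, mul_assoc, ← mul_assoc f, hfs, mul_assoc s, ← mul_assoc, hs.sq, zero_mul]
  have q2 : q * q = 0 := by
    rw [hq, mul_assoc, ← mul_assoc v, hvt, mul_assoc t, ← mul_assoc, ht.sq, zero_mul]
  have hsf : f * f = f := hff
  have q3 : s1 * q * s1 = s1 := by
    calc s1 * q * s1 = s * (f * t) * (v * s) * f := by simp only [hs1, hq, mul_assoc]
      _ = s * t * (f * s) * (v * f) := by rw [hft, hvs]; simp only [mul_assoc]
      _ = (s * t * s) * (f * (v * f)) := by rw [hfs]; simp only [mul_assoc]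
      _ = s * (z * v) := by rw [hsts, hvf, hfv, mul_assoc]
      _ = s1 := by rw [hzv, hs1]
  have q4 : q * s1 * q = q := by
    calc q * s1 * q = t * (v * s) * (f * t) * v := by simp only [hs1, hq, mul_assoc]
      _ = t * s * (v * t) * (f * v) := by rw [hvs, hft]; simp only [mul_assoc]
      _ = (t * s * t) * (v * (f * v)) := by rw [hvt]; simp only [mul_assoc]
      _ = t * ((z * v) * v) := by rw [htst, hfv]; simp only [mul_assoc]
      _ = q := by rw [hzv, hfv, hq]
  have qf : s1 * q + q * s1 = f := by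
    calc s1 * q + q * s1 = s * (f * t) * v + t * (v * s) * f := by simp only [hs1, hq, mul_assoc]
      _ = s * t * (f * v) + t * s * (v * f) := by rw [hft, hvs]; simp only [mul_assoc]
      _ = f := by rw [hfv, hvf, ← add_mul, ← hz, hzv]
  -- the algebra
  let θ : k[X] →ₗ[k] Module.End k M := (LinearMap.mulRight k f).comp (aeval z).toLinearMap
  let I₀ : Ideal k[X] :=
    { carrier := {p | aeval z p * f = 0}
      zero_mem' := by simp
      add_mem' := fun {p r} hp hr => by
        simp only [Set.mem_ofPred_eq] at hp hr ⊢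
        rw [map_add, add_mul, hp, hr, add_zero]
      smul_mem' := fun a p hp => by
        simp only [Set.mem_ofPred_eq] at hp ⊢
        rw [smul_eq_mul, map_mul, mul_assoc, hp, mul_zero] }
  let A := k[X] ⧸ I₀
  have hθ : I₀.restrictScalars k ≤ LinearMap.ker θ := fun p hp => hp
  let κ : A →ₗ[k] Module.End k M :=
    ((I₀.restrictScalars k).liftQ θ hθ).comp
      (Submodule.Quotient.restrictScalarsEquiv k I₀).symm.toLinearMap
  have hκ : ∀ p : k[X], κ (Ideal.Quotient.mk I₀ p) = aeval z p * f := fun p => rfl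
  have hκinj : Function.Injective κ := by
    rw [injective_iff_map_eq_zero]
    intro a ha
    obtain ⟨p, rfl⟩ := Ideal.Quotient.mk_surjective a
    rw [hκ] at ha
    exact Ideal.Quotient.eq_zero_iff_mem.2 ha
  have hκone : κ 1 = f := by rw [← map_one (Ideal.Quotient.mk I₀), hκ, map_one, one_mul]
  have hκmul : ∀ a b, κ (a * b) = κ a * κ b := by
    intro a b
    obtain ⟨p, rfl⟩ := Ideal.Quotient.mk_surjective a
    obtain ⟨r, rfl⟩ := Ideal.Quotient.mk_surjective b
    rw [← map_mul, hκ, hκ, hκ, map_mul, mul_assoc (aeval z p) f, ← mul_assoc f (aeval z r),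
      hf, ← map_mul (aeval z) fp r, mul_comm fp r, map_mul, mul_assoc (aeval z r), ← hf, hsf, mul_assoc]
  have hpp : ∀ p r : k[X], Commute (aeval z p) (aeval z r) := fun p r =>
    (Commute.all p r).map (aeval z)
  have hκs : ∀ a, κ a * s1 = s1 * κ a := by
    intro a
    obtain ⟨p, rfl⟩ := Ideal.Quotient.mk_surjective a
    rw [hκ, hs1]
    exact Commute.mul_left (Commute.mul_right (hcomm p s hzs) (hpp p fp))
      (Commute.mul_right hfs (hpp fp fp))
  have hκq : ∀ a, κ a * q = q * κ a := by
    intro a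
    obtain ⟨p, rfl⟩ := Ideal.Quotient.mk_surjective a
    rw [hκ, hq]
    exact Commute.mul_left (Commute.mul_right (hcomm p t hzt) (hpp p vp))
      (Commute.mul_right hft (hpp fp vp))
  have hact : SL2Act κ s1 q := ⟨q1, q2, q3, q4, hκmul, by rw [hκone, qf], hκs, hκq⟩
  haveI : FiniteDimensional k A := Module.Finite.of_injective κ hκinj
  set lam := Ideal.Quotient.mk I₀ X with hlam
  have hlamv : lam * Ideal.Quotient.mk I₀ vp = 1 := by
    apply hκinj
    rw [hlam, ← map_mul, hκ, map_mul, aeval_X, hκone, ← hv, hzv, hsf]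
  have hlamu : IsUnit lam := IsUnit.of_mul_eq_one _ hlamv
  have hgen : Algebra.adjoin k ({lam} : Set A) = ⊤ := by
    have := congrArg (fun S => S.map (Ideal.Quotient.mkₐ k I₀)) (Polynomial.adjoin_X (R := k))
    rw [AlgHom.map_adjoin, Set.image_singleton] at this
    rw [show Algebra.adjoin k ({lam} : Set A) = _ from this, Algebra.map_top, AlgHom.range_eq_top]
    exact Ideal.Quotient.mk_surjective
  have hκlamq : κ lam * q = t * f := by
    rw [hlam, hκ, aeval_X, hq, mul_assoc, ← mul_assoc f, hft, mul_assoc t, hfv, ← mul_assoc,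
      hzt, mul_assoc, hzv]
  -- the group on both components
  set c₀ := 1 - f with hc₀
  have hc₀s : c₀ * s = s * c₀ := by rw [hc₀, sub_mul, mul_sub, one_mul, mul_one, hfs]
  have hc₀t : c₀ * t = t * c₀ := by rw [hc₀, sub_mul, mul_sub, one_mul, mul_one, hft]
  set GLM := LinearMap.GeneralLinearGroup k M
  let gens : Set (Matrix.SpecialLinearGroup (Fin 2) A × GLM) :=
    {x | x.2 ∈ G ∧ ∃ c : k, (x.1 = up (algebraMap k A c) ∧ (x.2 : Module.End k M) = 1 + c • s) ∨
      (x.1 = lo (algebraMap k A c * lam) ∧ (x.2 : Module.End k M) = 1 + c • t)}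
  let P := Subgroup.closure gens
  have hinv : ∀ x ∈ P, x.2 ∈ G ∧ (x.2 : Module.End k M) * f = (hact.rep x.1 : GLM) * f ∧
      x.2 ∈ congrUnits hc₀s hc₀t 1 := by
    intro x hx
    induction hx using Subgroup.closure_induction with
    | mem x hx =>
      obtain ⟨hG, c, ⟨h1, hv2⟩ | ⟨h1, hv2⟩⟩ := hx
      · refine ⟨hG, ?_, ?_⟩
        · rw [hv2, h1, hact.rep_up, Algebra.algebraMap_eq_smul_one, map_smul, hκone, add_mul,
            add_mul, smul_mul_assoc, smul_mul_assoc, smul_mul_assoc, hs1, ← mul_assoc f s, hfs,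
            mul_assoc s f f, hsf, mul_assoc s f f, hsf]
        · have hinv : ((x.2⁻¹ : GLM) : Module.End k M) = 1 + (-c) • s := by
            refine Units.inv_eq_of_mul_eq_one_right ?_
            rw [hv2]; simp [mul_add, add_mul, smul_mul_assoc, mul_smul_comm, hs.sq]
          exact ⟨by rw [hv2, add_sub_cancel_left]; exact Submodule.smul_mem _ _ left_mem_shiftOps,
            by rw [hinv, add_sub_cancel_left]; exact Submodule.smul_mem _ _ left_mem_shiftOps⟩
      · refine ⟨hG, ?_, ?_⟩
        · rw [hv2, h1, hact.rep_lo, ← Algebra.smul_def, map_smul, add_mul, add_mul, smul_mul_assoc,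
            smul_mul_assoc, smul_mul_assoc, hκlamq, mul_assoc t f f, hsf]
        · have hinv : ((x.2⁻¹ : GLM) : Module.End k M) = 1 + (-c) • t := by
            refine Units.inv_eq_of_mul_eq_one_right ?_
            rw [hv2]; simp [mul_add, add_mul, smul_mul_assoc, mul_smul_comm, ht.sq]
          exact ⟨by rw [hv2, add_sub_cancel_left]; exact Submodule.smul_mem _ _ right_mem_shiftOps,
            by rw [hinv, add_sub_cancel_left]; exact Submodule.smul_mem _ _ right_mem_shiftOps⟩
    | one => exact ⟨G.one_mem, by simp, one_mem _⟩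
    | mul x y _ _ hx hy =>
      refine ⟨G.mul_mem hx.1 hy.1, ?_, mul_mem hx.2.2 hy.2.2⟩
      rw [Prod.snd_mul, Prod.fst_mul, map_mul, Units.val_mul, Units.val_mul, mul_assoc, hy.2.1]
      have hcf : ((hact.rep y.1 : GLM) : Module.End k M) * f = f * ((hact.rep y.1 : GLM) : Module.End k M) := by
        rw [hact.rep_val, ← qf]
        have hc := hact.corner (mat y.1)
        simp only [sub_mul, mul_sub, add_mul _ (theta κ s1 q (mat y.1)), mul_add _ _ (theta κ s1 q (mat y.1)),
          one_mul, mul_one, hc.1, hc.2]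
      rw [hcf, ← mul_assoc, hx.2.1, mul_assoc, ← hcf, mul_assoc]
    | inv x _ hx =>
      refine ⟨G.inv_mem hx.1, ?_, inv_mem hx.2.2⟩
      have hcf : ∀ g, ((hact.rep g : GLM) : Module.End k M) * f = f * ((hact.rep g : GLM) : Module.End k M) := by
        intro g
        rw [hact.rep_val, ← qf]
        have hc := hact.corner (mat g)
        simp only [sub_mul, mul_sub, add_mul _ (theta κ s1 q (mat g)), mul_add _ _ (theta κ s1 q (mat g)),
          one_mul, mul_one, hc.1, hc.2]
      rw [Prod.snd_inv, Prod.fst_inv, map_inv]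
      apply (Units.mul_right_inj x.2).1
      rw [← mul_assoc, Units.mul_inv, one_mul, ← map_inv, hcf, ← mul_assoc, hx.2.1, mul_assoc,
        ← hcf, ← mul_assoc, ← Units.val_mul, ← map_mul, mul_inv_cancel, map_one, Units.val_one,
        one_mul]
  -- iterated commutators
  let Q : ℕ → Subgroup (Matrix.SpecialLinearGroup (Fin 2) A × GLM) := fun n =>
    Nat.rec P (fun _ Qn => ⁅Qn, P⁆) n
  have hQP : ∀ n, Q n ≤ P := by
    intro n
    induction n with
    | zero => exact le_rfl
    | succ n ih =>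
      show ⁅Q n, P⁆ ≤ P
      rw [Subgroup.commutator_le]
      intro g hg h hh
      exact mul_mem (mul_mem (mul_mem (ih hg) hh) (inv_mem (ih hg))) (inv_mem hh)
  have hQc : ∀ n, ∀ x ∈ Q n, x.2 ∈ congrUnits hc₀s hc₀t (n + 1) := by
    intro n
    induction n with
    | zero => exact fun x hx => (hinv x hx).2.2
    | succ n ih =>
      suffices h : ⁅Q n, P⁆ ≤ (congrUnits hc₀s hc₀t (n + 1 + 1)).comap (MonoidHom.snd _ _) by
        exact fun x hx => h hx
      rw [Subgroup.commutator_le]
      intro g hg h hh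
      rw [Subgroup.mem_comap, commutatorElement_def, map_mul, map_mul, map_mul, map_inv, map_inv]
      exact commutator_mem_congrUnits hc₀s hc₀t (ih g hg) (hinv h hh).2.2
  have hP1 : elem A ≤ P.map (MonoidHom.fst _ _) := by
    refine elem_le h2 hk3 _ A le_rfl lam hlamu hgen _ (fun c => ?_) (fun c => ?_)
    · obtain ⟨g, hg, e⟩ := hs.fam c
      exact ⟨(up (algebraMap k A c), g), Subgroup.subset_closure ⟨hg, c, Or.inl ⟨rfl, e⟩⟩, rfl⟩
    · obtain ⟨g, hg, e⟩ := ht.fam c
      exact ⟨(lo (algebraMap k A c * lam), g), Subgroup.subset_closure ⟨hg, c, Or.inr ⟨rfl, e⟩⟩, rfl⟩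
  have hperf : elem A ≤ ⁅elem A, elem A⁆ := by
    obtain ⟨c, hc0, hc2⟩ := exists_sq_ne_one' h2 hk3
    have hd : c * c - 1 ≠ 0 := fun e => hc2 (by linear_combination e)
    have hup : ∀ a : A, up a ∈ ⁅elem A, elem A⁆ := by
      intro a
      set b := algebraMap k A (-c⁻¹) with hb
      have hab : algebraMap k A c * b = -1 := by
        rw [hb, ← map_mul, mul_neg, mul_inv_cancel₀ hc0, map_neg, map_one]
      have := Subgroup.commutator_mem_commutator (dia_mem_elem (algebraMap k A c) b)
        (up_mem_elem (algebraMap k A (c * c - 1)⁻¹ * a))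
      rw [commutatorElement_def, dia_conj_up hab, up_inv, up_add] at this
      convert this using 2
      rw [← map_mul]
      have h1 : (algebraMap k A (c * c) - 1) * algebraMap k A (c * c - 1)⁻¹ = 1 := by
        rw [← map_one (algebraMap k A), ← map_sub, ← map_mul, mul_inv_cancel₀ hd]
      linear_combination (-a) * h1
    rw [elem_le_iff]
    refine ⟨hup, fun a => ?_⟩
    set w := (up 1 * lo (-1) * up 1 : Matrix.SpecialLinearGroup (Fin 2) A) with hw
    have hwm : w ∈ elem A := mul_mem (mul_mem (up_mem_elem 1) (lo_mem_elem (-1))) (up_mem_elem 1)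
    have hconj : (⁅elem A, elem A⁆).map (MulAut.conj w).toMonoidHom ≤ ⁅elem A, elem A⁆ := by
      rw [Subgroup.map_commutator]
      apply Subgroup.commutator_mono <;> rintro _ ⟨y, hy, rfl⟩ <;>
        exact mul_mem (mul_mem hwm hy) (inv_mem hwm)
    have h' : w * up (-a) * w⁻¹ ∈ ⁅elem A, elem A⁆ := hconj ⟨_, hup (-a), rfl⟩
    rwa [hw, weyl_conj_up, neg_neg] at h'
  have hQ1 : ∀ n, elem A ≤ (Q n).map (MonoidHom.fst _ _) := by
    intro n
    induction n with
    | zero => exact hP1
    | succ n ih =>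
      show elem A ≤ (⁅Q n, P⁆).map _
      rw [Subgroup.map_commutator]
      exact hperf.trans (Subgroup.commutator_mono ih hP1)
  -- elements of the corner in `G`
  have hG1 : ∀ g ∈ elem A, hact.rep g ∈ G := by
    intro g hg
    obtain ⟨⟨g', h⟩, hx, rfl⟩ := hQ1 (2 * N) hg
    obtain ⟨hG, hf1, -⟩ := hinv _ (hQP _ hx)
    have hc := mul_eq_zero_of_shiftOps (wordSpace_eq_bot hs.sq ht.sq hc₀s hc₀t hN) (hQc _ _ hx).1
    have : hact.rep g' = h := by
      apply Units.ext
      rw [sub_mul, one_mul, sub_eq_zero] at hc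
      have hrc : ((hact.rep g' : GLM) : Module.End k M) * c₀ = c₀ := by
        rw [hact.rep_val, hc₀, ← qf]
        have hc' := hact.corner (mat g')
        have hff' : (s1 * q + q * s1) * (s1 * q + q * s1) = s1 * q + q * s1 := by rw [qf, hsf]
        simp only [mul_sub, mul_one, add_mul _ (theta κ s1 q (mat g')), sub_mul, one_mul, hc'.1, hff']
        abel
      calc ((hact.rep g' : GLM) : Module.End k M)
          = (hact.rep g' : GLM) * f + (hact.rep g' : GLM) * c₀ := by
            rw [← mul_add, hc₀, add_sub_cancel, mul_one]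
        _ = (h : Module.End k M) * f + (h : Module.End k M) * c₀ := by rw [hrc, hc, ← hf1]
        _ = h := by rw [← mul_add, hc₀, add_sub_cancel, mul_one]
    show hact.rep g' ∈ G
    rw [this]; exact hG
  have hfamS : ∀ a, Fam G (κ a * s1) := fun a c =>
    ⟨_, hG1 _ (up_mem_elem (c • a)), by rw [hact.rep_up, map_smul, smul_mul_assoc]⟩
  have hfamQ : ∀ a, Fam G (κ a * q) := fun a c =>
    ⟨_, hG1 _ (lo_mem_elem (c • a)), by rw [hact.rep_lo, map_smul, smul_mul_assoc]⟩
  -- ranks
  have hrS : ∀ a, LinearMap.range (κ a * s1) ≤ LinearMap.range s := by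
    intro a
    rw [hκs, hs1, mul_assoc]; exact range_mul_le _ _
  have hrQ : ∀ a, LinearMap.range (κ a * q) ≤ LinearMap.range t := by
    intro a
    rw [hκq, hq, mul_assoc]; exact range_mul_le _ _
  have hsqS : ∀ a, κ a * s1 * (κ a * s1) = 0 := fun a => by
    rw [mul_assoc, ← mul_assoc s1, ← hκs, mul_assoc (κ a) s1, q1, mul_zero, mul_zero]
  have hsqQ : ∀ a, κ a * q * (κ a * q) = 0 := fun a => by
    rw [mul_assoc, ← mul_assoc q, ← hκq, mul_assoc (κ a) q, q2, mul_zero, mul_zero]
  have hf0 : f ≠ 0 := by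
    intro h0
    apply hnil
    have hzN : z ^ N = 0 := by
      have h' := hN
      rwa [hc₀, h0, sub_zero, mul_one] at h'
    refine ⟨N + 1, ?_⟩
    have : ∀ n, (t * s) ^ (n + 1) = t * s * z ^ n := by
      intro n
      induction n with
      | zero => simp
      | succ n ih =>
        rw [pow_succ', ih, ← mul_assoc, show t * s * (t * s) = t * s * z by
          rw [hz, mul_add, show t * s * (s * t) = 0 by
            rw [mul_assoc, ← mul_assoc s, hs.sq, zero_mul, mul_zero], zero_add],
          mul_assoc, ← pow_succ']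
    rw [this, hzN, mul_zero]
  have hκnil : ∀ a, κ a * s1 = 0 → a = 0 := by
    intro a ha
    apply hκinj
    rw [map_zero, ← mul_one a, hκmul, hκone, ← qf, mul_add, ← mul_assoc, ha, zero_mul, zero_add,
      ← mul_assoc, hκq, mul_assoc, ha, mul_zero]
  have h1nt : (1 : A) ≠ 0 := fun e => hf0 (by rw [← hκone, e, map_zero])
  have hrangeS : ∀ a, a ≠ 0 → LinearMap.range (κ a * s1) = LinearMap.range s := by
    intro a ha
    have := hm.root_of_range hs.rank (hsqS a) (hfamS a) (fun e => ha (hκnil a e)) (hrS a)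
    exact range_eq_of_le (hrS a) (by rw [hs.rank, this.rank])
  have hs1eq : s1 = s := by
    have h := hrangeS 1 h1nt
    have hfs1 : f * s1 = s1 := by rw [hs1, ← mul_assoc, hfs, mul_assoc, hsf]
    rw [hκone, hfs1] at h
    ext m
    obtain ⟨y, hy⟩ := (h.ge ⟨m, rfl⟩ : s m ∈ LinearMap.range s1)
    rw [hs1, ← hfs, Module.End.mul_apply, ← hy, ← Module.End.mul_apply, hfs1, hy]
  have hq0 : q ≠ 0 := by
    intro e
    exact hf0 (by rw [← qf, e, mul_zero, zero_mul, add_zero])
  have hftq : f * t = t := by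
    have hqr : Root G d q := by
      have := hfamQ 1
      rw [hκone, show f * q = q by rw [hq, ← mul_assoc, hft, mul_assoc, hfv]] at this
      exact hm.root_of_range ht.rank q2 this hq0 (by rw [hq]; exact range_mul_le t v)
    have h := range_eq_of_le (x := q) (s := t) (by rw [hq]; exact range_mul_le t v) (by rw [ht.rank, hqr.rank])
    ext m
    obtain ⟨y, hy⟩ := (h.ge ⟨m, rfl⟩ : t m ∈ LinearMap.range q)
    rw [Module.End.mul_apply, ← hy, ← Module.End.mul_apply,
      show f * q = q by rw [hq, ← mul_assoc, hft, mul_assoc, hfv]]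
  haveI : Nontrivial A := ⟨⟨1, 0, h1nt⟩⟩
  haveI : NoZeroDivisors A := by
    refine ⟨fun {a b} hab => ?_⟩
    by_cases hb : b = 0
    · exact Or.inr hb
    refine Or.inl (hκnil a ?_)
    have h0 : κ a * (κ b * s1) = 0 := by rw [← mul_assoc, ← hκmul, hab, map_zero, zero_mul]
    ext m
    have hm' : s1 m ∈ LinearMap.range (κ b * s1) := by
      rw [hrangeS b hb, hs1eq]; exact ⟨m, rfl⟩
    obtain ⟨y, hy⟩ := hm'
    rw [Module.End.mul_apply, ← hy, ← Module.End.mul_apply, h0]
    rfl
  haveI : IsDomain A := NoZeroDivisors.to_isDomain A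
  letI : Field A := (isField_of_isIntegral_of_isField' (R := k) (S := A) (Field.toIsField k)).toField
  refine ⟨A, inferInstance, inferInstance, lam, κ, q, hs1eq ▸ hact, Algebra.IsAlgebraic.isAlgebraic lam,
    hgen, hlamu.ne_zero, hκinj, ?_, fun a => ?_, fun a => ?_⟩
  · rw [hκlamq, ← hft, hftq]
  · rw [← hs1eq]
    refine ⟨hsqS a, hfamS a, ?_, fun m hm' => ?_⟩
    · rw [hs1eq]; exact hs1eq ▸ hrS a
    · rw [hs1eq] at hm' ⊢
      exact ker_le_ker_mul _ _ hm'
  · refine ⟨hsqQ a, hfamQ a, hrQ a, ?_⟩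
    rw [hq, ← hvt, ← mul_assoc]
    exact ker_le_ker_mul _ _

end CfsgLib.QuadPair
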