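import Cfsg.Agent.Lib.QuadPair.Basic

/-!
Two roots `s`, `t` with `ts` nilpotent satisfy `sts = tst = 0`.
-/

set_option autoImplicit false

namespace CfsgLib.QuadPair

variable {k : Type*} [Field k] {M : Type*} [AddCommGroup M] [Module k M] [FiniteDimensional k M]
variable {G : Subgroup (LinearMap.GeneralLinearGroup k M)} {d : ℕ}

omit [FiniteDimensional k M] in
theorem conjOp_one_add {s : Module.End k M} (hs : s * s = 0) {g : LinearMap.GeneralLinearGroup k M}
    {c : k} (hg : (g : Module.End k M) = 1 + c • s) (t : Module.End k M) :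
    conjOp g t = t + c • (s * t - t * s) - (c * c) • (s * t * s) := by
  have hi : ((g⁻¹ : LinearMap.GeneralLinearGroup k M) : Module.End k M) = 1 - c • s := by
    refine Units.inv_eq_of_mul_eq_one_right ?_
    rw [hg]
    simp [mul_sub, add_mul, smul_mul_assoc, mul_smul_comm, hs]
  rw [conjOp, hg, hi]
  simp only [add_mul, mul_sub, one_mul, mul_one, smul_mul_assoc, mul_smul_comm, smul_sub, smul_add, smul_smul]
  abel

omit [FiniteDimensional k M] in
theorem pow_mul_swap (s t : Module.End k M) (n : ℕ) : (t * s) ^ n * t = t * (s * t) ^ n := by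
  induction n with
  | zero => simp
  | succ n ih => rw [pow_succ', pow_succ', mul_assoc, ih]; simp [mul_assoc]

omit [FiniteDimensional k M] in
theorem isNilpotent_swap {s t : Module.End k M} (h : IsNilpotent (s * t)) : IsNilpotent (t * s) := by
  obtain ⟨n, hn⟩ := h
  refine ⟨n + 1, ?_⟩
  rw [pow_succ, ← mul_assoc, pow_mul_swap, hn, mul_zero, zero_mul]

/-- If `(ts)²t = 0` then `tst = 0`. -/
theorem tst_step (hm : MinRank G d) (h2 : (2 : k) ≠ 0) {s t : Module.End k M} (hss : s * s = 0)
    (hsF : Fam G s) (ht : Root G d t) (h : t * s * t * s * t = 0) : t * s * t = 0 := by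
  have htt := ht.sq
  have e1 : ∀ x : Module.End k M, s * (s * x) = 0 := fun x => by rw [← mul_assoc, hss, zero_mul]
  have e2 : ∀ x : Module.End k M, t * (t * x) = 0 := fun x => by rw [← mul_assoc, htt, zero_mul]
  have e3 : t * (s * (t * (s * t))) = 0 := by simpa [mul_assoc] using h
  have e4 : ∀ x : Module.End k M, t * (s * (t * (s * (t * x)))) = 0 := fun x => by
    have := congrArg (· * x) e3
    simpa [mul_assoc] using this
  -- `x c` is the commutator of `t` and its conjugate
  have key : ∀ c : k, Fam G ((2 * c) • (t * (s * t)) -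
      (c * c) • (t * (s * (t * s)) - s * (t * (s * t)))) := by
    intro c
    obtain ⟨g, hg, hgv⟩ := hsF c
    obtain ⟨g', hg', hgv'⟩ := hsF (-c)
    have hu := conjOp_one_add hss hgv t
    have hu' := conjOp_one_add hss hgv' t
    have h1 : t * conjOp g t * t = 0 := by
      rw [hu]
      simp [mul_add, add_mul, mul_sub, sub_mul, smul_sub, mul_assoc, htt, e2, e3]
    have h1' : t * conjOp g' t * t = 0 := by
      rw [hu']
      simp [mul_add, add_mul, mul_sub, sub_mul, smul_sub, mul_assoc, htt, e2, e3]
    have hinv : conjOp g (conjOp g' t) = t := by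
      have : g * g' = 1 := Units.ext (by
        rw [Units.val_mul, hgv, hgv']
        simp [mul_add, add_mul, smul_mul_assoc, mul_smul_comm, hss])
      rw [eq_inv_of_mul_eq_one_right this]
      simp [conjOp, ← mul_assoc]
    have h2' : conjOp g t * t * conjOp g t = 0 := by
      calc conjOp g t * t * conjOp g t = conjOp g (t * conjOp g' t * t) := by
            rw [conjOp_mul, conjOp_mul, hinv]
        _ = 0 := by rw [h1', conjOp_zero]
    have := Fam.comm ht.fam (ht.conj hg).fam htt (ht.conj hg).sq h1 h2'
    convert this using 1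
    rw [hu]
    simp [mul_add, add_mul, mul_sub, sub_mul, smul_sub, mul_assoc, htt, e2, smul_smul]
    module
  set A := t * (s * (t * s)) - s * (t * (s * t)) with hA
  have hprod : ((2 : k) • (t * (s * t)) - A) * ((2 : k) • (t * (s * t)) + A) = 0 := by
    simp [hA, mul_add, add_mul, mul_sub, sub_mul, smul_sub, mul_assoc, htt, hss, e1, e2, e3, e4,
      smul_mul_assoc, mul_smul_comm]
  have hplus := key 1
  have hminus := (key (-1)).neg
  simp only [mul_one, one_smul, mul_neg, neg_mul, neg_neg, neg_smul, ← hA] at hplus hminus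
  have hsum : Fam G ((4 : k) • (t * (s * t))) := by
    have := hplus.add (y := (2 : k) • (t * (s * t)) + A) (by convert hminus using 1; abel) hprod
    convert this using 1
    rw [show (4 : k) = 2 + 2 by norm_num, add_smul]
    abel
  have h4 : (4 : k) ≠ 0 := by
    rw [show (4 : k) = 2 * 2 by norm_num]; exact mul_ne_zero h2 h2
  have hfam := hsum.of_smul h4
  rw [← mul_assoc] at hfam
  by_contra hne
  have hsq : t * s * t * (t * s * t) = 0 := by simp [mul_assoc, e2]
  have hrange : LinearMap.range (t * s * t) ≤ LinearMap.range t := by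
    rw [mul_assoc]; exact range_mul_le _ _
  have heq := range_eq_of_le hrange (by rw [ht.rank]; exact hm.min _ hsq hfam hne)
  have hmap : (LinearMap.range t).map (t * s) = LinearMap.range t := by
    rw [← range_mul]; exact heq
  have : LinearMap.range (t * s * t * s * t) = LinearMap.range t := by
    rw [show t * s * t * s * t = (t * s) * ((t * s) * t) by simp [mul_assoc], range_mul, range_mul,
      hmap, hmap]
  rw [h, LinearMap.range_zero] at this
  exact ht.ne_zero hm (LinearMap.range_eq_bot.1 this.symm)

/-- A root and a quadratic operator with nilpotent product. -/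
theorem tst_quad (hm : MinRank G d) (h2 : (2 : k) ≠ 0) {s t : Module.End k M} (hs : s * s = 0)
    (hsF : Fam G s) (ht : Root G d t) (h : IsNilpotent (t * s)) : t * s * t = 0 := by
  obtain ⟨n, hn⟩ := h
  have : ∀ n, ∀ s t : Module.End k M, s * s = 0 → Fam G s → Root G d t → (t * s) ^ n * t = 0 → t * s * t = 0 := by
    intro n
    induction n using Nat.strong_induction_on with
    | _ n ih =>
      intro s t hs hsF ht hn
      by_cases hn2 : n ≤ 2
      · refine tst_step hm h2 hs hsF ht ?_
        have h2' : (t * s) ^ 2 * t = 0 := by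
          rw [← Nat.sub_add_cancel hn2, pow_add, mul_assoc, hn, mul_zero]
        simpa [pow_two, mul_assoc] using h2'
      · obtain ⟨g, hg, hgv⟩ := hsF 1
        have hu := conjOp_one_add hs hgv t
        have e2 : ∀ x : Module.End k M, t * (t * x) = 0 := fun x => by
          rw [← mul_assoc, ht.sq, zero_mul]
        have htut : t * conjOp g t * t = -((t * s) ^ 2 * t) := by
          rw [hu]
          simp [mul_add, add_mul, mul_sub, sub_mul, mul_assoc, ht.sq, e2, pow_two]
        have hpow : ∀ j : ℕ, (t * conjOp g t) ^ j * t = (-1 : k) ^ j • ((t * s) ^ (2 * j) * t) := by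
          intro j
          induction j with
          | zero => simp
          | succ j ihj =>
            rw [pow_succ' (t * conjOp g t), mul_assoc, ihj, mul_smul_comm, pow_mul_swap,
              ← mul_assoc (t * conjOp g t), htut, neg_mul, mul_assoc, ← pow_mul_swap, ← mul_assoc,
              ← pow_add, pow_succ, show 2 * (j + 1) = 2 + 2 * j by ring]
            simp
        have h2' := ih ((n + 1) / 2) (by omega) (conjOp g t) t (ht.conj hg).sq (ht.conj hg).fam ht (by
          rw [hpow, ← Nat.sub_add_cancel (show n ≤ 2 * ((n + 1) / 2) by omega), pow_add, mul_assoc,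
            hn, mul_zero, smul_zero])
        rw [htut, neg_eq_zero] at h2'
        exact tst_step hm h2 hs hsF ht (by simpa [pow_two, mul_assoc] using h2')
  exact this n s t hs hsF ht (by rw [hn, zero_mul])

/-- Roots with nilpotent product. -/
theorem tst_eq_zero (hm : MinRank G d) (h2 : (2 : k) ≠ 0) {s t : Module.End k M} (hs : Root G d s)
    (ht : Root G d t) (h : IsNilpotent (t * s)) : t * s * t = 0 :=
  tst_quad hm h2 hs.sq hs.fam ht h

theorem unip (hm : MinRank G d) (h2 : (2 : k) ≠ 0) {s t : Module.End k M} (hs : Root G d s)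
    (ht : Root G d t) (h : IsNilpotent (t * s)) :
    t * s * t = 0 ∧ s * t * s = 0 ∧ Fam G (s * t - t * s) := by
  have h1 := tst_eq_zero hm h2 hs ht h
  have h3 := tst_eq_zero hm h2 ht hs (isNilpotent_swap h)
  exact ⟨h1, h3, Fam.comm hs.fam ht.fam hs.sq ht.sq h3 h1⟩

end CfsgLib.QuadPair
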